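import Groth.Agent.H9.TorNull
import Mathlib.Algebra.Category.ModuleCat.Monoidal.Closed
import Mathlib.CategoryTheory.Abelian.LeftDerived

set_option autoImplicit false
set_option linter.unusedSectionVars false
universe u

namespace Groth.Agent.H9

open CategoryTheory CategoryTheory.Limits MonoidalCategory

variable {R : Type u} [CommRing R]

/-- the comparison `Tor_n(X, N) ≅ H_n(X ⊗ Q•)`. -/
noncomputable def torIsoHomology (X : ModuleCat.{u} R) {N : ModuleCat.{u} R}
    (Q : ProjectiveResolution N) (n : ℕ) :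
    ((Tor (ModuleCat.{u} R) n).obj X).obj N ≅ (tK Q.complex X).homology n :=
  Q.isoLeftDerivedObj ((tensoringLeft (ModuleCat.{u} R)).obj X) n

lemma flat_of_projectiveResolution {N : ModuleCat.{u} R} (Q : ProjectiveResolution N) (i : ℕ) :
    Module.Flat R (Q.complex.X i) := by
  have := Q.projective i
  have : Module.Projective R (Q.complex.X i) :=
    (IsProjective.iff_projective (Q.complex.X i)).2 this
  infer_instance

/-- half-exactness of `Tor` in the first variable. -/
theorem isZero_tor_of_shortExact {S : ShortComplex (ModuleCat.{u} R)} (hS : S.ShortExact)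
    (N : ModuleCat.{u} R) (n : ℕ)
    (h₁ : IsZero (((Tor (ModuleCat.{u} R) n).obj S.X₁).obj N))
    (h₃ : IsZero (((Tor (ModuleCat.{u} R) n).obj S.X₃).obj N)) :
    IsZero (((Tor (ModuleCat.{u} R) n).obj S.X₂).obj N) := by
  let Q := ProjectiveResolution.of N
  have hK := tKsc_shortExact Q.complex (flat_of_projectiveResolution Q) hS
  have hex := hK.homology_exact₂ n
  have z₁ : IsZero ((tK Q.complex S.X₁).homology n) := IsZero.of_iso h₁ (torIsoHomology _ Q n).symm
  have z₃ : IsZero ((tK Q.complex S.X₃).homology n) := IsZero.of_iso h₃ (torIsoHomology _ Q n).symm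
  have z₂ : IsZero ((tK Q.complex S.X₂).homology n) :=
    hex.isZero_of_both_zeros (z₁.eq_of_src _ _) (z₃.eq_of_tgt _ _)
  exact IsZero.of_iso z₂ (torIsoHomology _ Q n)

/-- the connecting map `Tor_{n+1}(X₃, N) ⟶ Tor_n(X₁, N)` is a monomorphism when the middle term is
flat. -/
theorem exists_mono_tor_succ {S : ShortComplex (ModuleCat.{u} R)} (hS : S.ShortExact)
    [Module.Flat R S.X₂] (N : ModuleCat.{u} R) (n : ℕ) :
    ∃ f : ((Tor (ModuleCat.{u} R) (n + 1)).obj S.X₃).obj N ⟶
      ((Tor (ModuleCat.{u} R) n).obj S.X₁).obj N, Mono f := by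
  let Q := ProjectiveResolution.of N
  have hK := tKsc_shortExact Q.complex (flat_of_projectiveResolution Q) hS
  have hrel : (ComplexShape.down ℕ).Rel (n + 1) n := by simp
  have hmono : Mono (hK.δ (n + 1) n hrel) := hK.mono_δ _ _ _ (isZero_homology_tK Q S.X₂ n)
  have h1 : Mono (torIsoHomology S.X₁ Q n).inv := inferInstance
  have h2 : Mono (hK.δ (n + 1) n hrel ≫ (torIsoHomology S.X₁ Q n).inv) :=
    @mono_comp _ _ _ _ _ _ hmono _ h1
  have h3 : Mono (torIsoHomology S.X₃ Q (n + 1)).hom := inferInstance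
  exact ⟨(torIsoHomology S.X₃ Q (n + 1)).hom ≫ hK.δ (n + 1) n hrel ≫
    (torIsoHomology S.X₁ Q n).inv, @mono_comp _ _ _ _ _ _ h3 _ h2⟩

/-- `Tor_0(X, N) ≅ X ⊗ N`. -/
noncomputable def torZeroIso (X N : ModuleCat.{u} R) :
    ((Tor (ModuleCat.{u} R) 0).obj X).obj N ≅ X ⊗ N :=
  haveI : PreservesFiniteColimits ((tensoringLeft (ModuleCat.{u} R)).obj X) :=
    inferInstanceAs (PreservesFiniteColimits (tensorLeft X))
  ((tensoringLeft (ModuleCat.{u} R)).obj X).leftDerivedZeroIsoSelf.app N

/-- functoriality of `Tor` in the first variable, for isomorphisms. -/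
noncomputable def torMapIso {X X' : ModuleCat.{u} R} (e : X ≅ X') (N : ModuleCat.{u} R) (n : ℕ) :
    ((Tor (ModuleCat.{u} R) n).obj X).obj N ≅ ((Tor (ModuleCat.{u} R) n).obj X').obj N :=
  ((Tor (ModuleCat.{u} R) n).mapIso e).app N

end Groth.Agent.H9
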