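import Groth.Agent.H9.TorLES
import Groth.Agent.H18.TorSplice

set_option autoImplicit false
set_option linter.unusedSectionVars false
universe u

namespace Groth.Agent.H9

open CategoryTheory CategoryTheory.Limits MonoidalCategory

variable {R : Type u} [CommRing R]

/-- `Tor_1(X, M) = 0` iff `X ⊗ M' → X ⊗ P` is injective, for a short exact sequence
`0 → M' → P → M → 0` with `P` projective. -/
theorem isZero_tor_one_iff_injective {S : ShortComplex (ModuleCat.{u} R)} (hS : S.ShortExact)
    [Projective S.X₂] (X : ModuleCat.{u} R) :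
    IsZero (((Tor (ModuleCat.{u} R) 1).obj X).obj S.X₃) ↔
      Function.Injective (LinearMap.lTensor X S.f.hom) := by
  let F : ModuleCat.{u} R ⥤ ModuleCat.{u} R := (tensoringLeft (ModuleCat.{u} R)).obj X
  have hF : PreservesFiniteColimits F := inferInstanceAs (PreservesFiniteColimits (tensorLeft X))
  obtain ⟨e⟩ := Groth.Agent.H18.leftDerived_one_iso_kernel F hS
  have h1 : IsZero (((Tor (ModuleCat.{u} R) 1).obj X).obj S.X₃) ↔ IsZero (kernel (F.map S.f)) :=
    ⟨fun h => IsZero.of_iso h e.symm, fun h => IsZero.of_iso h e⟩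
  rw [h1]
  have h2 : Mono (F.map S.f) ↔ Function.Injective (LinearMap.lTensor X S.f.hom) :=
    ModuleCat.mono_iff_injective (F.map S.f)
  rw [← h2]
  constructor
  · intro h
    exact Preadditive.mono_of_isZero_kernel _ h
  · intro h
    exact isZero_kernel_of_mono _

end Groth.Agent.H9
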