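import Mathlib
import Groth.Prelude.Def_DRing2
import Groth.Agent.H9.TorLES
import Groth.Agent.H9.TorOneKernel
import Groth.Agent.H36.FlatTwist

/-!
# Weak dimension ascends along weakly etale ring maps
-/

set_option autoImplicit false

universe u

namespace Groth.Agent.H9.WeakDimWE

open CategoryTheory CategoryTheory.Limits

section General

variable {R : Type u} [CommRing R]

/-- syzygy shift in the first variable. -/
theorem isZero_tor_succ_of_syzygy {S : ShortComplex (ModuleCat.{u} R)} (hS : S.ShortExact)
    [Module.Flat R S.X₂] (N : ModuleCat.{u} R) (n : ℕ)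
    (h₃ : IsZero (((Tor (ModuleCat.{u} R) (n + 2)).obj S.X₃).obj N)) :
    IsZero (((Tor (ModuleCat.{u} R) (n + 1)).obj S.X₁).obj N) := by
  let Q := ProjectiveResolution.of N
  have hK := tKsc_shortExact Q.complex (flat_of_projectiveResolution Q) hS
  have hrel : (ComplexShape.down ℕ).Rel (n + 2) (n + 1) := by simp
  have hex := hK.homology_exact₁ (n + 2) (n + 1) hrel
  have z₃ : IsZero ((tK Q.complex S.X₃).homology (n + 2)) :=
    IsZero.of_iso h₃ (torIsoHomology S.X₃ Q (n + 2)).symm
  have z₂ : IsZero ((tK Q.complex S.X₂).homology (n + 1)) := isZero_homology_tK Q S.X₂ n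
  have z₁ := hex.isZero_of_both_zeros (z₃.eq_of_src _ _) (z₂.eq_of_tgt _ _)
  exact IsZero.of_iso z₁ (torIsoHomology _ Q (n + 1))

/-- a module all of whose `Tor_1` vanish is flat. -/
theorem flat_of_isZero_tor_one (X : Type u) [AddCommGroup X] [Module R X]
    (h : ∀ (N : Type u) [AddCommGroup N] [Module R N],
      IsZero (((Tor (ModuleCat.{u} R) 1).obj (ModuleCat.of R X)).obj (ModuleCat.of R N))) :
    Module.Flat R X := by
  rw [Module.Flat.iff_lTensor_injective]
  intro I _
  let S : ShortComplex (ModuleCat.{u} R) :=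
    ShortComplex.mk (ModuleCat.ofHom I.subtype) (ModuleCat.ofHom (Submodule.mkQ I)) (by
      ext x
      change (Submodule.mkQ I) (I.subtype x) = 0
      rw [Submodule.mkQ_apply, Submodule.Quotient.mk_eq_zero]
      exact x.2)
  have hS : S.ShortExact := ModuleCat.shortComplex_shortExact S
    (by
      intro y
      change (Submodule.mkQ I) y = 0 ↔ y ∈ Set.range I.subtype
      rw [Submodule.mkQ_apply, Submodule.Quotient.mk_eq_zero]
      simp)
    (Submodule.subtype_injective I) (Submodule.mkQ_surjective I)
  have hproj : Projective S.X₂ :=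
    (IsProjective.iff_projective (R := R) (P := R)).mp inferInstance
  exact (isZero_tor_one_iff_injective hS (ModuleCat.of R X)).mp (h (R ⧸ I))

end General

section Main

variable (A B : Type u) [CommRing A] [CommRing B] [Algebra A B] [Algebra.WeaklyEtale A B]

omit [Algebra.WeaklyEtale A B] in
theorem step (d : ℕ) {K F Z : Type u} [AddCommGroup K] [Module B K] [Module A K]
    [IsScalarTower A B K] [AddCommGroup F] [Module B F] [Module A F] [IsScalarTower A B F]
    [AddCommGroup Z] [Module B Z] [Module A Z] [IsScalarTower A B Z]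
    (i : K →ₗ[B] F) (p : F →ₗ[B] Z) (hi : Function.Injective i) (hex : Function.Exact i p)
    (hp : Function.Surjective p) [Module.Flat B F] [Module.Flat A F]
    (hZ : DRing.HasTorDimLE A (d + 1) Z)
    (ih : DRing.HasTorDimLE A d K → DRing.HasTorDimLE B d K) :
    DRing.HasTorDimLE B (d + 1) Z := by
  -- the sequence over `B`
  let SB : ShortComplex (ModuleCat.{u} B) :=
    ShortComplex.mk (ModuleCat.ofHom i) (ModuleCat.ofHom p) (by
      ext x
      exact hex.apply_apply_eq_zero x)
  have hSB : SB.ShortExact := ModuleCat.shortComplex_shortExact SB hex hi hp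
  -- the sequence over `A`
  let SA : ShortComplex (ModuleCat.{u} A) :=
    ShortComplex.mk (ModuleCat.ofHom (i.restrictScalars A))
      (ModuleCat.ofHom (p.restrictScalars A)) (by
      ext x
      exact hex.apply_apply_eq_zero x)
  have hSA : SA.ShortExact := ModuleCat.shortComplex_shortExact SA hex hi hp
  have hFB' : Module.Flat B SB.X₂ := ‹Module.Flat B F›
  have hFA' : Module.Flat A SA.X₂ := ‹Module.Flat A F›
  -- the syzygy has smaller tor dimension over `A`
  have hK : DRing.HasTorDimLE A d K := by
    intro N _ _ q hq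
    obtain ⟨n, rfl⟩ : ∃ n, q = n + 1 := ⟨q - 1, by omega⟩
    apply ModuleCat.subsingleton_of_isZero
    apply isZero_tor_succ_of_syzygy hSA (ModuleCat.of A N) n
    exact ModuleCat.isZero_iff_subsingleton.mpr (hZ N (n + 2) (by omega))
  have hKB : DRing.HasTorDimLE B d K := ih hK
  intro N _ _ q hq
  obtain ⟨n, rfl⟩ : ∃ n, q = n + 2 := ⟨q - 2, by omega⟩
  obtain ⟨f, hf⟩ := exists_mono_tor_succ hSB (ModuleCat.of B N) (n + 1)
  have hz : IsZero (((Tor (ModuleCat.{u} B) (n + 1)).obj SB.X₁).obj (ModuleCat.of B N)) :=
    ModuleCat.isZero_iff_subsingleton.mpr (hKB N (n + 1) (by omega))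
  apply ModuleCat.subsingleton_of_isZero
  exact IsZero.of_mono f hz

theorem hasTorDimLE_of_restrict : ∀ (d : ℕ) (Z : Type u) [AddCommGroup Z] [Module B Z]
    [Module A Z] [IsScalarTower A B Z],
    DRing.HasTorDimLE A d Z → DRing.HasTorDimLE B d Z := by
  intro d
  induction d with
  | zero =>
    intro Z _ _ _ _ hZ
    have hflatA : Module.Flat A Z := by
      apply flat_of_isZero_tor_one
      intro N _ _
      exact ModuleCat.isZero_iff_subsingleton.mpr (hZ N 1 Nat.zero_lt_one)
    have hflatB : Module.Flat B Z :=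
      Groth.Agent.H36.flat_of_flat_lmul' A B Z (Algebra.WeaklyEtale.flat_lmul' A B)
    intro N _ _ p hp
    obtain ⟨n, rfl⟩ : ∃ n, p = n + 1 := ⟨p - 1, by omega⟩
    exact ModuleCat.subsingleton_of_isZero
      (isZero_tor_succ_of_flat_left (ModuleCat.of B Z) (ModuleCat.of B N) n)
  | succ d ih =>
    intro Z _ _ _ _ hZ
    have hp : Function.Surjective (Finsupp.linearCombination B (id : Z → Z)) :=
      Finsupp.linearCombination_surjective B Function.surjective_id
    have hFA : Module.Flat A (Z →₀ B) := Module.Flat.trans A B (Z →₀ B)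
    exact step A B d (LinearMap.ker (Finsupp.linearCombination B (id : Z → Z))).subtype
      (Finsupp.linearCombination B (id : Z → Z)) (Submodule.subtype_injective _)
      (LinearMap.exact_subtype_ker_map _) hp hZ
      (ih (LinearMap.ker (Finsupp.linearCombination B (id : Z → Z))))

theorem main (d : ℕ)
    (hA : ∀ (M : Type u) [AddCommGroup M] [Module A M], DRing.HasTorDimLE A d M)
    (N : Type u) [AddCommGroup N] [Module B N] : DRing.HasTorDimLE B d N := by
  letI : Module A N := Module.compHom N (algebraMap A B)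
  haveI : IsScalarTower A B N := IsScalarTower.of_algebraMap_smul (fun _ _ => rfl)
  exact hasTorDimLE_of_restrict A B d N (hA N)

end Main

end Groth.Agent.H9.WeakDimWE
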