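import Groth.Prelude.Def_Wider
import Mathlib.RingTheory.Ideal.AssociatedPrime.Finiteness
import Mathlib.RingTheory.Ideal.AssociatedPrime.Localization
import Mathlib.RingTheory.Localization.Finiteness
import Mathlib.RingTheory.Localization.Submodule
import Mathlib.RingTheory.Noetherian.Basic

set_option autoImplicit false
universe u

namespace Groth.Agent.H9

/-- Over a Noetherian ring, a maximal ideal which is not an associated prime of the finite module
`M` contains an `M`-regular element. -/
lemma exists_isSMulRegular_mem_of_notMem_associatedPrimes {R : Type u} [CommRing R]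
    [IsNoetherianRing R] {M : Type u} [AddCommGroup M] [Module R M] [Module.Finite R M]
    (I : Ideal R) [hI : I.IsMaximal] (h : I ∉ associatedPrimes R M) :
    ∃ r ∈ I, IsSMulRegular M r := by
  classical
  have hfin : (associatedPrimes R M).Finite := associatedPrimes.finite R M
  by_contra hcon
  push Not at hcon
  have hsub : (I : Set R) ⊆ ⋃ p ∈ associatedPrimes R M, (p : Set R) := by
    intro r hr
    rw [biUnion_associatedPrimes_eq_zero_divisors]
    have := hcon r hr
    rw [isSMulRegular_iff_right_eq_zero_of_smul] at this
    push Not at this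
    obtain ⟨x, hx1, hx2⟩ := this
    exact ⟨x, hx2, hx1⟩
  have hsub' : (I : Set R) ⊆ ⋃ p ∈ (hfin.toFinset : Set (Ideal R)), ((id p : Ideal R) : Set R) := by
    simpa using hsub
  rw [Ideal.subset_union_prime (f := id) ⊥ ⊥ (fun p hp _ _ => by
    have : p ∈ associatedPrimes R M := by simpa using hp
    exact this.isPrime)] at hsub'
  obtain ⟨p, hp, hIp⟩ := hsub'
  have hp' : p ∈ associatedPrimes R M := by simpa using hp
  have := hI.eq_of_le hp'.isPrime.ne_top hIp
  exact h (this ▸ hp')

/-- A finite module over a Noetherian local ring whose maximal ideal is not associated has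
depth at least one. -/
lemma one_le_depth_of_maximalIdeal_notMem_associatedPrimes {R : Type u} [CommRing R]
    [IsNoetherianRing R] [IsLocalRing R] {M : Type u} [AddCommGroup M] [Module R M]
    [Module.Finite R M]
    (h : IsLocalRing.maximalIdeal R ∉ associatedPrimes R M) : 1 ≤ LocCoh.depth R M := by
  classical
  obtain ⟨r, hr, hreg⟩ := exists_isSMulRegular_mem_of_notMem_associatedPrimes _ h
  unfold LocCoh.depth LocCoh.idealDepth
  split_ifs with htop
  · exact le_top
  · refine le_iSup₂_of_le [r] ⟨?_, ?_⟩ (by simp)
    · rw [RingTheory.Sequence.isWeaklyRegular_singleton_iff]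
      exact hreg
    · simpa using hr

end Groth.Agent.H9
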