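import Groth.Prelude.Def_Wider
import Mathlib.RingTheory.Regular.RegularSequence
import Mathlib.RingTheory.QuotSMulTop
import Mathlib.RingTheory.Support
import Mathlib.RingTheory.Localization.BaseChange
import Mathlib.RingTheory.Localization.Finiteness

set_option autoImplicit false
universe u

namespace Groth.Agent.H9

open RingTheory.Sequence

variable {A : Type u} [CommRing A]

/-- Localization commutes with `QuotSMulTop`. -/
noncomputable def localizedQuotSMulTopEquiv (S : Submonoid A) (r : A) (M : Type u)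
    [AddCommGroup M] [Module A M] :
    LocalizedModule S (QuotSMulTop r M) ≃ₗ[A] QuotSMulTop r (LocalizedModule S M) :=
  ((LocalizedModule.equivTensorProduct S (QuotSMulTop r M)).restrictScalars A) ≪≫ₗ
    (QuotSMulTop.tensorQuotSMulTopEquivQuotSMulTop r (Localization S) M) ≪≫ₗ
      (QuotSMulTop.congr r ((LocalizedModule.equivTensorProduct S M).restrictScalars A).symm)

lemma isSMulRegular_localizedModule_spread [IsNoetherianRing A] (M : Type u) [AddCommGroup M]
    [Module A M] [Module.Finite A M] (r : A) (p : Ideal A) [p.IsPrime]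
    (h : IsSMulRegular (LocalizedModule p.primeCompl M) r) :
    ∃ f ∉ p, ∀ (q : Ideal A) [q.IsPrime], f ∉ q →
      IsSMulRegular (LocalizedModule q.primeCompl M) r := by
  let K : Submodule A M := LinearMap.ker (LinearMap.lsmul A M r)
  have hKp : Subsingleton (LocalizedModule p.primeCompl K) := by
    rw [LocalizedModule.subsingleton_iff]
    intro k
    have hk : r • (k : M) = 0 := k.2
    have h1 : r • (LocalizedModule.mk (k : M) (1 : p.primeCompl)) = r • 0 := by
      rw [LocalizedModule.smul'_mk, hk, smul_zero, LocalizedModule.zero_mk]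
    have h2 := h h1
    rw [← LocalizedModule.zero_mk 1, LocalizedModule.mk_eq] at h2
    obtain ⟨u, hu⟩ := h2
    simp only [one_smul, smul_zero] at hu
    exact ⟨u, u.2, Subtype.ext hu⟩
  have hsupp : (⟨p, inferInstance⟩ : PrimeSpectrum A) ∉ Module.support A K :=
    Module.notMem_support_iff.2 hKp
  rw [Module.mem_support_iff_of_finite] at hsupp
  obtain ⟨f, hfK, hfp⟩ := Set.not_subset.1 hsupp
  refine ⟨f, hfp, fun q _ hfq => ?_⟩
  rw [isSMulRegular_iff_right_eq_zero_of_smul]
  intro x hx
  induction x using LocalizedModule.induction_on with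
  | h m s =>
    rw [LocalizedModule.smul'_mk, ← LocalizedModule.zero_mk 1, LocalizedModule.mk_eq] at hx
    obtain ⟨t, ht⟩ := hx
    simp only [one_smul, smul_zero] at ht
    have hmem : (t : A) • m ∈ K := by
      change r • ((t : A) • m) = 0
      rw [smul_comm]; exact ht
    have hf0 : f • (⟨(t : A) • m, hmem⟩ : K) = 0 := Module.mem_annihilator.1 hfK _
    have hf0' : f • ((t : A) • m) = 0 := congrArg Subtype.val hf0
    rw [← LocalizedModule.zero_mk 1, LocalizedModule.mk_eq]
    refine ⟨⟨f, hfq⟩ * t, ?_⟩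
    simp only [one_smul, smul_zero]
    rw [mul_smul]
    exact hf0'

lemma isWeaklyRegular_localizedModule_spread [IsNoetherianRing A] (rs : List A) (p : Ideal A)
    [p.IsPrime] :
    ∀ (M : Type u) [AddCommGroup M] [Module A M] [Module.Finite A M],
      IsWeaklyRegular (LocalizedModule p.primeCompl M) rs →
      ∃ f ∉ p, ∀ (q : Ideal A) [q.IsPrime], f ∉ q →
        IsWeaklyRegular (LocalizedModule q.primeCompl M) rs := by
  induction rs with
  | nil =>
    intro M _ _ _ _
    exact ⟨1, (inferInstance : p.IsPrime).one_notMem, fun q _ _ => IsWeaklyRegular.nil _ _⟩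
  | cons r rs ih =>
    intro M _ _ _ h
    rw [isWeaklyRegular_cons_iff] at h
    obtain ⟨h1, h2⟩ := h
    have h2' : IsWeaklyRegular (LocalizedModule p.primeCompl (QuotSMulTop r M)) rs :=
      ((localizedQuotSMulTopEquiv p.primeCompl r M).isWeaklyRegular_congr rs).2 h2
    obtain ⟨f₂, hf₂, H₂⟩ := ih (QuotSMulTop r M) h2'
    obtain ⟨f₁, hf₁, H₁⟩ := isSMulRegular_localizedModule_spread M r p h1
    refine ⟨f₁ * f₂, fun hmem => ((inferInstance : p.IsPrime).mem_or_mem hmem).elim hf₁ hf₂,
      fun q _ hq => ?_⟩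
    have hq1 : f₁ ∉ q := fun hmem => hq (Ideal.mul_mem_right _ _ hmem)
    have hq2 : f₂ ∉ q := fun hmem => hq (Ideal.mul_mem_left _ _ hmem)
    rw [isWeaklyRegular_cons_iff]
    exact ⟨H₁ q hq1, ((localizedQuotSMulTopEquiv q.primeCompl r M).isWeaklyRegular_congr rs).1
      (H₂ q hq2)⟩

end Groth.Agent.H9
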