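import Groth.Agent.H9.KrullAkizuki
import Mathlib.RingTheory.DedekindDomain.IntegralClosure
import Mathlib.RingTheory.DedekindDomain.AdicValuation
import Mathlib.RingTheory.IntegralClosure.IntegrallyClosed

set_option autoImplicit false
set_option linter.unusedSectionVars false
set_option linter.style.haveILetI false
universe u v

open IsDedekindDomain

namespace Groth.Agent.H9.KA

variable {B : Type u} [CommRing B] [IsDomain B] [IsNoetherianRing B] [Ring.KrullDimLE 1 B]
  {K : Type v} [Field K] [Algebra B K] [IsFractionRing B K]

variable (B K) in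
/-- the integral closure of a one-dimensional Noetherian domain in its fraction field is a
Dedekind domain. -/
theorem isDedekindDomain_integralClosure : IsDedekindDomain (integralClosure B K) := by
  have hNoeth : IsNoetherianRing (integralClosure B K) := isNoetherianRing (integralClosure B K)
  have := dimensionLEOne (B := B)
  have hIC : IsIntegrallyClosed (integralClosure B K) :=
    integralClosure.isIntegrallyClosedOfFiniteExtension K
  exact { toIsDomain := inferInstance
          toIsNoetherian := hNoeth
          toDimensionLEOne := inferInstance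
          toIsIntegralClosure := hIC }

variable (B K) in
theorem isFractionRing_integralClosure : IsFractionRing (integralClosure B K) K :=
  integralClosure.isFractionRing_of_finite_extension K K

variable (B K) in
theorem not_isField_integralClosure (hB : ¬ IsField B) : ¬ IsField (integralClosure B K) := by
  intro h
  apply hB
  refine isField_of_isIntegral_of_isField (R := B) (S := integralClosure B K) ?_ h
  intro x y hxy
  apply IsFractionRing.injective B K
  exact congrArg (fun z : integralClosure B K => (z : K)) hxy


/-- if `A` and `B` generate `K` as a ring, then `A` is not contained in the valuation ring of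
any maximal ideal of the integral closure of `B`. -/
theorem exists_one_lt_valuation [IsDedekindDomain (integralClosure B K)]
    [IsFractionRing (integralClosure B K) K]
    (A : Subring K) (hA : A ⊔ (algebraMap B K).range = ⊤)
    (v : HeightOneSpectrum (integralClosure B K)) : ∃ a ∈ A, 1 < v.valuation K a := by
  by_contra hcon
  have hcon' : ∀ a ∈ A, v.valuation K a ≤ 1 := fun a ha =>
    not_lt.1 fun h => hcon ⟨a, ha, h⟩
  let V : Subring K := (v.valuation K).integer
  have hAV : A ≤ V := fun a ha => (Valuation.mem_integer_iff _ _).2 (hcon' a ha)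
  have hBV : (algebraMap B K).range ≤ V := by
    rintro _ ⟨b, rfl⟩
    have : algebraMap B K b =
        algebraMap (integralClosure B K) K (algebraMap B (integralClosure B K) b) := rfl
    rw [Valuation.mem_integer_iff, this]
    exact v.valuation_le_one _
  have htop : V = ⊤ := top_le_iff.1 (hA ▸ sup_le hAV hBV)
  obtain ⟨t, htv, ht0⟩ := Submodule.exists_mem_ne_zero_of_ne_bot v.ne_bot
  have h1 : v.valuation K (algebraMap (integralClosure B K) K t) < 1 :=
    (v.valuation_lt_one_iff_mem t).2 htv
  have h2 : (algebraMap (integralClosure B K) K t)⁻¹ ∈ V := htop ▸ Subring.mem_top _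
  rw [Valuation.mem_integer_iff, map_inv₀] at h2
  have ht0' : algebraMap (integralClosure B K) K t ≠ 0 := fun h => ht0 (Subtype.ext h)
  have h3 : v.valuation K (algebraMap (integralClosure B K) K t) ≠ 0 :=
    (Valuation.ne_zero_iff _).2 ht0'
  exact absurd h2 (not_le.2 ((one_lt_inv₀ (zero_lt_iff.2 h3)).2 h1))

/-- if `x` has valuation `> 1` at all maximal ideals of the integral closure `T` of `B`, then all
large powers of `x⁻¹` lie in the Jacobson radical of `B`. -/
theorem exists_pow_inv_mem_jacobson [IsDedekindDomain (integralClosure B K)]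
    [IsFractionRing (integralClosure B K) K]
    (hB : ¬ IsField B) (x : K)
    (hx : ∀ v : HeightOneSpectrum (integralClosure B K), 1 < v.valuation K x) :
    ∃ n : ℕ, ∀ n', n ≤ n' → 1 ≤ n' →
      ∃ b : B, algebraMap B K b = (x⁻¹) ^ n' ∧ b ∈ (⊥ : Ideal B).jacobson := by
  have hT : ¬ IsField (integralClosure B K) := not_isField_integralClosure B K hB
  have hmax : ∀ M : Ideal (integralClosure B K), M.IsMaximal → M ≠ ⊥ := fun M hM h0 =>
    hT (Ring.isField_iff_maximal_bot.2 (h0 ▸ hM))
  obtain ⟨M₀, hM₀⟩ := Ideal.exists_maximal (integralClosure B K)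
  have hx0 : x ≠ 0 := by
    rintro rfl
    have := hx ⟨M₀, hM₀.isPrime, hmax M₀ hM₀⟩
    simp at this
  have hle : ∀ v : HeightOneSpectrum (integralClosure B K), v.valuation K x⁻¹ < 1 := fun v => by
    rw [map_inv₀]; exact inv_lt_one_of_one_lt₀ (hx v)
  obtain ⟨t, ht⟩ := HeightOneSpectrum.mem_integers_of_valuation_le_one K x⁻¹
    (fun v => (hle v).le)
  have htJ : t ∈ (⊥ : Ideal (integralClosure B K)).jacobson := by
    rw [Ideal.jacobson, Ideal.mem_sInf]
    rintro M ⟨-, hM⟩
    have h1 := hle ⟨M, hM.isPrime, hmax M hM⟩
    rw [← ht] at h1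
    exact (HeightOneSpectrum.valuation_lt_one_iff_mem (K := K)
      ⟨M, hM.isPrime, hmax M hM⟩ t).1 h1
  obtain ⟨n, hn⟩ := exists_forall_pow_mul_mem (integralClosure B K) t 1 htJ
  refine ⟨n, fun n' hn' h1 => ?_⟩
  obtain ⟨b, hb⟩ := hn n' hn'
  have htK : ((t ^ n' * 1 : integralClosure B K) : K) = (x⁻¹) ^ n' := by
    rw [mul_one, ← ht]; rfl
  refine ⟨b, hb.trans htK, ?_⟩
  rw [Ideal.jacobson, Ideal.mem_sInf]
  rintro m ⟨-, hm⟩
  haveI := hm
  have hker : RingHom.ker (algebraMap B (integralClosure B K)) ≤ m := by
    intro z hz
    have hz' : algebraMap B K z = 0 :=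
      congrArg (fun w : integralClosure B K => (w : K)) hz
    have : z = 0 := IsFractionRing.injective B K (by rw [hz', map_zero])
    rw [this]; exact m.zero_mem
  obtain ⟨Q, hQ, hQm⟩ := Ideal.exists_ideal_over_maximal_of_isIntegral
    (S := integralClosure B K) m hker
  have htQ : t ∈ Q := Ideal.mem_sInf.1 htJ ⟨bot_le, hQ⟩
  have hbt : algebraMap B (integralClosure B K) b = t ^ n' := by
    apply Subtype.ext
    change algebraMap B K b = _
    rw [hb, mul_one]
  rw [← hQm, Ideal.mem_comap, hbt]
  exact Ideal.pow_mem_of_mem _ htQ _ h1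

end Groth.Agent.H9.KA
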