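import Mathlib.Topology.NoetherianSpace
import Mathlib.Topology.Irreducible

set_option autoImplicit false
universe u

namespace Groth.Agent.H9

open TopologicalSpace

/-- In a topological space `Y`, only finitely many irreducible components meet an open subset
which is a Noetherian space. -/
lemma finite_irreducibleComponents_meeting {Y : Type u} [TopologicalSpace Y] (V : Set Y)
    (hV : IsOpen V) [NoetherianSpace V] :
    {T : irreducibleComponents Y | ((T : Set Y) ∩ V).Nonempty}.Finite := by
  have hemb : Topology.IsOpenEmbedding (Subtype.val : V → Y) := hV.isOpenEmbedding_subtypeVal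
  have hfin : (irreducibleComponents V).Finite := NoetherianSpace.finite_irreducibleComponents
  let g : {T : irreducibleComponents Y | ((T : Set Y) ∩ V).Nonempty} → irreducibleComponents V :=
    fun T => ⟨Subtype.val ⁻¹' (T.1 : Set Y),
      preimage_mem_irreducibleComponents T.1.2 hemb (by
        have := T.2
        simp only [Set.mem_ofPred_eq] at this
        rwa [Subtype.range_coe])⟩
  have hg : Function.Injective g := by
    intro T T' h
    have h1 : (Subtype.val : V → Y) ⁻¹' (T.1 : Set Y) = Subtype.val ⁻¹' (T'.1 : Set Y) :=
      congrArg Subtype.val h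
    have hT := closure_image_preimage_of_isPreirreducible (Subtype.val : V → Y) hemb.isOpenMap
      (T.1 : Set Y) (by
        obtain ⟨y, hy1, hy2⟩ := T.2
        exact ⟨⟨y, hy2⟩, hy1⟩) T.1.2.1.2 (isClosed_of_mem_irreducibleComponents _ T.1.2)
    have hT' := closure_image_preimage_of_isPreirreducible (Subtype.val : V → Y) hemb.isOpenMap
      (T'.1 : Set Y) (by
        obtain ⟨y, hy1, hy2⟩ := T'.2
        exact ⟨⟨y, hy2⟩, hy1⟩) T'.1.2.1.2 (isClosed_of_mem_irreducibleComponents _ T'.1.2)
    apply Subtype.ext
    apply Subtype.ext
    rw [← hT, ← hT', h1]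
  have : Finite (irreducibleComponents V) := hfin.to_subtype
  exact Set.finite_coe_iff.1 (Finite.of_injective g hg)

end Groth.Agent.H9
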