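import Groth.Prelude.Def_Wider
import Mathlib.Order.CompactlyGenerated.Basic
import Mathlib.Order.Zorn
import Mathlib.LinearAlgebra.Projection

set_option autoImplicit false
universe u

namespace Groth.Agent.H9

variable {R : Type u} [CommRing R] {I : Type u} [AddCommGroup I] [Module R I]

lemma exists_max_disjoint (E : Submodule R I) :
    ∃ C : Submodule R I, Disjoint C E ∧ ∀ C', C ≤ C' → Disjoint C' E → C' = C := by
  obtain ⟨C, hC⟩ := zorn_le₀ {C : Submodule R I | Disjoint C E} (fun c hc hchain =>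
    ⟨sSup c, (hchain.directedOn.disjoint_sSup_left).2 (fun b hb => hc hb),
      fun z hz => le_sSup hz⟩)
  exact ⟨C, hC.1, fun C' hle hd => le_antisymm (hC.2 hd hle) hle⟩

/-- if `E ≤ I` admits no proper essential extension inside the injective module `I`,
then `E` has a complement in `I`. -/
lemma exists_isCompl_of_no_essential [Module.Injective R I] (E : Submodule R I)
    (H : ∀ E' : Submodule R I, E ≤ E' → (∀ N : Submodule R I, N ≤ E' → N ≠ ⊥ → N ⊓ E ≠ ⊥) → E' = E) :
    ∃ C : Submodule R I, IsCompl E C := by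
  obtain ⟨C, hCE, hCmax⟩ := exists_max_disjoint E
  refine ⟨C, hCE.symm, ?_⟩
  -- the map E → I/C
  let π : I →ₗ[R] I ⧸ C := C.mkQ
  let j : E →ₗ[R] I ⧸ C := π ∘ₗ E.subtype
  have hj : Function.Injective j := by
    rw [← LinearMap.ker_eq_bot, LinearMap.ker_eq_bot']
    intro e he
    have h1 : (e : I) ∈ C := by simpa [j, π] using he
    have h2 : (e : I) ∈ C ⊓ E := ⟨h1, e.2⟩
    rw [hCE.eq_bot] at h2
    exact Subtype.ext (by simpa using h2)
  -- essential
  have hess : ∀ N : Submodule R (I ⧸ C), N ≠ ⊥ → ∃ e : E, e ≠ 0 ∧ j e ∈ N := by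
    intro N hN
    have hle : C ≤ N.comap π := by
      intro x hx
      simp only [Submodule.mem_comap, π, Submodule.mkQ_apply]
      rw [(Submodule.Quotient.mk_eq_zero C).2 hx]
      exact N.zero_mem
    have hne : N.comap π ≠ C := by
      intro h
      apply hN
      rw [eq_bot_iff]
      intro y hy
      obtain ⟨x, rfl⟩ := Submodule.mkQ_surjective C y
      have : x ∈ N.comap π := hy
      rw [h] at this
      simp only [Submodule.mem_bot]
      exact (Submodule.Quotient.mk_eq_zero C).2 this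
    have hnd : ¬ Disjoint (N.comap π) E := fun hd => hne (hCmax _ hle hd)
    rw [disjoint_iff, ← ne_eq, Submodule.ne_bot_iff] at hnd
    obtain ⟨z, ⟨hz1, hz2⟩, hz0⟩ := hnd
    exact ⟨⟨z, hz2⟩, fun h => hz0 (congrArg Subtype.val h), hz1⟩
  -- extend
  obtain ⟨φ, hφ⟩ := Module.Injective.out j hj E.subtype
  have hφi : Function.Injective φ := by
    rw [← LinearMap.ker_eq_bot]
    by_contra hker
    obtain ⟨e, he0, hek⟩ := hess _ hker
    apply he0
    have : φ (j e) = 0 := hek
    rw [hφ] at this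
    exact Subtype.ext this
  have hE' : LinearMap.range φ = E := by
    apply H
    · intro e he
      exact ⟨j ⟨e, he⟩, hφ ⟨e, he⟩⟩
    · intro N hNle hN0
      have hN' : N.comap φ ≠ ⊥ := by
        obtain ⟨n, hn, hn0⟩ := (Submodule.ne_bot_iff _).1 hN0
        obtain ⟨y, rfl⟩ := hNle hn
        rw [Submodule.ne_bot_iff]
        exact ⟨y, hn, fun h => hn0 (by rw [h, map_zero])⟩
      obtain ⟨e, he0, heN⟩ := hess _ hN'
      rw [Submodule.ne_bot_iff]
      refine ⟨e, ⟨?_, e.2⟩, fun h => he0 (Subtype.ext h)⟩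
      have : φ (j e) ∈ N := heN
      rwa [hφ] at this
  rw [codisjoint_iff, eq_top_iff]
  intro x _
  have hx : φ (π x) ∈ E := by rw [← hE']; exact ⟨_, rfl⟩
  have h1 : φ (π x) = φ (j ⟨_, hx⟩) := by rw [hφ]; rfl
  have h2 := hφi h1
  have h3 : x - φ (π x) ∈ C := by
    rw [← Submodule.Quotient.mk_eq_zero, Submodule.Quotient.mk_sub, sub_eq_zero]
    exact h2
  have : x = φ (π x) + (x - φ (π x)) := by abel
  rw [this]
  exact Submodule.add_mem_sup hx h3

lemma injective_of_isCompl [Module.Injective R I] (E C : Submodule R I) (h : IsCompl E C) :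
    Module.Injective R E := by
  refine ⟨fun X Y _ _ _ _ f hf g => ?_⟩
  obtain ⟨k, hk⟩ := Module.Injective.out f hf (E.subtype ∘ₗ g)
  refine ⟨(Submodule.projectionOnto E C h) ∘ₗ k, fun x => ?_⟩
  simp only [LinearMap.comp_apply, hk, Submodule.subtype_apply]
  exact Submodule.projectionOnto_apply_left h (g x)

end Groth.Agent.H9
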