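import Groth.Prelude.Def_Wider
import Mathlib.RingTheory.Ideal.AssociatedPrime.Localization
import Mathlib.RingTheory.Ideal.MinimalPrime.Basic
import Mathlib.RingTheory.Finiteness.Ideal
import Mathlib.RingTheory.LocalRing.ResidueField.Basic
import Mathlib.RingTheory.Flat.Basic
import Mathlib.RingTheory.TensorProduct.Basic

set_option autoImplicit false
universe u

namespace Groth.Agent.H9

open IsLocalRing

section PowerTorsion

variable {R : Type u} [CommRing R] [IsLocalRing R] [IsNoetherianRing R]
  {E : Type u} [AddCommGroup E] [Module R E]

/-- For an essential extension `κ → E` of the residue field of a Noetherian local ring,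
the only associated prime of `E` is the maximal ideal. -/
lemma associatedPrimes_subset_of_isEssentialInj (f : ResidueField R →ₗ[R] E)
    (hf : InjHull.IsEssentialInj f) : associatedPrimes R E ⊆ {maximalIdeal R} := by
  intro q hq
  rw [AssociatedPrimes.mem_iff, isAssociatedPrime_iff] at hq
  obtain ⟨hqp, y, hy⟩ := hq
  have hy0 : y ≠ 0 := by
    rintro rfl
    apply hqp.ne_top
    rw [hy]
    ext r
    simp [Submodule.mem_colon_singleton]
  have hne : Submodule.span R {y} ≠ ⊥ := by
    rw [ne_eq, Submodule.span_singleton_eq_bot]; exact hy0
  obtain ⟨z, ⟨hz1, hz2⟩, hz0⟩ := (Submodule.ne_bot_iff _).1 (hf.essential _ hne)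
  obtain ⟨s, rfl⟩ := Submodule.mem_span_singleton.1 hz1
  obtain ⟨c, hc⟩ := hz2
  have hsq : s ∉ q := by
    intro hs
    rw [hy, Submodule.mem_colon_singleton] at hs
    exact hz0 hs
  have hle : maximalIdeal R ≤ q := by
    intro r hr
    have h1 : r • c = 0 := by
      rw [Algebra.smul_def, ResidueField.algebraMap_eq, (residue_eq_zero_iff r).2 hr, zero_mul]
    have h2 : r • (s • y) = 0 := by rw [← hc, ← map_smul, h1, map_zero]
    have h3 : r * s ∈ q := by
      rw [hy, Submodule.mem_colon_singleton, mul_smul]
      simpa using h2
    exact (hqp.mem_or_mem h3).resolve_right hsq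
  exact ((maximalIdeal.isMaximal R).eq_of_le hqp.ne_top hle).symm

/-- Every element of an essential extension of the residue field of a Noetherian local ring
is killed by a power of the maximal ideal. -/
theorem isPowerTorsion_of_isEssentialInj (f : ResidueField R →ₗ[R] E)
    (hf : InjHull.IsEssentialInj f) : LocCoh.IsPowerTorsion (maximalIdeal R) E := by
  intro x
  by_cases hx : x = 0
  · exact ⟨0, fun a _ => by rw [hx, smul_zero]⟩
  set N : Submodule R E := Submodule.span R {x} with hN
  have hfinN : Module.Finite R N := Module.Finite.span_singleton R x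
  set I : Ideal R := Module.annihilator R N with hI
  have hItop : I ≠ ⊤ := by
    intro h
    have h1 : (1 : R) ∈ I := h ▸ Submodule.mem_top
    have h2 := Module.mem_annihilator.1 h1 (⟨x, Submodule.mem_span_singleton_self x⟩ : N)
    apply hx
    simpa using congrArg Subtype.val h2
  have hmin : I.minimalPrimes ⊆ {maximalIdeal R} := by
    intro q hq
    have h1 : q ∈ associatedPrimes R N :=
      Module.associatedPrimes.minimalPrimes_annihilator_subset_associatedPrimes R N hq
    have h2 : q ∈ associatedPrimes R E :=
      associatedPrimes.subset_of_injective (f := N.subtype) N.subtype_injective h1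
    exact associatedPrimes_subset_of_isEssentialInj f hf h2
  have hmin' : I.minimalPrimes = {maximalIdeal R} := by
    obtain ⟨q, hq⟩ := Ideal.nonempty_minimalPrimes hItop
    apply Set.Subset.antisymm hmin
    rintro _ rfl
    have := hmin hq
    rw [Set.mem_singleton_iff] at this
    exact this ▸ hq
  have hrad : I.radical = maximalIdeal R := by
    rw [← Ideal.sInf_minimalPrimes, hmin', sInf_singleton]
  obtain ⟨n, hn⟩ := Ideal.exists_radical_pow_le_of_fg I
    ((isNoetherianRing_iff_ideal_fg R).1 inferInstance _)
  rw [hrad] at hn
  refine ⟨n, fun a ha => ?_⟩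
  have h2 := Module.mem_annihilator.1 (hn ha) (⟨x, Submodule.mem_span_singleton_self x⟩ : N)
  simpa using congrArg Subtype.val h2

end PowerTorsion

section Flat

variable {R S : Type u} [CommRing R] [CommRing S] [Algebra R S] [Module.Flat R S]
  {E : Type u} [AddCommGroup E] [Module S E] [Module R E] [IsScalarTower R S E]

open TensorProduct in
/-- An injective module over a flat `R`-algebra `S` is injective as an `R`-module. -/
theorem injective_of_flat_of_injective [Module.Injective S E] : Module.Injective R E := by
  refine ⟨fun X Y _ _ _ _ ι hι g => ?_⟩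
  have hι' : Function.Injective (LinearMap.baseChange S ι) := by
    have := Module.Flat.lTensor_preserves_injective_linearMap (M := S) ι hι
    intro a b hab
    apply this
    simpa [LinearMap.baseChange_eq_ltensor] using hab
  obtain ⟨h', hh'⟩ := Module.Injective.out (LinearMap.baseChange S ι) hι' (g.liftBaseChange S)
  refine ⟨(h'.restrictScalars R) ∘ₗ (TensorProduct.mk R S Y 1), fun x => ?_⟩
  have := hh' ((1 : S) ⊗ₜ[R] x)
  simpa using this

end Flat

end Groth.Agent.H9
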