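import Mathlib.RingTheory.Flat.Stability
import Mathlib.LinearAlgebra.TensorProduct.Tower
import Mathlib.RingTheory.IsTensorProduct

/-! If `M` is an `S`-module flat over `R` and `S'` is a flat `S`-algebra, then `S' ⊗_S M`
is flat over `R`. -/

universe u

open TensorProduct

namespace Groth.Agent.H9

variable {R S S' M : Type u} [CommRing R] [CommRing S] [CommRing S'] [Algebra R S] [Algebra S S']
  [Algebra R S'] [IsScalarTower R S S'] [AddCommGroup M] [Module R M] [Module S M]
  [IsScalarTower R S M]

theorem flat_tensor_tower [Module.Flat R M] [Module.Flat S S'] : Module.Flat R (S' ⊗[S] M) := by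
  rw [Module.Flat.iff_lTensor_preserves_injective_linearMap]
  intro N' N _ _ _ _ f hf
  have h1 : Function.Injective (TensorProduct.AlgebraTensorModule.lTensor S M f) :=
    Module.Flat.lTensor_preserves_injective_linearMap (M := M) f hf
  have h2 : Function.Injective
      (LinearMap.lTensor S' (TensorProduct.AlgebraTensorModule.lTensor S M f)) :=
    Module.Flat.lTensor_preserves_injective_linearMap _ h1
  have hsq : ∀ w : (S' ⊗[S] M) ⊗[R] N',
      TensorProduct.AlgebraTensorModule.assoc R S S' S' M N (LinearMap.lTensor (S' ⊗[S] M) f w) =
        LinearMap.lTensor S' (TensorProduct.AlgebraTensorModule.lTensor S M f)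
          (TensorProduct.AlgebraTensorModule.assoc R S S' S' M N' w) := by
    intro w
    induction w using TensorProduct.induction_on with
    | zero => simp
    | tmul v n =>
      induction v using TensorProduct.induction_on with
      | zero => simp
      | tmul s m => rfl
      | add a b ha hb =>
        rw [TensorProduct.add_tmul, map_add, map_add, ha, hb, map_add, map_add]
    | add a b ha hb => rw [map_add, map_add, ha, hb, map_add, map_add]
  rw [injective_iff_map_eq_zero]
  intro w hw
  have h3 : LinearMap.lTensor S' (TensorProduct.AlgebraTensorModule.lTensor S M f)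
      (TensorProduct.AlgebraTensorModule.assoc R S S' S' M N' w) = 0 := by
    rw [← hsq, hw, map_zero]
  have h4 := h2 (by rw [h3, map_zero] :
    LinearMap.lTensor S' (TensorProduct.AlgebraTensorModule.lTensor S M f)
      (TensorProduct.AlgebraTensorModule.assoc R S S' S' M N' w) =
    LinearMap.lTensor S' (TensorProduct.AlgebraTensorModule.lTensor S M f) 0)
  exact (TensorProduct.AlgebraTensorModule.assoc R S S' S' M N').injective (by rw [h4, map_zero])

end Groth.Agent.H9
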