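import Groth.Agent.H9.TorLES
import Groth.Agent.H18.TorBalance
import Mathlib.Algebra.Category.ModuleCat.Monoidal.Symmetric

set_option autoImplicit false
set_option linter.unusedSectionVars false
universe u

namespace Groth.Agent.H9

open CategoryTheory CategoryTheory.Limits MonoidalCategory

variable {R : Type u} [CommRing R]

/-- objectwise symmetry of `Tor`. -/
theorem nonempty_tor_flip_iso (M N : ModuleCat.{u} R) (n : ℕ) :
    Nonempty (((Tor (ModuleCat.{u} R) n).obj M).obj N ≅ ((Tor (ModuleCat.{u} R) n).obj N).obj M) := by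
  let P := ProjectiveResolution.of M
  obtain ⟨e1⟩ := Groth.Agent.H18.tor_iso_homology_tensCx M P n N
  have e2 : ((Tor (ModuleCat.{u} R) n).obj N).obj M ≅
      (((tensorLeft N).mapHomologicalComplex (ComplexShape.down ℕ)).obj P.complex).homology n :=
    P.isoLeftDerivedObj ((tensoringLeft (ModuleCat.{u} R)).obj N) n
  have e3 : ((tensorLeft N).mapHomologicalComplex (ComplexShape.down ℕ)).obj P.complex ≅
      ((tensorRight N).mapHomologicalComplex (ComplexShape.down ℕ)).obj P.complex :=
    (NatIso.mapHomologicalComplex (BraidedCategory.tensorLeftIsoTensorRight N)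
      (ComplexShape.down ℕ)).app P.complex
  have e4 := (HomologicalComplex.homologyFunctor (ModuleCat.{u} R) (ComplexShape.down ℕ) n).mapIso e3
  exact ⟨e1 ≪≫ e4.symm ≪≫ e2.symm⟩

lemma isZero_tor_flip {M N : ModuleCat.{u} R} {n : ℕ}
    (h : IsZero (((Tor (ModuleCat.{u} R) n).obj M).obj N)) :
    IsZero (((Tor (ModuleCat.{u} R) n).obj N).obj M) := by
  obtain ⟨e⟩ := nonempty_tor_flip_iso M N n
  exact IsZero.of_iso h e.symm

/-- half-exactness of `Tor` in the second variable. -/
theorem isZero_tor_of_shortExact_right {S : ShortComplex (ModuleCat.{u} R)} (hS : S.ShortExact)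
    (M : ModuleCat.{u} R) (n : ℕ)
    (h₁ : IsZero (((Tor (ModuleCat.{u} R) n).obj M).obj S.X₁))
    (h₃ : IsZero (((Tor (ModuleCat.{u} R) n).obj M).obj S.X₃)) :
    IsZero (((Tor (ModuleCat.{u} R) n).obj M).obj S.X₂) :=
  isZero_tor_flip (isZero_tor_of_shortExact hS M n (isZero_tor_flip h₁) (isZero_tor_flip h₃))

end Groth.Agent.H9
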