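import Mathlib.RingTheory.Regular.RegularSequence
import Mathlib.RingTheory.QuotSMulTop

set_option autoImplicit false
universe u v

namespace Groth.Agent.H9

open RingTheory.Sequence Pointwise

variable {R : Type u} [CommRing R]

lemma smul_top_eq_of_unit (M : Type v) [AddCommGroup M] [Module R M] (u : Rˣ) (r : R) :
    ((u : R) * r) • (⊤ : Submodule R M) = r • (⊤ : Submodule R M) := by
  ext x
  simp only [Submodule.mem_smul_pointwise_iff_exists, Submodule.mem_top, true_and]
  constructor
  · rintro ⟨y, rfl⟩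
    exact ⟨(u : R) • y, by rw [smul_smul, mul_comm]⟩
  · rintro ⟨y, rfl⟩
    exact ⟨((u⁻¹ : Rˣ) : R) • y, by rw [smul_smul, mul_assoc, mul_comm r, ← mul_assoc, Units.mul_inv, one_mul]⟩

lemma isWeaklyRegular_of_forall₂_units {rs rs' : List R}
    (h : List.Forall₂ (fun r r' => ∃ u : Rˣ, r' = (u : R) * r) rs rs') :
    ∀ (M : Type v) [AddCommGroup M] [Module R M], IsWeaklyRegular M rs → IsWeaklyRegular M rs' := by
  induction h with
  | nil => intro M _ _ _; exact IsWeaklyRegular.nil _ _
  | @cons r r' l l' hrr' _ ih =>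
    intro M _ _ hreg
    obtain ⟨u, rfl⟩ := hrr'
    rw [isWeaklyRegular_cons_iff] at hreg ⊢
    obtain ⟨h1, h2⟩ := hreg
    refine ⟨(u.isUnit.isSMulRegular M).mul h1, ?_⟩
    have h3 := ih (QuotSMulTop r M) h2
    exact ((Submodule.quotEquivOfEq _ _ (smul_top_eq_of_unit M u r)).isWeaklyRegular_congr l').2 h3

end Groth.Agent.H9
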