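import Mathlib
import Groth.Agent.H32.MLBaseChange
import Groth.Agent.H11.UnivInj

/-!
# Descent of the Mittag-Leffler property along a faithfully flat ring map
-/

set_option autoImplicit false

universe u

namespace Groth.Agent.H9.MLDescent

open TensorProduct

variable (R S : Type u) [CommRing R] [CommRing S] [Algebra R S]

/-- for faithfully flat `S`, the map `Q → S ⊗ Q` is universally injective. -/
theorem universallyInjective_mk [Module.FaithfullyFlat R S] (Q : Type u) [AddCommGroup Q]
    [Module R Q] : CAlgX.UniversallyInjective R (TensorProduct.mk R S Q 1) := by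
  intro P _ _
  have h := Module.FaithfullyFlat.tensorProduct_mk_injective (A := R) (B := S) (Q ⊗[R] P)
  have hc : (TensorProduct.mk R S (Q ⊗[R] P) 1) =
      (TensorProduct.assoc R S Q P).toLinearMap ∘ₗ (TensorProduct.mk R S Q 1).rTensor P := by
    apply TensorProduct.ext'
    intro q p
    simp
  rw [hc] at h
  exact Function.Injective.of_comp h

variable {R}

/-- a product of universally injective maps is universally injective. -/
theorem universallyInjective_pi {ι : Type u} {Q Q' : ι → Type u} [∀ i, AddCommGroup (Q i)]
    [∀ i, Module R (Q i)] [∀ i, AddCommGroup (Q' i)] [∀ i, Module R (Q' i)]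
    (f : ∀ i, Q i →ₗ[R] Q' i) (hf : ∀ i, CAlgX.UniversallyInjective R (f i)) :
    CAlgX.UniversallyInjective R (LinearMap.pi (fun i => (f i) ∘ₗ LinearMap.proj i)) := by
  apply H11.universallyInjective_of_equational
  intro n m x y a hxy
  have key : ∀ i, ∃ z : Fin m → Q i, ∀ k, x k i = ∑ j, a k j • z j := by
    intro i
    apply H11.exists_of_rTensor_injective (f i) (fun k => x k i) (fun j => y j i) a
    · intro k
      have := congrFun (hxy k) i
      simpa [Finset.sum_apply] using this
    · exact hf i _
  choose z hz using key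
  refine ⟨fun j i => z i j, fun k => ?_⟩
  funext i
  simp [hz i k, Finset.sum_apply]

variable (R)

theorem bcFun_surjective (M : Type u) [AddCommGroup M] [Module R M] (P : Type u) [AddCommGroup P]
    [Module S P] [Module R P] [IsScalarTower R S P] : Function.Surjective (H32.bcFun R S M P) := by
  intro y
  refine ⟨(TensorProduct.comm S (S ⊗[R] M) P).symm
    ((TensorProduct.AlgebraTensorModule.cancelBaseChange R S S P M).symm
      ((TensorProduct.comm R P M).symm y)), ?_⟩
  unfold H32.bcFun
  simp

/-- if `S ⊗ M` is Mittag-Leffler over `S`, then `M ⊗ ∏ Q i → ∏ M ⊗ Q i` is injective for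
families of `S`-modules. -/
theorem piRightHom_injective_of_baseChange (M : Type u) [AddCommGroup M] [Module R M]
    (h : CAlg.IsMittagLeffler S (S ⊗[R] M)) {ι : Type u} (Q : ι → Type u)
    [∀ i, AddCommGroup (Q i)] [∀ i, Module S (Q i)] [∀ i, Module R (Q i)]
    [∀ i, IsScalarTower R S (Q i)] :
    Function.Injective (TensorProduct.piRightHom R R M Q) := by
  rw [injective_iff_map_eq_zero]
  intro y hy
  obtain ⟨x, rfl⟩ := bcFun_surjective R S M (∀ i, Q i) y
  have hsq := H32.bc_square R S M Q x
  rw [hy] at hsq
  have hx : TensorProduct.piRightHom S S (S ⊗[R] M) Q x = 0 := by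
    funext i
    apply H32.bcFun_injective R S M (Q i)
    rw [Pi.zero_apply, H32.bcFun_zero]
    exact congrFun hsq i
  have hx0 : x = 0 := by
    apply h ι Q
    rw [hx, map_zero]
  rw [hx0, H32.bcFun_zero]

theorem main [Module.FaithfullyFlat R S] (M : Type u) [AddCommGroup M] [Module R M]
    (h : CAlg.IsMittagLeffler S (S ⊗[R] M)) : CAlg.IsMittagLeffler R M := by
  intro ι Q _ _
  set J : (∀ i, Q i) →ₗ[R] (∀ i, S ⊗[R] Q i) :=
    LinearMap.pi (fun i => (TensorProduct.mk R S (Q i) 1) ∘ₗ LinearMap.proj i) with hJ
  have hJui : CAlgX.UniversallyInjective R J :=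
    universallyInjective_pi (fun i => TensorProduct.mk R S (Q i) 1)
      (fun i => universallyInjective_mk R S (Q i))
  have hJl : Function.Injective (J.lTensor M) :=
    (LinearMap.lTensor_inj_iff_rTensor_inj M J).mpr (hJui M)
  have h' := piRightHom_injective_of_baseChange R S M h (fun i => S ⊗[R] Q i)
  have hsq : ∀ t : M ⊗[R] (∀ i, Q i),
      TensorProduct.piRightHom R R M (fun i => S ⊗[R] Q i) (J.lTensor M t) =
        fun i => (TensorProduct.mk R S (Q i) 1).lTensor M (TensorProduct.piRightHom R R M Q t i) := by
    intro t
    induction t using TensorProduct.induction_on with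
    | zero => funext i; simp
    | tmul m q => funext i; simp [hJ]
    | add a b ha hb =>
      funext i
      have ha' := congrFun ha i
      have hb' := congrFun hb i
      simp only [map_add, Pi.add_apply] at ha' hb' ⊢
      rw [ha', hb']
  rw [injective_iff_map_eq_zero]
  intro t ht
  apply hJl
  rw [map_zero]
  apply h'
  rw [hsq t, ht, map_zero]
  funext i
  simp

end Groth.Agent.H9.MLDescent
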