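import Mathlib.RingTheory.AdicCompletion.Exactness
import Mathlib.RingTheory.Flat.Equalizer
import Mathlib.Algebra.Module.Projective
import Mathlib.LinearAlgebra.TensorProduct.Quotient
import Mathlib.Algebra.Exact.Basic

/-! Completion of a short exact sequence with flat cokernel whose reduction is projective. -/

set_option autoImplicit false
universe u
open scoped TensorProduct
open Function (Injective Surjective Exact)

namespace Groth.Agent.H9.AdicSplit

variable {R : Type u} [CommRing R]

section Level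

variable {K P M : Type u} [AddCommGroup K] [Module R K] [AddCommGroup P] [Module R P]
  [AddCommGroup M] [Module R M] (f : K →ₗ[R] P) (g : P →ₗ[R] M)

theorem one_tmul_eq_zero_iff (J : Ideal R) {X : Type u} [AddCommGroup X] [Module R X] (k : X) :
    (1 : R ⧸ J) ⊗ₜ[R] k = 0 ↔ k ∈ J • (⊤ : Submodule R X) := by
  rw [← (TensorProduct.quotTensorEquivQuotSMul X J).map_eq_zero_iff,
    TensorProduct.quotTensorEquivQuotSMul_mk_one_tmul, Submodule.Quotient.mk_eq_zero]

include g in
theorem mem_smul_top_of_map_mem [Module.Flat R M] (hf : Injective f) (hg : Surjective g)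
    (hfg : Exact f g) (J : Ideal R) (k : K) (h : f k ∈ J • (⊤ : Submodule R P)) :
    k ∈ J • (⊤ : Submodule R K) := by
  rw [← one_tmul_eq_zero_iff] at h ⊢
  have hinj := LinearMap.lTensor_injective_of_exact_of_flat g hg f hf hfg (R ⧸ J)
  apply hinj
  rw [map_zero, LinearMap.lTensor_tmul]
  exact h

theorem exists_sub_mem_of_map_mem (hg : Surjective g) (hfg : Exact f g) (J : Ideal R) (p : P)
    (h : g p ∈ J • (⊤ : Submodule R M)) : ∃ k : K, p - f k ∈ J • (⊤ : Submodule R P) := by
  have h1 : (J • (⊤ : Submodule R M)) = Submodule.map g (J • (⊤ : Submodule R P)) := by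
    rw [Submodule.map_smul'', Submodule.map_top, LinearMap.range_eq_top.mpr hg]
  rw [h1] at h
  obtain ⟨p', hp', hgp'⟩ := h
  have h2 : g (p - p') = 0 := by rw [map_sub, hgp', sub_self]
  obtain ⟨k, hk⟩ := (hfg (p - p')).mp h2
  refine ⟨k, ?_⟩
  rw [hk, sub_sub_cancel]
  exact hp'

end Level

section Completion

variable (I : Ideal R) {K P M : Type u} [AddCommGroup K] [Module R K] [AddCommGroup P] [Module R P]
  [AddCommGroup M] [Module R M] (f : K →ₗ[R] P) (g : P →ₗ[R] M)

include g in
theorem map_injective [Module.Flat R M] (hf : Injective f) (hg : Surjective g)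
    (hfg : Exact f g) : Injective (AdicCompletion.map I f) := by
  rw [injective_iff_map_eq_zero]
  intro x hx
  ext n
  obtain ⟨k, hk⟩ := Submodule.Quotient.mk_surjective _ (x.val n)
  have h1 : (AdicCompletion.map I f x).val n = 0 := by rw [hx]; rfl
  rw [AdicCompletion.map_val_apply, ← hk, LinearMap.reduceModIdeal_apply,
    Submodule.Quotient.mk_eq_zero] at h1
  rw [← hk, AdicCompletion.val_zero_apply, Submodule.Quotient.mk_eq_zero]
  exact mem_smul_top_of_map_mem f g hf hg hfg (I ^ n) k h1

theorem map_exact [Module.Flat R M] (hf : Injective f) (hg : Surjective g)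
    (hfg : Exact f g) : Exact (AdicCompletion.map I f) (AdicCompletion.map I g) := by
  intro y
  constructor
  · intro hy
    have h1 : ∀ n, ∃ k : K, Submodule.Quotient.mk (f k) = y.val n := by
      intro n
      obtain ⟨p, hp⟩ := Submodule.Quotient.mk_surjective _ (y.val n)
      have h2 : (AdicCompletion.map I g y).val n = 0 := by rw [hy]; rfl
      rw [AdicCompletion.map_val_apply, ← hp, LinearMap.reduceModIdeal_apply,
        Submodule.Quotient.mk_eq_zero] at h2
      obtain ⟨k, hk⟩ := exists_sub_mem_of_map_mem f g hg hfg (I ^ n) p h2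
      refine ⟨k, ?_⟩
      rw [← hp, eq_comm, ← sub_eq_zero, ← Submodule.Quotient.mk_sub, Submodule.Quotient.mk_eq_zero]
      exact hk
    choose k hk using h1
    have hc : ∀ n, k n ≡ k (n + 1) [SMOD (I ^ n • ⊤ : Submodule R K)] := by
      intro n
      rw [SModEq.sub_mem]
      apply mem_smul_top_of_map_mem f g hf hg hfg (I ^ n)
      rw [map_sub, ← Submodule.Quotient.mk_eq_zero, Submodule.Quotient.mk_sub, sub_eq_zero, hk n]
      have h3 := y.property (Nat.le_succ n)
      rw [← hk (n + 1)] at h3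
      exact h3.symm
    refine ⟨AdicCompletion.mk I K (AdicCompletion.AdicCauchySequence.mk I K k hc), ?_⟩
    ext n
    rw [AdicCompletion.map_val_apply]
    exact hk n
  · rintro ⟨x, rfl⟩
    rw [AdicCompletion.map_comp_apply, hfg.linearMap_comp_eq_zero, AdicCompletion.map_zero]
    rfl

end Completion

section Lift

variable (I : Ideal R) {K F M : Type u} [AddCommGroup K] [Module R K] [AddCommGroup F] [Module R F]
  [AddCommGroup M] [Module R M]

theorem exists_lift_aux [Module.Flat R M] [Module.Projective R F]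
    [Module.Projective (R ⧸ I) (M ⧸ (I • ⊤ : Submodule R M))]
    (i : K →ₗ[R] F) (π : F →ₗ[R] M) (hi : Injective i) (hπ : Surjective π) (hiπ : Exact i π)
    {A C : Type u} [AddCommGroup A] [Module R A] [AddCommGroup C] [Module R C]
    (q : A →ₗ[R] C) (hq : ∀ a, q a = 0 → ∀ r ∈ I, r • a = 0)
    (h : M →ₗ[R] C) (hh : ∀ m, ∃ a, q a = h m) :
    ∃ h' : M →ₗ[R] A, q ∘ₗ h' = h := by
  classical
  have hq' : Surjective q.rangeRestrict := LinearMap.surjective_rangeRestrict q
  obtain ⟨φ, hφ0⟩ := Module.projective_lifting_property q.rangeRestrict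
    ((h ∘ₗ π).codRestrict (LinearMap.range q) (fun x => by
      obtain ⟨a, ha⟩ := hh (π x); exact ⟨a, ha⟩)) hq'
  have hφ : ∀ x, q (φ x) = h (π x) := by
    intro x
    have := congrArg Subtype.val (LinearMap.congr_fun hφ0 x)
    exact this
  have hφK : ∀ k : K, q (φ (i k)) = 0 := by
    intro k
    rw [hφ, hiπ.apply_apply_eq_zero, map_zero]
  let φ₁ : K →ₗ[R] A := φ ∘ₗ i
  have hφ₁ : (I • ⊤ : Submodule R K) ≤ LinearMap.ker φ₁ := by
    rw [Submodule.smul_le]
    intro r hr k _
    rw [LinearMap.mem_ker, map_smul]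
    exact hq _ (hφK k) r hr
  let φb : (K ⧸ (I • ⊤ : Submodule R K)) →ₗ[R] A := Submodule.liftQ _ φ₁ hφ₁
  let ib := i.reduceModIdeal I
  let pb := π.reduceModIdeal I
  have hib : Injective ib := by
    rw [injective_iff_map_eq_zero]
    intro x hx
    obtain ⟨k, rfl⟩ := Submodule.Quotient.mk_surjective _ x
    rw [LinearMap.reduceModIdeal_apply, Submodule.Quotient.mk_eq_zero] at hx
    rw [Submodule.Quotient.mk_eq_zero]
    exact mem_smul_top_of_map_mem i π hi hπ hiπ I k hx
  have hpb : Surjective pb := by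
    intro y
    obtain ⟨m, rfl⟩ := Submodule.Quotient.mk_surjective _ y
    obtain ⟨x, rfl⟩ := hπ m
    exact ⟨Submodule.Quotient.mk x, rfl⟩
  have hex : Exact ib pb := by
    intro y
    constructor
    · intro hy
      obtain ⟨x, rfl⟩ := Submodule.Quotient.mk_surjective _ y
      rw [LinearMap.reduceModIdeal_apply, Submodule.Quotient.mk_eq_zero] at hy
      obtain ⟨k, hk⟩ := exists_sub_mem_of_map_mem i π hπ hiπ I x hy
      refine ⟨Submodule.Quotient.mk k, ?_⟩
      rw [LinearMap.reduceModIdeal_apply, eq_comm, ← sub_eq_zero, ← Submodule.Quotient.mk_sub,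
        Submodule.Quotient.mk_eq_zero]
      exact hk
    · rintro ⟨x, rfl⟩
      obtain ⟨k, rfl⟩ := Submodule.Quotient.mk_surjective _ x
      rw [LinearMap.reduceModIdeal_apply, LinearMap.reduceModIdeal_apply,
        hiπ.apply_apply_eq_zero, Submodule.Quotient.mk_zero]
  obtain ⟨σ, hσ⟩ := Module.projective_lifting_property pb LinearMap.id hpb
  have hsec : ∃ l, pb ∘ₗ l = LinearMap.id := ⟨σ, hσ⟩
  obtain ⟨ρ, hρ⟩ := ((hex.split_tfae hib hpb).out 0 1).mp hsec
  have hρ' : ∀ k : K, ρ (Submodule.Quotient.mk (i k)) = Submodule.Quotient.mk k :=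
    fun k => LinearMap.congr_fun hρ (Submodule.Quotient.mk k)
  let ψ : F →ₗ[R] A := φb ∘ₗ (ρ.restrictScalars R) ∘ₗ Submodule.mkQ _
  have hψK : ∀ k : K, ψ (i k) = φ (i k) := by
    intro k
    change φb (ρ (Submodule.Quotient.mk (i k))) = φ (i k)
    rw [hρ']
    rfl
  have hqφb : ∀ z, q (φb z) = 0 := by
    intro z
    obtain ⟨k, rfl⟩ := Submodule.Quotient.mk_surjective _ z
    exact hφK k
  have hqψ : ∀ x, q (ψ x) = 0 := fun x => hqφb _
  have hker : LinearMap.ker π ≤ LinearMap.ker (φ - ψ) := by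
    intro x hx
    obtain ⟨k, rfl⟩ := (hiπ x).mp hx
    rw [LinearMap.mem_ker, LinearMap.sub_apply, sub_eq_zero]
    exact (hψK k).symm
  refine ⟨(Submodule.liftQ _ (φ - ψ) hker) ∘ₗ (π.quotKerEquivOfSurjective hπ).symm.toLinearMap, ?_⟩
  ext m
  obtain ⟨x, rfl⟩ := hπ m
  have h1 : (π.quotKerEquivOfSurjective hπ).symm (π x) = Submodule.Quotient.mk x := by
    rw [LinearEquiv.symm_apply_eq]
    rfl
  simp only [LinearMap.comp_apply, LinearEquiv.coe_coe, h1]
  rw [Submodule.liftQ_apply, LinearMap.sub_apply, map_sub, hqψ, sub_zero, hφ]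

/-- Key lifting lemma: if `M` is flat with `M/IM` projective over `R/I`, then maps out of `M`
lift along any linear map whose kernel is killed by `I` (as soon as they land in its range). -/
theorem exists_lift [Module.Flat R M]
    [Module.Projective (R ⧸ I) (M ⧸ (I • ⊤ : Submodule R M))]
    {A C : Type u} [AddCommGroup A] [Module R A] [AddCommGroup C] [Module R C]
    (q : A →ₗ[R] C) (hq : ∀ a, q a = 0 → ∀ r ∈ I, r • a = 0)
    (h : M →ₗ[R] C) (hh : ∀ m, ∃ a, q a = h m) :
    ∃ h' : M →ₗ[R] A, q ∘ₗ h' = h :=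
  exists_lift_aux I (K := ↥(LinearMap.ker (Finsupp.linearCombination R (id : M → M))))
    (F := M →₀ R) (LinearMap.ker (Finsupp.linearCombination R (id : M → M))).subtype
    (Finsupp.linearCombination R id) (Submodule.injective_subtype _)
    (Finsupp.linearCombination_surjective R Function.surjective_id)
    (LinearMap.exact_subtype_ker_map _) q hq h hh

end Lift

section Section

open AdicCompletion

variable (I : Ideal R) {P M : Type u} [AddCommGroup P] [Module R P]
  [AddCommGroup M] [Module R M] (g : P →ₗ[R] M)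

/-- Level `n` partial sections. -/
def Good (n : ℕ) : Type u :=
  {t : M →ₗ[R] (P ⧸ (I ^ n • ⊤ : Submodule R P)) //
    ∀ m, g.reduceModIdeal (I ^ n) (t m) = Submodule.Quotient.mk m}

theorem step [Module.Flat R M] [Module.Projective (R ⧸ I) (M ⧸ (I • ⊤ : Submodule R M))]
    (hg : Surjective g) (n : ℕ) (t : Good I g n) :
    ∃ t' : Good I g (n + 1), ∀ m, transitionMap I P (Nat.le_succ n) (t'.1 m) = t.1 m := by
  let q : (P ⧸ (I ^ (n + 1) • ⊤ : Submodule R P)) →ₗ[R]
      (P ⧸ (I ^ n • ⊤ : Submodule R P)) × (M ⧸ (I ^ (n + 1) • ⊤ : Submodule R M)) :=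
    LinearMap.prod (transitionMap I P (Nat.le_succ n))
      ((g.reduceModIdeal (I ^ (n + 1))).restrictScalars R)
  let h : M →ₗ[R] (P ⧸ (I ^ n • ⊤ : Submodule R P)) × (M ⧸ (I ^ (n + 1) • ⊤ : Submodule R M)) :=
    LinearMap.prod t.1 (Submodule.mkQ _)
  have hq : ∀ a, q a = 0 → ∀ r ∈ I, r • a = 0 := by
    intro a ha r hr
    obtain ⟨p, rfl⟩ := Submodule.Quotient.mk_surjective _ a
    have h1 : transitionMap I P (Nat.le_succ n) (Submodule.Quotient.mk p) = 0 :=
      congrArg Prod.fst ha
    have h2 : p ∈ (I ^ n • ⊤ : Submodule R P) := by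
      rw [← Submodule.Quotient.mk_eq_zero]
      exact h1
    rw [← Submodule.Quotient.mk_smul, Submodule.Quotient.mk_eq_zero, pow_succ', Submodule.mul_smul]
    exact Submodule.smul_mem_smul hr h2
  have hh : ∀ m, ∃ a, q a = h m := by
    intro m
    obtain ⟨p, hp⟩ := Submodule.Quotient.mk_surjective _ (t.1 m)
    have h1 := t.2 m
    rw [← hp, LinearMap.reduceModIdeal_apply, ← sub_eq_zero, ← Submodule.Quotient.mk_sub,
      Submodule.Quotient.mk_eq_zero] at h1
    have h2 : (I ^ n • (⊤ : Submodule R M)) = Submodule.map g (I ^ n • (⊤ : Submodule R P)) := by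
      rw [Submodule.map_smul'', Submodule.map_top, LinearMap.range_eq_top.mpr hg]
    rw [h2] at h1
    obtain ⟨p', hp', hgp'⟩ := h1
    refine ⟨Submodule.Quotient.mk (p - p'), Prod.ext ?_ ?_⟩
    · change (Submodule.Quotient.mk (p - p') : P ⧸ (I ^ n • ⊤ : Submodule R P)) = t.1 m
      rw [Submodule.Quotient.mk_sub, (Submodule.Quotient.mk_eq_zero _).mpr hp', sub_zero, hp]
    · change (Submodule.Quotient.mk (g (p - p')) : M ⧸ (I ^ (n + 1) • ⊤ : Submodule R M)) =
        Submodule.Quotient.mk m
      rw [map_sub, hgp', sub_sub_cancel]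
  obtain ⟨t', ht'⟩ := exists_lift I q hq h hh
  refine ⟨⟨t', fun m => ?_⟩, fun m => ?_⟩
  · exact congrArg Prod.snd (LinearMap.congr_fun ht' m)
  · exact congrArg Prod.fst (LinearMap.congr_fun ht' m)

theorem subsingleton_quot_zero : Subsingleton (M ⧸ (I ^ 0 • ⊤ : Submodule R M)) := by
  rw [Submodule.Quotient.subsingleton_iff, pow_zero, Ideal.one_eq_top, Submodule.top_smul]

variable [Module.Flat R M] [Module.Projective (R ⧸ I) (M ⧸ (I • ⊤ : Submodule R M))]

/-- A compatible system of partial sections, chosen recursively. -/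
noncomputable def seq (hg : Surjective g) : ∀ n, Good I g n
  | 0 => ⟨0, fun _ => (subsingleton_quot_zero I).elim _ _⟩
  | n + 1 => Classical.choose (step I g hg n (seq hg n))

theorem seq_succ (hg : Surjective g) (n : ℕ) (m : M) :
    transitionMap I P (Nat.le_succ n) ((seq I g hg (n + 1)).1 m) = (seq I g hg n).1 m :=
  Classical.choose_spec (step I g hg n (seq I g hg n)) m

theorem seq_le (hg : Surjective g) {k n : ℕ} (hkn : k ≤ n) (m : M) :
    transitionMap I P hkn ((seq I g hg n).1 m) = (seq I g hg k).1 m := by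
  symm
  have hanti : Antitone (fun n : ℕ => (I ^ n • ⊤ : Submodule R P)) :=
    fun _ _ le => Submodule.smul_mono_left (Ideal.pow_le_pow_right le)
  exact Submodule.eq_factor_of_eq_factor_succ hanti
    (fun n => (seq I g hg n).1 m) (fun s => (seq_succ I g hg s m).symm) hkn

theorem pow_smul_quot_eq_zero (n : ℕ) (r : R) (hr : r ∈ I ^ n)
    (x : P ⧸ (I ^ n • ⊤ : Submodule R P)) : r • x = 0 := by
  obtain ⟨p, rfl⟩ := Submodule.Quotient.mk_surjective _ x
  rw [← Submodule.Quotient.mk_smul, Submodule.Quotient.mk_eq_zero]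
  exact Submodule.smul_mem_smul hr Submodule.mem_top

/-- The partial sections descended to the quotients. -/
noncomputable def tbar (hg : Surjective g) (n : ℕ) :
    (M ⧸ (I ^ n • ⊤ : Submodule R M)) →ₗ[R] (P ⧸ (I ^ n • ⊤ : Submodule R P)) :=
  Submodule.liftQ _ (seq I g hg n).1 (by
    rw [Submodule.smul_le]
    intro r hr m _
    rw [LinearMap.mem_ker, map_smul]
    exact pow_smul_quot_eq_zero I n r hr _)

theorem tbar_mk (hg : Surjective g) (n : ℕ) (m : M) :
    tbar I g hg n (Submodule.Quotient.mk m) = (seq I g hg n).1 m := rfl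

theorem tbar_compat (hg : Surjective g) {k n : ℕ} (hkn : k ≤ n) :
    transitionMap I P hkn ∘ₗ (tbar I g hg n ∘ₗ eval I M n) = tbar I g hg k ∘ₗ eval I M k := by
  apply LinearMap.ext
  intro x
  simp only [LinearMap.comp_apply, eval_apply]
  obtain ⟨m, hm⟩ := Submodule.Quotient.mk_surjective _ (x.val n)
  have h1 : x.val k = Submodule.Quotient.mk m := by
    rw [← x.property hkn, ← hm]
    rfl
  rw [h1, ← hm, tbar_mk, tbar_mk, seq_le]

theorem reduce_tbar (hg : Surjective g) (n : ℕ) (y : M ⧸ (I ^ n • ⊤ : Submodule R M)) :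
    g.reduceModIdeal (I ^ n) (tbar I g hg n y) = y := by
  obtain ⟨m, rfl⟩ := Submodule.Quotient.mk_surjective _ y
  rw [tbar_mk]
  exact (seq I g hg n).2 m

/-- The section on completions. -/
noncomputable def sec (hg : Surjective g) :
    AdicCompletion I M →ₗ[AdicCompletion I R] AdicCompletion I P where
  __ := AdicCompletion.lift I (fun n => tbar I g hg n ∘ₗ eval I M n)
    (fun hkn => tbar_compat I g hg hkn)
  map_smul' r x := by
    ext n
    dsimp
    rw [val_smul_eq_evalₐ_smul, val_smul_eq_evalₐ_smul]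
    obtain ⟨a, ha⟩ := Ideal.Quotient.mk_surjective (evalₐ I n r)
    rw [← ha]
    change tbar I g hg n (a • x.val n) = a • tbar I g hg n (x.val n)
    rw [map_smul]

theorem sec_val (hg : Surjective g) (x : AdicCompletion I M) (n : ℕ) :
    (sec I g hg x).val n = tbar I g hg n (x.val n) := rfl

theorem map_comp_sec (hg : Surjective g) :
    AdicCompletion.map I g ∘ₗ sec I g hg = LinearMap.id := by
  apply LinearMap.ext
  intro x
  apply AdicCompletion.ext
  intro n
  rw [LinearMap.comp_apply, map_val_apply, sec_val, reduce_tbar]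
  rfl

end Section

theorem main (I : Ideal R) {K P M : Type u} [AddCommGroup K] [Module R K] [AddCommGroup P]
    [Module R P] [AddCommGroup M] [Module R M] (f : K →ₗ[R] P) (g : P →ₗ[R] M)
    (hf : Injective f) (hg : Surjective g) (hfg : Exact f g)
    [Module.Flat R M] [Module.Projective (R ⧸ I) (M ⧸ (I • ⊤ : Submodule R M))] :
    Injective (AdicCompletion.map I f) ∧
      Exact (AdicCompletion.map I f) (AdicCompletion.map I g) ∧
      ∃ s : AdicCompletion I M →ₗ[AdicCompletion I R] AdicCompletion I P,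
        AdicCompletion.map I g ∘ₗ s = LinearMap.id :=
  ⟨map_injective I f g hf hg hfg, map_exact I f g hf hg hfg, sec I g hg, map_comp_sec I g hg⟩

end Groth.Agent.H9.AdicSplit
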