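import Mathlib
import Groth.Agent.H32.MLfp

/-!
# Over a Noetherian ring, an arbitrary power `α → R` is Mittag-Leffler
-/

set_option autoImplicit false

universe u

namespace Groth.Agent.H9.MLProdNoeth

open TensorProduct

variable (R : Type u) [CommRing R]

/-- over a Noetherian ring, `Q ⊗ (α → R) → (α → Q ⊗ R)` is injective for every module `Q`. -/
theorem piRightHom_const_injective [IsNoetherianRing R] (α : Type u) (Q : Type u) [AddCommGroup Q]
    [Module R Q] : Function.Injective (TensorProduct.piRightHom R R Q (fun _ : α => R)) := by
  rw [injective_iff_map_eq_zero]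
  intro t ht
  obtain ⟨Q', hQ', t', rfl⟩ := TensorProduct.exists_of_fg t
  have hfin : Module.Finite R Q' := Module.Finite.iff_fg.mpr hQ'
  have hfp : Module.FinitePresentation R Q' := Module.finitePresentation_of_finite R Q'
  have hnat := H32.piRightHom_natural_apply R Q'.subtype (fun _ : α => R) t'
  rw [ht] at hnat
  have hinj : Function.Injective (H32.piRTensor R Q'.subtype (fun _ : α => R)) :=
    H32.piRTensor_injective R _ _ (fun _ =>
      Module.Flat.rTensor_preserves_injective_linearMap _ (Submodule.subtype_injective _))
  have h0 : TensorProduct.piRightHom R R Q' (fun _ : α => R) t' = 0 :=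
    hinj (by rw [hnat, map_zero])
  have h1 : t' = 0 :=
    (H32.piRightHom_bijective_of_finitePresentation R Q' (fun _ : α => R)).1
      (by rw [h0, map_zero])
  rw [h1, map_zero]

/-- over a Noetherian ring, `α → R` is Mittag-Leffler. -/
theorem isMittagLeffler_pi_const [IsNoetherianRing R] (α : Type u) :
    CAlg.IsMittagLeffler R (α → R) := by
  intro ι Q _ _
  rw [injective_iff_map_eq_zero]
  intro x hx
  -- move to the other side
  have hcomm : (TensorProduct.comm R (α → R) (∀ i, Q i)) x = 0 := by
    apply piRightHom_const_injective R α (∀ i, Q i)
    rw [map_zero]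
    funext a
    -- an element of `(∀ i, Q i) ⊗ R` vanishes as soon as all its components do
    apply (TensorProduct.rid R (∀ i, Q i)).injective
    rw [Pi.zero_apply, map_zero]
    funext i
    -- compute the component via the hypothesis
    have key : ∀ y : (α → R) ⊗[R] (∀ i, Q i),
        (TensorProduct.rid R (∀ i, Q i))
          (TensorProduct.piRightHom R R (∀ i, Q i) (fun _ : α => R)
            ((TensorProduct.comm R (α → R) (∀ i, Q i)) y) a) i =
        (TensorProduct.rid R (Q i)) ((TensorProduct.comm R R (Q i))
          (((LinearMap.proj a : (α → R) →ₗ[R] R).rTensor (Q i))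
            (TensorProduct.piRightHom R R (α → R) Q y i))) := by
      intro y
      induction y using TensorProduct.induction_on with
      | zero => simp
      | tmul p q => simp
      | add y₁ y₂ h₁ h₂ =>
        simp only [map_add, Pi.add_apply] at h₁ h₂ ⊢
        rw [h₁, h₂]
    rw [key x, hx]
    simp
  exact (TensorProduct.comm R (α → R) (∀ i, Q i)).injective (by rw [hcomm, map_zero])

end Groth.Agent.H9.MLProdNoeth
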