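import Groth.Agent.H9.HomologyFilteredColimits
import Mathlib.CategoryTheory.Monoidal.Tor
import Mathlib.Algebra.Category.ModuleCat.AB
import Mathlib.Algebra.Category.ModuleCat.Projective
import Mathlib.CategoryTheory.Abelian.Projective.Resolution
import Mathlib.Algebra.Category.ModuleCat.Monoidal.Closed
import Mathlib.Algebra.Category.ModuleCat.Monoidal.Symmetric

/-! `M ↦ Tor_n(M, N)` preserves filtered colimits (modules over a commutative ring). -/

open CategoryTheory Limits MonoidalCategory

namespace Groth.Agent.H9

universe u

variable {A : Type u} [CommRing A]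

/-- `M ↦ M ⊗ K` for a chain complex `K`, as a functor to chain complexes. -/
noncomputable def tensLeftCx (K : ChainComplex (ModuleCat.{u} A) ℕ) :
    ModuleCat.{u} A ⥤ ChainComplex (ModuleCat.{u} A) ℕ where
  obj M := (((tensoringLeft (ModuleCat.{u} A)).obj M).mapHomologicalComplex
    (ComplexShape.down ℕ)).obj K
  map f := (NatTrans.mapHomologicalComplex ((tensoringLeft (ModuleCat.{u} A)).map f)
    (ComplexShape.down ℕ)).app K
  map_id M := by
    rw [CategoryTheory.Functor.map_id, NatTrans.mapHomologicalComplex_id]
    rfl
  map_comp f g := by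
    rw [CategoryTheory.Functor.map_comp, NatTrans.mapHomologicalComplex_comp]
    rfl

/-- `Tor_n(-, N)` is computed by a fixed projective resolution of `N`, naturally. -/
noncomputable def torFlipIso (N : ModuleCat.{u} A) (P : ProjectiveResolution N) (n : ℕ) :
    (Tor (ModuleCat.{u} A) n).flip.obj N ≅
      tensLeftCx P.complex ⋙ HomologicalComplex.homologyFunctor _ (ComplexShape.down ℕ) n :=
  NatIso.ofComponents
    (fun M => P.isoLeftDerivedObj ((tensoringLeft (ModuleCat.{u} A)).obj M) n)
    (fun {M M'} f => by
      have h := ProjectiveResolution.leftDerived_app_eq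
        ((tensoringLeft (ModuleCat.{u} A)).map f) P n
      change (NatTrans.leftDerived ((tensoringLeft (ModuleCat.{u} A)).map f) n).app N ≫
          (P.isoLeftDerivedObj ((tensoringLeft (ModuleCat.{u} A)).obj M') n).hom =
        (P.isoLeftDerivedObj ((tensoringLeft (ModuleCat.{u} A)).obj M) n).hom ≫
          (HomologicalComplex.homologyFunctor _ _ n).map
            ((NatTrans.mapHomologicalComplex ((tensoringLeft (ModuleCat.{u} A)).map f) _).app
              P.complex)
      rw [h, Category.assoc, Category.assoc, Iso.inv_hom_id, Category.comp_id])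

instance (X : ModuleCat.{u} A) (J : Type u) [SmallCategory J] :
    PreservesColimitsOfShape J (tensorRight X) :=
  preservesColimitsOfShape_of_natIso (BraidedCategory.tensorLeftIsoTensorRight X)

theorem preservesColimitsOfShape_tensLeftCx (K : ChainComplex (ModuleCat.{u} A) ℕ)
    (J : Type u) [SmallCategory J] : PreservesColimitsOfShape J (tensLeftCx K) := by
  apply HomologicalComplex.preservesColimitsOfShape_of_eval
  intro i
  exact preservesColimitsOfShape_of_natIso
    (NatIso.ofComponents (fun M => Iso.refl _) (fun {M M'} f => by
      change (f ▷ K.X i) ≫ 𝟙 _ = 𝟙 _ ≫ (f ▷ K.X i)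
      rw [Category.comp_id, Category.id_comp]) :
      tensorRight (K.X i) ≅ tensLeftCx K ⋙ HomologicalComplex.eval _ _ i)

theorem preservesColimitsOfShape_tor_flip (N : ModuleCat.{u} A) (n : ℕ)
    (J : Type u) [SmallCategory J] [IsFiltered J] :
    PreservesColimitsOfShape J ((Tor (ModuleCat.{u} A) n).flip.obj N) := by
  have h1 := preservesColimitsOfShape_tensLeftCx (ProjectiveResolution.of N).complex J
  have h2 : PreservesColimitsOfShape J
      (HomologicalComplex.homologyFunctor (ModuleCat.{u} A) (ComplexShape.down ℕ) n) :=
    preservesColimitsOfShape_homologyFunctor _ n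
  exact preservesColimitsOfShape_of_natIso (torFlipIso N (ProjectiveResolution.of N) n).symm

end Groth.Agent.H9
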