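import Mathlib.RingTheory.Filtration
import Mathlib.RingTheory.AdicCompletion.Basic
import Mathlib.RingTheory.Ideal.KrullsHeightTheorem
import Mathlib.RingTheory.HopkinsLevitzki

set_option autoImplicit false
set_option linter.unusedSectionVars false
set_option linter.style.haveILetI false

namespace Groth.Agent.H9

open IsLocalRing

variable {A : Type*} [CommRing A] [IsLocalRing A] [IsNoetherianRing A]

/-- `A ⧸ 𝔪 ^ j` is an Artinian `A`-module. -/
lemma isArtinian_quotient_maximalIdeal_pow (j : ℕ) :
    IsArtinian A (A ⧸ maximalIdeal A ^ j) := by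
  rcases Nat.eq_zero_or_pos j with rfl | hj
  · have : Subsingleton (A ⧸ maximalIdeal A ^ 0) := by
      rw [pow_zero, Ideal.one_eq_top]
      exact Submodule.Quotient.subsingleton_iff.2 rfl
    infer_instance
  · have hp : maximalIdeal A ∈ (maximalIdeal A ^ j).minimalPrimes := by
      refine ⟨⟨inferInstance, Ideal.pow_le_self hj.ne'⟩, ?_⟩
      rintro q ⟨hq, hjq⟩ -
      exact hq.le_of_pow_le hjq
    have := IsLocalRing.quotient_artinian_of_mem_minimalPrimes_of_isLocalRing _ hp
    exact isArtinian_of_surjective_algebraMap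
      (Ideal.Quotient.mk_surjective (I := maximalIdeal A ^ j))

/-- ideals of a Noetherian local ring are closed in the adic topology. -/
lemma mem_of_forall_mem_sup_pow (I : Ideal A) (x : A)
    (h : ∀ n, x ∈ I ⊔ maximalIdeal A ^ n) : x ∈ I := by
  have hne : maximalIdeal A ≠ ⊤ := Ideal.IsPrime.ne_top inferInstance
  have hbot := Ideal.iInf_pow_smul_eq_bot_of_isLocalRing (M := A ⧸ I) (maximalIdeal A) hne
  have hx : Submodule.Quotient.mk (p := I) x ∈
      (⨅ i, maximalIdeal A ^ i • ⊤ : Submodule A (A ⧸ I)) := by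
    rw [Submodule.mem_iInf]
    intro i
    obtain ⟨y, hy, z, hz, rfl⟩ := Submodule.mem_sup.1 (h i)
    have hy0 : Submodule.Quotient.mk (p := I) y = 0 := (Submodule.Quotient.mk_eq_zero I).2 hy
    rw [Submodule.Quotient.mk_add, hy0, zero_add]
    have : Submodule.Quotient.mk (p := I) z = z • Submodule.Quotient.mk (p := I) (1 : A) := by
      rw [← Submodule.Quotient.mk_smul, smul_eq_mul, mul_one]
    rw [this]
    exact Submodule.smul_mem_smul hz Submodule.mem_top
  rw [hbot, Submodule.mem_bot] at hx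
  exact (Submodule.Quotient.mk_eq_zero I).1 hx

/-- **Chevalley's lemma**: in a complete Noetherian local ring, a descending chain of ideals with
zero intersection is eventually contained in any given power of the maximal ideal. -/
theorem chevalley [IsAdicComplete (maximalIdeal A) A] (I : ℕ → Ideal A) (hI : Antitone I)
    (hbot : ⨅ m, I m = ⊥) (k : ℕ) : ∃ m, I m ≤ maximalIdeal A ^ k := by
  by_contra hcon
  have hcon' : ∀ m, ¬ I m ≤ maximalIdeal A ^ k := fun m h => hcon ⟨m, h⟩
  -- stabilisation
  have hstab : ∀ j : ℕ, ∃ mj : ℕ, ∀ m, mj ≤ m →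
      I mj ⊔ maximalIdeal A ^ j = I m ⊔ maximalIdeal A ^ j := by
    intro j
    have := isArtinian_quotient_maximalIdeal_pow (A := A) j
    let f : ℕ →o (Submodule A (A ⧸ maximalIdeal A ^ j))ᵒᵈ :=
      { toFun := fun n => OrderDual.toDual
          (Submodule.map (Submodule.mkQ (maximalIdeal A ^ j)) (I n))
        monotone' := fun a b hab => Submodule.map_mono (hI hab) }
    obtain ⟨mj, hmj⟩ := IsArtinian.monotone_stabilizes f
    refine ⟨mj, fun m hm => ?_⟩
    have h1 : Submodule.map (Submodule.mkQ (maximalIdeal A ^ j)) (I mj) =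
        Submodule.map (Submodule.mkQ (maximalIdeal A ^ j)) (I m) := hmj m hm
    have h2 := congrArg (Submodule.comap (Submodule.mkQ (maximalIdeal A ^ j))) h1
    rw [Submodule.comap_map_mkQ, Submodule.comap_map_mkQ] at h2
    rw [sup_comm, sup_comm (I m)]
    exact h2
  choose mj hmj using hstab
  let J : ℕ → Ideal A := fun j => I (mj j) ⊔ maximalIdeal A ^ j
  have hJle : ∀ j m, J j ≤ I m ⊔ maximalIdeal A ^ j := by
    intro j m
    rcases le_total m (mj j) with h | h
    · exact sup_le_sup_right (hI h) _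
    · exact (hmj j m h).le
  have hJstep : ∀ j, J j ≤ J (j + 1) ⊔ maximalIdeal A ^ j := by
    intro j
    have h1 : J j = I (max (mj j) (mj (j + 1))) ⊔ maximalIdeal A ^ j :=
      hmj j _ (le_max_left _ _)
    have h2 : J (j + 1) = I (max (mj j) (mj (j + 1))) ⊔ maximalIdeal A ^ (j + 1) :=
      hmj (j + 1) _ (le_max_right _ _)
    rw [h1, h2]
    exact sup_le (le_sup_left.trans le_sup_left) le_sup_right
  -- starting point
  obtain ⟨x0, hx0I, hx0⟩ := Set.not_subset.1 (hcon' (mj k))
  have hx0J : x0 ∈ J k := Ideal.mem_sup_left hx0I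
  -- recursion
  have hnext : ∀ j (x : A), x ∈ J j → ∃ y, y ∈ J (j + 1) ∧ x - y ∈ maximalIdeal A ^ j := by
    intro j x hx
    obtain ⟨y, hy, z, hz, rfl⟩ := Submodule.mem_sup.1 (hJstep j hx)
    exact ⟨y, hy, by simpa using hz⟩
  choose! nxt hnxtJ hnxt using hnext
  let seq : ℕ → A := fun n => Nat.rec x0 (fun n x => nxt (k + n) x) n
  have hseq0 : seq 0 = x0 := rfl
  have hseqS : ∀ n, seq (n + 1) = nxt (k + n) (seq n) := fun n => rfl
  have hseqJ : ∀ n, seq n ∈ J (k + n) := by
    intro n
    induction n with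
    | zero => exact hx0J
    | succ n ih => rw [hseqS]; exact hnxtJ (k + n) (seq n) ih
  have hseqd : ∀ n, seq n - seq (n + 1) ∈ maximalIdeal A ^ (k + n) := fun n => by
    rw [hseqS]; exact hnxt (k + n) (seq n) (hseqJ n)
  have hseqdiff : ∀ m d, seq m - seq (m + d) ∈ maximalIdeal A ^ (k + m) := by
    intro m d
    induction d with
    | zero => simp
    | succ d ih =>
      have h1 : seq m - seq (m + (d + 1)) =
          (seq m - seq (m + d)) + (seq (m + d) - seq (m + d + 1)) := by
        rw [← add_assoc]; ring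
      rw [h1]
      refine Ideal.add_mem _ ih ?_
      exact Ideal.pow_le_pow_right (by omega) (hseqd (m + d))
  -- limit
  obtain ⟨L, hL⟩ := IsPrecomplete.prec (I := maximalIdeal A) (M := A) inferInstance (f := seq)
    (by
      intro m n hmn
      rw [SModEq.sub_mem, smul_eq_mul, Ideal.mul_top]
      obtain ⟨d, rfl⟩ := Nat.exists_eq_add_of_le hmn
      exact Ideal.pow_le_pow_right (Nat.le_add_left _ _) (hseqdiff m d))
  have hL' : ∀ n, seq n - L ∈ maximalIdeal A ^ n := by
    intro n
    have := hL n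
    rwa [SModEq.sub_mem, smul_eq_mul, Ideal.mul_top] at this
  -- `L` lies in every `I m`
  have hLI : ∀ m, L ∈ I m := by
    intro m
    apply mem_of_forall_mem_sup_pow
    intro n
    have h1 : seq n ∈ I m ⊔ maximalIdeal A ^ n :=
      (hJle (k + n) m).trans (sup_le_sup_left (Ideal.pow_le_pow_right (Nat.le_add_left _ _)) _)
        (hseqJ n)
    have h2 : L = seq n - (seq n - L) := by ring
    rw [h2]
    exact Ideal.sub_mem _ h1 (Ideal.mem_sup_right (hL' n))
  have hL0 : L = 0 := by
    have : L ∈ ⨅ m, I m := (Submodule.mem_iInf _).2 hLI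
    rwa [hbot, Submodule.mem_bot] at this
  apply hx0
  have h1 : seq k ∈ maximalIdeal A ^ k := by simpa [hL0] using hL' k
  have h2 : seq 0 - seq (0 + k) ∈ maximalIdeal A ^ (k + 0) := hseqdiff 0 k
  rw [zero_add, add_zero, hseq0] at h2
  have h3 : x0 = (x0 - seq k) + seq k := by ring
  rw [h3]
  exact Ideal.add_mem _ h2 h1

end Groth.Agent.H9
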