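import Mathlib.RingTheory.OrderOfVanishing.Basic
import Mathlib.RingTheory.Localization.FractionRing
import Mathlib.RingTheory.Artinian.Module
import Mathlib.RingTheory.Noetherian.Basic
import Mathlib.RingTheory.DedekindDomain.Basic
import Mathlib.RingTheory.Ideal.MinimalPrime.Noetherian
import Mathlib.RingTheory.Ideal.GoingUp
import Mathlib.RingTheory.Jacobson.Ideal
import Mathlib.RingTheory.Spectrum.Maximal.Defs
import Mathlib.RingTheory.Localization.Integer
import Mathlib.RingTheory.IntegralClosure.IsIntegral.Basic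

set_option autoImplicit false
set_option linter.unusedSectionVars false
set_option linter.style.haveILetI false
universe u v

namespace Groth.Agent.H9.KA

variable {B : Type u} [CommRing B] [IsDomain B] [IsNoetherianRing B] [Ring.KrullDimLE 1 B]
  {K : Type v} [Field K] [Algebra B K] [IsFractionRing B K]

lemma isArtinian_quot (a : B) (ha : a ≠ 0) : IsArtinian B (B ⧸ Ideal.span {a}) := by
  have h := isFiniteLength_quotient_span_singleton B (mem_nonZeroDivisors_of_ne_zero ha)
  exact (isFiniteLength_iff_isNoetherian_isArtinian.1 h).2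

/-- the ideal of elements of `B` lying in `a ^ n T`. -/
def Jn (T : Subalgebra B K) (a : B) (n : ℕ) : Ideal B :=
  Submodule.comap (Algebra.linearMap B K)
    (Submodule.map (LinearMap.lsmul B K (a ^ n)) (Subalgebra.toSubmodule T))

lemma mem_Jn {T : Subalgebra B K} {a : B} {n : ℕ} {b : B} :
    b ∈ Jn T a n ↔ ∃ t ∈ T, algebraMap B K b = algebraMap B K (a ^ n) * t := by
  simp only [Jn, Submodule.mem_comap, Submodule.mem_map, Subalgebra.mem_toSubmodule,
    Algebra.linearMap_apply, LinearMap.lsmul_apply, Algebra.smul_def]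
  constructor
  · rintro ⟨t, ht, h⟩; exact ⟨t, ht, h.symm⟩
  · rintro ⟨t, ht, h⟩; exact ⟨t, ht, h.symm⟩

lemma Jn_antitone (T : Subalgebra B K) (a : B) : Antitone (Jn T a) := by
  apply antitone_nat_of_succ_le
  intro n b hb
  rw [mem_Jn] at hb ⊢
  obtain ⟨t, ht, h⟩ := hb
  refine ⟨algebraMap B K a * t, ?_, ?_⟩
  · exact T.mul_mem (T.algebraMap_mem a) ht
  · rw [h, pow_succ, map_mul, mul_assoc]


/-- stabilisation of the chain `Jn + (a)`. -/
lemma exists_stable (T : Subalgebra B K) (a : B) (ha : a ≠ 0) :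
    ∃ m : ℕ, ∀ l, m ≤ l → ∀ b ∈ Jn T a l, ∃ b₁ ∈ Jn T a (l + 1), ∃ b₂ : B, b = b₁ + a * b₂ := by
  have := isArtinian_quot a ha
  let f : ℕ →o (Submodule B (B ⧸ Ideal.span {a}))ᵒᵈ :=
    { toFun := fun n => OrderDual.toDual (Submodule.map (Submodule.mkQ (Ideal.span {a})) (Jn T a n))
      monotone' := fun i j hij => Submodule.map_mono (Jn_antitone T a hij) }
  obtain ⟨m, hm⟩ := IsArtinian.monotone_stabilizes f
  refine ⟨m, fun l hl b hb => ?_⟩
  have h1 : f l = f (l + 1) := (hm l hl).symm.trans (hm (l + 1) (hl.trans (Nat.le_succ l)))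
  have h2 : Submodule.map (Submodule.mkQ (Ideal.span {a})) (Jn T a l) =
      Submodule.map (Submodule.mkQ (Ideal.span {a})) (Jn T a (l + 1)) := h1
  have h3 : Submodule.mkQ (Ideal.span {a}) b ∈
      Submodule.map (Submodule.mkQ (Ideal.span {a})) (Jn T a (l + 1)) := by
    rw [← h2]; exact Submodule.mem_map_of_mem hb
  obtain ⟨b₁, hb₁, h4⟩ := Submodule.mem_map.1 h3
  have h5 : b - b₁ ∈ Ideal.span {a} := by
    rw [← Submodule.Quotient.mk_eq_zero, Submodule.Quotient.mk_sub]
    simp only [Submodule.mkQ_apply] at h4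
    rw [h4, sub_self]
  obtain ⟨b₂, hb₂⟩ := Ideal.mem_span_singleton'.1 h5
  exact ⟨b₁, hb₁, b₂, by rw [mul_comm, hb₂]; ring⟩


/-- `a ^ l * t ∈ B + a ^ (l+1) T`. -/
def P (T : Subalgebra B K) (a : B) (l : ℕ) (t : K) : Prop :=
  ∃ b : B, ∃ t' ∈ T,
    algebraMap B K a ^ l * t = algebraMap B K b + algebraMap B K a ^ (l + 1) * t'

lemma exists_P (T : Subalgebra B K) (a : B) {t : K} (ht : t ∈ T) : ∃ l, P T a l t := by
  obtain ⟨p, c, hc, rfl⟩ := IsFractionRing.div_surjective B t
  have hc0 : c ≠ 0 := nonZeroDivisors.ne_zero hc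
  have := isArtinian_quot c hc0
  obtain ⟨n, y, hy⟩ := IsArtinian.exists_pow_succ_smul_dvd a (1 : B ⧸ Ideal.span {c})
  obtain ⟨b', rfl⟩ := Ideal.Quotient.mk_surjective y
  have h1 : a ^ n - a ^ (n + 1) * b' ∈ Ideal.span {c} := by
    rw [← Ideal.Quotient.eq_zero_iff_mem, map_sub, sub_eq_zero, map_mul]
    have h2 : a ^ n.succ • (Ideal.Quotient.mk (Ideal.span {c}) b') =
        (Ideal.Quotient.mk (Ideal.span {c}) (a ^ (n + 1))) *
          (Ideal.Quotient.mk (Ideal.span {c}) b') := by
      rw [Algebra.smul_def]; rfl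
    have h3 : a ^ n • (1 : B ⧸ Ideal.span {c}) = Ideal.Quotient.mk (Ideal.span {c}) (a ^ n) := by
      rw [Algebra.smul_def, mul_one]; rfl
    rw [← h2, hy, h3]
  obtain ⟨c', hc'⟩ := Ideal.mem_span_singleton'.1 h1
  have hcK : algebraMap B K c ≠ 0 := by
    simpa using (IsFractionRing.injective B K).ne hc0
  refine ⟨n, c' * p, algebraMap B K b' * (algebraMap B K p / algebraMap B K c),
    T.mul_mem (T.algebraMap_mem _) ht, ?_⟩
  have h4 := congrArg (algebraMap B K) hc'
  simp only [map_mul, map_sub, map_pow] at h4 ⊢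
  field_simp
  linear_combination (-(algebraMap B K p)) * h4

lemma P_descend (T : Subalgebra B K) (a : B) (ha : a ≠ 0) :
    ∃ m : ℕ, ∀ t ∈ T, P T a m t := by
  obtain ⟨m, hm⟩ := exists_stable T a ha
  refine ⟨m, fun t ht => ?_⟩
  have haK : algebraMap B K a ≠ 0 := by
    simpa using (IsFractionRing.injective B K).ne ha
  have step : ∀ l, m ≤ l + 1 → P T a (l + 1) t → P T a l t := by
    rintro l hl ⟨b, t', ht', h⟩
    have hb : b ∈ Jn T a (l + 1) := by
      rw [mem_Jn]
      refine ⟨t - algebraMap B K a * t', T.sub_mem ht (T.mul_mem (T.algebraMap_mem _) ht'), ?_⟩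
      rw [map_pow]
      linear_combination (-1 : K) * h
    obtain ⟨b₁, hb₁, b₂, hb₂⟩ := hm (l + 1) hl b hb
    obtain ⟨t'', ht'', h₁⟩ := mem_Jn.1 hb₁
    refine ⟨b₂, t'' + t', T.add_mem ht'' ht', ?_⟩
    apply mul_left_cancel₀ haK
    have hb₂' := congrArg (algebraMap B K) hb₂
    simp only [map_add, map_mul, map_pow] at hb₂' h₁
    linear_combination h + hb₂' + h₁
  obtain ⟨l, hl⟩ := exists_P T a ht
  have key : ∀ k, P T a (m + k) t → P T a m t := by
    intro k
    induction k with
    | zero => exact id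
    | succ k ih => exact fun h => ih (step (m + k) (by omega) h)
  by_cases hlm : m ≤ l
  · obtain ⟨k, rfl⟩ := Nat.exists_eq_add_of_le hlm
    exact key k hl
  · -- `l < m`: go up instead
    have hlm' : l ≤ m := (Nat.lt_of_not_le hlm).le
    obtain ⟨b, t', ht', h⟩ := hl
    obtain ⟨k, rfl⟩ := Nat.exists_eq_add_of_le hlm'
    refine ⟨a ^ k * b, t', ht', ?_⟩
    simp only [map_mul, map_pow]
    linear_combination (algebraMap B K a ^ k) * h


/-- `T / a T` is a finite `B`-module. -/
theorem finite_quotient (T : Subalgebra B K) (a : B) (ha : a ≠ 0) :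
    Module.Finite B (T ⧸ Ideal.span {algebraMap B T a}) := by
  obtain ⟨m, hm⟩ := P_descend T a ha
  have haK : algebraMap B K a ≠ 0 := by
    simpa using (IsFractionRing.injective B K).ne ha
  let u : K := (algebraMap B K a ^ m)⁻¹
  let N : Submodule B K := Submodule.span B {u} ⊓ Subalgebra.toSubmodule T
  have hNoeth : IsNoetherian B (Submodule.span B ({u} : Set K)) :=
    isNoetherian_span_of_finite B (Set.finite_singleton u)
  have hN : N.FG := by
    have h1 : IsNoetherian B N := isNoetherian_of_le (inf_le_left : N ≤ Submodule.span B {u})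
    exact (Submodule.fg_top N).1 (IsNoetherian.noetherian (⊤ : Submodule B N))
  have hNfin : Module.Finite B N := Module.Finite.iff_fg.2 hN
  let g : N →ₗ[B] (T ⧸ Ideal.span {algebraMap B T a}) :=
    (Submodule.mkQ (Ideal.span {algebraMap B T a})).restrictScalars B ∘ₗ
      (Submodule.inclusion (inf_le_right : N ≤ Subalgebra.toSubmodule T))
  have hg : Function.Surjective g := by
    intro y
    obtain ⟨⟨t, ht⟩, rfl⟩ := Submodule.mkQ_surjective _ y
    obtain ⟨b, t', ht', h⟩ := hm t ht
    have hpow : algebraMap B K a ^ m ≠ 0 := pow_ne_zero _ haK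
    have hx : t - algebraMap B K a * t' = b • u := by
      rw [Algebra.smul_def]
      simp only [u]
      field_simp
      linear_combination h
    have hxN : t - algebraMap B K a * t' ∈ N := by
      refine ⟨?_, T.sub_mem ht (T.mul_mem (T.algebraMap_mem _) ht')⟩
      rw [hx]
      exact Submodule.smul_mem _ _ (Submodule.subset_span rfl)
    refine ⟨⟨_, hxN⟩, ?_⟩
    simp only [g, LinearMap.comp_apply, LinearMap.restrictScalars_apply, Submodule.mkQ_apply]
    rw [Submodule.Quotient.eq]
    have : (Submodule.inclusion (inf_le_right : N ≤ Subalgebra.toSubmodule T)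
        ⟨t - algebraMap B K a * t', hxN⟩ : T) - ⟨t, ht⟩ =
        algebraMap B T a * (-⟨t', ht'⟩ : T) := by
      apply Subtype.ext
      simp
    rw [this]
    exact Ideal.mul_mem_right _ _ (Ideal.subset_span rfl)
  exact Module.Finite.of_surjective g hg


/-- a nonzero ideal of an intermediate ring meets `B` nontrivially. -/
lemma exists_ne_zero_mem (T : Subalgebra B K) (J : Ideal T) (hJ : J ≠ ⊥) :
    ∃ a : B, a ≠ 0 ∧ algebraMap B T a ∈ J := by
  obtain ⟨x, hxJ, hx0⟩ := Submodule.exists_mem_ne_zero_of_ne_bot hJ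
  obtain ⟨p, c, hc, hpc⟩ := IsFractionRing.div_surjective B (x : K)
  have hc0 : c ≠ 0 := nonZeroDivisors.ne_zero hc
  have hcK : algebraMap B K c ≠ 0 := by
    simpa using (IsFractionRing.injective B K).ne hc0
  have hx0' : (x : K) ≠ 0 := fun h => hx0 (Subtype.ext h)
  have hp : algebraMap B T p = algebraMap B T c * x := by
    apply Subtype.ext
    change algebraMap B K p = algebraMap B K c * (x : K)
    rw [← hpc]; field_simp
  refine ⟨p, ?_, ?_⟩
  · rintro rfl
    rw [map_zero, zero_div] at hpc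
    exact hx0' hpc.symm
  · rw [hp]; exact Ideal.mul_mem_left _ _ hxJ

/-- **Krull–Akizuki** (for rings between `B` and its fraction field): every ring between a
one-dimensional Noetherian domain and its fraction field is Noetherian. -/
theorem isNoetherianRing (T : Subalgebra B K) : IsNoetherianRing T := by
  rw [isNoetherianRing_iff_ideal_fg]
  intro J
  by_cases hJ : J = ⊥
  · subst hJ; exact Submodule.fg_bot
  obtain ⟨a, ha0, haJ⟩ := exists_ne_zero_mem T J hJ
  have hfin := finite_quotient T a ha0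
  have hN : IsNoetherian T (T ⧸ Ideal.span {algebraMap B T a}) :=
    isNoetherian_of_tower B (isNoetherian_of_isNoetherianRing_of_finite B _)
  apply Submodule.fg_of_fg_map_of_fg_inf_ker (Submodule.mkQ (Ideal.span {algebraMap B T a}))
  · exact IsNoetherian.noetherian _
  · rw [Submodule.ker_mkQ]
    have : J ⊓ Ideal.span {algebraMap B T a} = Ideal.span {algebraMap B T a} :=
      inf_eq_right.2 ((Ideal.span_singleton_le_iff_mem J).2 haJ)
    rw [this]
    exact ⟨{algebraMap B T a}, by simp [Ideal.span]⟩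


lemma dimensionLEOne : Ring.DimensionLEOne B :=
  ⟨fun hp hprime => hprime.isMaximal_of_ne_bot hp⟩

/-- a nonzero element lying in all maximal ideals of a semilocal domain which is not a field. -/
lemma exists_ne_zero_mem_all_maximal [Finite (MaximalSpectrum B)]
    (hB : ∀ m : MaximalSpectrum B, m.asIdeal ≠ ⊥) :
    ∃ a : B, a ≠ 0 ∧ ∀ m : MaximalSpectrum B, a ∈ m.asIdeal := by
  classical
  haveI := Fintype.ofFinite (MaximalSpectrum B)
  choose f hf hf0 using fun m : MaximalSpectrum B =>
    Submodule.exists_mem_ne_zero_of_ne_bot (hB m)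
  refine ⟨∏ m, f m, Finset.prod_ne_zero_iff.2 fun m _ => hf0 m, fun m => ?_⟩
  exact Ideal.mul_mem_left _ _ (hf m) |> fun h => by
    rw [← Finset.prod_erase_mul _ _ (Finset.mem_univ m)]
    exact h

/-- the integral closure (or any integral intermediate ring) of a semilocal one-dimensional
Noetherian domain has finitely many maximal ideals. -/
theorem finite_maximalSpectrum (T : Subalgebra B K) [Algebra.IsIntegral B T]
    [Finite (MaximalSpectrum B)] (hB : ∀ m : MaximalSpectrum B, m.asIdeal ≠ ⊥) :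
    Finite (MaximalSpectrum T) := by
  obtain ⟨a, ha0, ha⟩ := exists_ne_zero_mem_all_maximal hB
  haveI := isNoetherianRing (K := K) T
  haveI := dimensionLEOne (B := B)
  haveI : Ring.DimensionLEOne T := Ring.DimensionLEOne.of_isIntegral B T
  have hinj : Function.Injective (algebraMap B T) := by
    intro x y hxy
    apply IsFractionRing.injective B K
    exact congrArg (fun z : T => (z : K)) hxy
  have ha0' : algebraMap B T a ≠ 0 := by
    rw [← map_zero (algebraMap B T)]; exact hinj.ne ha0
  have hfin := Ideal.finite_minimalPrimes_of_isNoetherianRing T (Ideal.span {algebraMap B T a})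
  haveI := hfin.to_subtype
  have hmem : ∀ M : MaximalSpectrum T, algebraMap B T a ∈ M.asIdeal := by
    intro M
    haveI := M.isMaximal
    have hmax : (M.asIdeal.comap (algebraMap B T)).IsMaximal :=
      Ideal.isMaximal_comap_of_isIntegral_of_isMaximal M.asIdeal
    exact ha ⟨_, hmax⟩
  let φ : MaximalSpectrum T → (Ideal.span {algebraMap B T a}).minimalPrimes := fun M =>
    ⟨M.asIdeal, by
      refine ⟨⟨M.isMaximal.isPrime, (Ideal.span_singleton_le_iff_mem _).2 (hmem M)⟩, ?_⟩
      rintro q ⟨hq, haq⟩ hqM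
      have hq0 : q ≠ ⊥ := by
        rintro rfl
        exact ha0' (by simpa using (Ideal.span_singleton_le_iff_mem _).1 haq)
      have hqmax : q.IsMaximal := hq.isMaximal hq0
      exact (hqmax.eq_of_le M.isMaximal.ne_top hqM).ge⟩
  apply Finite.of_injective φ
  intro M M' h
  have : M.asIdeal = M'.asIdeal := congrArg Subtype.val h
  exact MaximalSpectrum.ext this


/-- a finitely generated `B`-submodule of `K` has a common denominator. -/
lemma exists_common_denominator (W : Submodule B K) (hW : W.FG) :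
    ∃ c : B, c ≠ 0 ∧ ∀ z ∈ W, ∃ b : B, algebraMap B K b = algebraMap B K c * z := by
  classical
  obtain ⟨s, rfl⟩ := hW
  obtain ⟨c, hc⟩ := IsLocalization.exist_integer_multiples_of_finset (nonZeroDivisors B) s
  refine ⟨c, nonZeroDivisors.ne_zero c.2, fun z hz => ?_⟩
  induction hz using Submodule.span_induction with
  | mem x hx =>
    obtain ⟨b, hb⟩ := hc x hx
    exact ⟨b, by rw [hb, Algebra.smul_def]⟩
  | zero => exact ⟨0, by simp⟩
  | add x y _ _ hx hy =>
    obtain ⟨b₁, h₁⟩ := hx
    obtain ⟨b₂, h₂⟩ := hy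
    exact ⟨b₁ + b₂, by rw [map_add, h₁, h₂, mul_add]⟩
  | smul r x _ hx =>
    obtain ⟨b, hb⟩ := hx
    exact ⟨r * b, by rw [map_mul, hb, Algebra.smul_def]; ring⟩

/-- for a nonzero `x` in the Jacobson radical of an integral intermediate ring `T` and `y ∈ T`,
some `x ^ n * y` lies in `B`. -/
theorem exists_forall_pow_mul_mem (T : Subalgebra B K) [Algebra.IsIntegral B T] (x y : T)
    (hx : x ∈ (⊥ : Ideal T).jacobson) :
    ∃ n : ℕ, ∀ n', n ≤ n' → ((x ^ n' * y : T) : K) ∈ (algebraMap B K).range := by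
  classical
  let C : Subalgebra B T := Algebra.adjoin B {x, y}
  have hxC : x ∈ C := Algebra.subset_adjoin (by simp)
  have hyC : y ∈ C := Algebra.subset_adjoin (by simp)
  have hCfg : (Subalgebra.toSubmodule C).FG :=
    fg_adjoin_of_finite (Set.toFinite {x, y}) fun z _ => Algebra.IsIntegral.isIntegral z
  -- image of `C` in `K`
  let W : Submodule B K := (Subalgebra.toSubmodule C).map (T.val.toLinearMap)
  have hW : W.FG := hCfg.map _
  obtain ⟨c, hc0, hc⟩ := exists_common_denominator W hW
  have hinj : Function.Injective (algebraMap B C) := by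
    intro u v huv
    apply IsFractionRing.injective B K
    exact congrArg (fun z : C => ((z : T) : K)) huv
  haveI : Algebra.IsIntegral B C :=
    ⟨fun z => (isIntegral_algebraMap_iff (A := C) (B := T) Subtype.val_injective).1
      (Algebra.IsIntegral.isIntegral (z : T))⟩
  haveI := dimensionLEOne (B := B)
  haveI : Ring.DimensionLEOne C := Ring.DimensionLEOne.of_isIntegral B C
  haveI : Algebra.IsIntegral C T := Algebra.IsIntegral.tower_top B
  have hc0' : algebraMap B C c ≠ 0 := by
    rw [← map_zero (algebraMap B C)]; exact hinj.ne hc0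
  have hrad : (⟨x, hxC⟩ : C) ∈ (Ideal.span {algebraMap B C c}).radical := by
    rw [Ideal.radical_eq_sInf, Ideal.mem_sInf]
    rintro P ⟨hcP, hP⟩
    have hP0 : P ≠ ⊥ := by
      rintro rfl
      exact hc0' (by simpa using (Ideal.span_singleton_le_iff_mem _).1 hcP)
    haveI hPmax : P.IsMaximal := hP.isMaximal hP0
    have hker : RingHom.ker (algebraMap C T) ≤ P := by
      intro z hz
      have : z = 0 := Subtype.val_injective (by simpa using hz)
      rw [this]; exact P.zero_mem
    obtain ⟨Q, hQ, hQP⟩ := Ideal.exists_ideal_over_maximal_of_isIntegral P hker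
    have hxQ : x ∈ Q := by
      have := Ideal.mem_sInf.1 hx (I := Q) ⟨bot_le, hQ⟩
      exact this
    rw [← hQP]
    exact hxQ
  obtain ⟨n, hn⟩ := hrad
  obtain ⟨z₀, hz₀⟩ := Ideal.mem_span_singleton'.1 hn
  refine ⟨n, fun n' hn' => ?_⟩
  obtain ⟨k, rfl⟩ := Nat.exists_eq_add_of_le hn'
  obtain ⟨z, hz⟩ : ∃ z : C, z * algebraMap B C c = (⟨x, hxC⟩ : C) ^ (n + k) :=
    ⟨(⟨x, hxC⟩ : C) ^ k * z₀, by rw [mul_assoc, hz₀, pow_add, mul_comm]⟩
  have hzy : ((z * ⟨y, hyC⟩ : C) : T).1 ∈ W :=
    Submodule.mem_map.2 ⟨((z * ⟨y, hyC⟩ : C) : T), (z * ⟨y, hyC⟩ : C).2, rfl⟩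
  obtain ⟨b, hb⟩ := hc _ hzy
  refine ⟨b, ?_⟩
  rw [hb]
  have h1 : (x ^ (n + k) : T) = (z : T) * algebraMap B T c := by
    have := congrArg (fun w : C => (w : T)) hz
    simpa using this.symm
  have h2 : ((x ^ (n + k) * y : T) : K) = ((z : T) : K) * algebraMap B K c * (y : K) := by
    rw [h1]; rfl
  rw [h2]
  push_cast
  ring

theorem exists_pow_mul_mem (T : Subalgebra B K) [Algebra.IsIntegral B T] (x y : T)
    (hx : x ∈ (⊥ : Ideal T).jacobson) :
    ∃ n : ℕ, ((x ^ n * y : T) : K) ∈ (algebraMap B K).range := by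
  obtain ⟨n, hn⟩ := exists_forall_pow_mul_mem T x y hx
  exact ⟨n, hn n le_rfl⟩

end Groth.Agent.H9.KA
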