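import Mathlib.RingTheory.Valuation.Basic
import Mathlib.Algebra.Order.Archimedean.Basic
import Mathlib.GroupTheory.ArchimedeanDensely

set_option autoImplicit false
set_option linter.unusedSectionVars false

namespace Groth.Agent.H9

/-- A weak approximation statement: if a subring `A` of a field is not contained in the valuation
ring of any of finitely many (archimedean-valued) valuations, then some element of `A` has
valuation `> 1` for all of them simultaneously. -/
theorem exists_mem_forall_one_lt {K : Type*} [Field K] {Γ : Type*}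
    [LinearOrderedCommGroupWithZero Γ] [MulArchimedean Γ] (A : Subring K) {ι : Type*}
    (s : Finset ι) (v : ι → Valuation K Γ) (h : ∀ k ∈ s, ∃ a ∈ A, 1 < v k a) :
    ∃ x ∈ A, ∀ k ∈ s, 1 < v k x := by
  classical
  induction s using Finset.induction_on with
  | empty => exact ⟨0, A.zero_mem, by simp⟩
  | insert k₀ s hk₀ ih =>
    obtain ⟨x, hxA, hx⟩ := ih fun k hk => h k (Finset.mem_insert_of_mem hk)
    obtain ⟨a, haA, ha⟩ := h k₀ (Finset.mem_insert_self _ _)
    by_cases hxk : 1 < v k₀ x
    · refine ⟨x, hxA, fun k hk => ?_⟩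
      rcases Finset.mem_insert.1 hk with rfl | hk
      · exact hxk
      · exact hx k hk
    · have hxk' : v k₀ x ≤ 1 := not_lt.1 hxk
      -- choose a uniform exponent
      have hn : ∃ n : ℕ, 1 ≤ n ∧ ∀ k ∈ s, v k a < v k x ^ n := by
        choose! f hf using fun k (hk : k ∈ s) => MulArchimedean.arch (v k a) (hx k hk)
        refine ⟨(∑ k ∈ s, f k) + 1, Nat.le_add_left _ _, fun k hk => ?_⟩
        have h1 : f k ≤ ∑ k ∈ s, f k := Finset.single_le_sum (fun _ _ => Nat.zero_le _) hk
        have h2 : v k x ^ f k ≤ v k x ^ (∑ k ∈ s, f k) :=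
          pow_le_pow_right₀ (hx k hk).le h1
        have h3 : v k x ^ (∑ k ∈ s, f k) < v k x ^ ((∑ k ∈ s, f k) + 1) :=
          pow_lt_pow_right₀ (hx k hk) (Nat.lt_succ_self _)
        exact ((hf k hk).trans h2).trans_lt h3
      obtain ⟨n, hn1, hn⟩ := hn
      refine ⟨x ^ n + a, A.add_mem (A.pow_mem hxA n) haA, fun k hk => ?_⟩
      rcases Finset.mem_insert.1 hk with rfl | hk
      · have h1 : v k (x ^ n) < v k a := by
          rw [map_pow]
          exact (pow_le_one₀ zero_le hxk').trans_lt ha
        rw [Valuation.map_add_eq_of_lt_right _ h1]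
        exact ha
      · have h1 : v k a < v k (x ^ n) := by rw [map_pow]; exact hn k hk
        rw [Valuation.map_add_eq_of_lt_left _ h1, map_pow]
        exact one_lt_pow₀ (hx k hk) (by omega)

end Groth.Agent.H9
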