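import Groth.Agent.H8.WeakAssFinite
import Groth.Agent.H8.WeakAssLoc
import Groth.Agent.H2.InjModMax

/-! Weakly associated primes and finite flat ring maps: for `A → B` finite flat and a prime `t` of `B`
over `p`, `t ∈ WeakAss_B(B ⊗_A M) ↔ p ∈ WeakAss_A(M)`. -/

universe u

open TensorProduct

namespace Groth.Agent.H9.WeakAssFF

variable {A B : Type u} [CommRing A] [CommRing B] [Algebra A B]
  (M : Type u) [AddCommGroup M] [Module A M]

/-- flatness: the annihilator of `1 ⊗ x` is the extension of the annihilator of `x`. -/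
theorem mem_map_annihilator_of_tmul_eq_zero [Module.Flat A B] (x : M) (b : B)
    (h : b ⊗ₜ[A] x = 0) :
    b ∈ ((Submodule.span A {x}).annihilator).map (algebraMap A B) := by
  set 𝔞 : Ideal A := (Submodule.span A {x}).annihilator with h𝔞
  -- the injection A/𝔞 → M
  let φ : A →ₗ[A] M := LinearMap.toSpanSingleton A M x
  have hker : LinearMap.ker φ = 𝔞 := by
    ext a
    rw [LinearMap.mem_ker, LinearMap.toSpanSingleton_apply, h𝔞,
      Submodule.mem_annihilator_span_singleton]
  let ι : (A ⧸ 𝔞) →ₗ[A] M := Submodule.liftQ 𝔞 φ (le_of_eq hker.symm)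
  have hι : Function.Injective ι := by
    rw [← LinearMap.ker_eq_bot, Submodule.ker_liftQ, hker, Submodule.mkQ_map_self]
  have hinj : Function.Injective (LinearMap.rTensor B ι) :=
    Module.Flat.rTensor_preserves_injective_linearMap ι hι
  have h1 : (1 : A ⧸ 𝔞) ⊗ₜ[A] b = 0 := by
    apply hinj
    rw [map_zero, LinearMap.rTensor_tmul]
    have : ι (1 : A ⧸ 𝔞) = x := by
      change Submodule.liftQ 𝔞 φ _ (Submodule.Quotient.mk (1 : A)) = x
      rw [Submodule.liftQ_apply, LinearMap.toSpanSingleton_apply, one_smul]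
    rw [this]
    have h2 := congrArg (TensorProduct.comm A B M) h
    simpa using h2
  have h3 := (Groth.Agent.H2.one_tmul_eq_zero_iff_mem_smul_top 𝔞 b).mp h1
  have h4 := (Groth.Agent.H2.mem_map_smul_top_iff (S := B) 𝔞 b).mpr h3
  rw [smul_eq_mul, Ideal.mul_top] at h4
  exact h4

theorem mem_weakAss_baseChange [Module.Flat A B] [Algebra.IsIntegral A B] (p : Ideal A)
    (t : Ideal B) [ht : t.IsPrime] (htp : t.comap (algebraMap A B) = p)
    (hp : p ∈ FlatCA.weakAss A M) : t ∈ FlatCA.weakAss B (B ⊗[A] M) := by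
  obtain ⟨x, hx⟩ := hp
  refine ⟨(1 : B) ⊗ₜ[A] x, ⟨ht, ?_⟩, ?_⟩
  · intro b hb
    rw [Submodule.mem_annihilator_span_singleton, TensorProduct.smul_tmul', smul_eq_mul,
      mul_one] at hb
    have h1 := mem_map_annihilator_of_tmul_eq_zero M x b hb
    have h2 : ((Submodule.span A {x}).annihilator).map (algebraMap A B) ≤ t := by
      rw [Ideal.map_le_iff_le_comap, htp]
      exact hx.1.2
    exact h2 h1
  · rintro q ⟨hq, hAq⟩ hqt
    have h1 : (Submodule.span A {x}).annihilator ≤ q.comap (algebraMap A B) := by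
      intro a ha
      rw [Submodule.mem_annihilator_span_singleton] at ha
      rw [Ideal.mem_comap]
      apply hAq
      rw [Submodule.mem_annihilator_span_singleton, algebraMap_smul, ← TensorProduct.tmul_smul,
        ha, TensorProduct.tmul_zero]
    have h2 : q.comap (algebraMap A B) ≤ p := htp ▸ Ideal.comap_mono hqt
    have h3 : p ≤ q.comap (algebraMap A B) := hx.2 ⟨hq.comap _, h1⟩ h2
    by_contra hnot
    obtain ⟨y, hyt, hyq⟩ := SetLike.not_le_iff_exists.mp hnot
    have h4 := Ideal.comap_lt_comap_of_integral_mem_sdiff (R := A) hqt ⟨hyt, hyq⟩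
      (Algebra.IsIntegral.isIntegral y)
    rw [htp] at h4
    exact absurd (lt_of_le_of_lt h3 h4) (lt_irrefl _)

section coord

variable {R' : Type u} [CommRing R'] {N' : Type u} [AddCommGroup N'] [Module R' N'] {ι : Type u}

/-- if the annihilator of a finitely supported family has radical a prime `P`, so does the
annihilator of one of its coordinates. -/
theorem exists_coord_radical_ker_eq (P : Ideal R') [hP : P.IsPrime] (w : ι →₀ N')
    (hw : Ideal.radical (LinearMap.ker (LinearMap.toSpanSingleton R' (ι →₀ N') w)) = P) :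
    ∃ i, Ideal.radical (LinearMap.ker (LinearMap.toSpanSingleton R' N' (w i))) = P := by
  classical
  have hmem : ∀ r : R', r ∈ LinearMap.ker (LinearMap.toSpanSingleton R' (ι →₀ N') w) ↔
      ∀ i, r • w i = 0 := by
    intro r
    rw [LinearMap.mem_ker, LinearMap.toSpanSingleton_apply]
    constructor
    · intro h i
      have := DFunLike.congr_fun h i
      simpa using this
    · intro h
      ext i
      simpa using h i
  have hle : (w.support.inf fun i => LinearMap.ker (LinearMap.toSpanSingleton R' N' (w i))) ≤ P := by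
    rw [← hw]
    refine le_trans ?_ Ideal.le_radical
    intro r hr
    rw [hmem]
    intro i
    by_cases hi : i ∈ w.support
    · have hle' : (w.support.inf fun i => LinearMap.ker (LinearMap.toSpanSingleton R' N' (w i))) ≤
          LinearMap.ker (LinearMap.toSpanSingleton R' N' (w i)) :=
        Finset.inf_le (f := fun i => LinearMap.ker (LinearMap.toSpanSingleton R' N' (w i))) hi
      have := hle' hr
      simpa [LinearMap.mem_ker, LinearMap.toSpanSingleton_apply] using this
    · rw [Finsupp.notMem_support_iff.mp hi, smul_zero]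
  obtain ⟨i, -, hi⟩ := hP.inf_le'.mp hle
  refine ⟨i, le_antisymm ?_ ?_⟩
  · exact (hP.radical_le_iff).mpr hi
  · rw [← hw]
    apply Ideal.radical_mono
    intro r hr
    have := (hmem r).mp hr i
    simpa [LinearMap.mem_ker, LinearMap.toSpanSingleton_apply] using this

end coord

lemma ker_toSpanSingleton_equiv {R' : Type*} [Semiring R'] {N' N'' : Type*} [AddCommMonoid N']
    [AddCommMonoid N''] [Module R' N'] [Module R' N'']
    (e : N' ≃ₗ[R'] N'') (z : N') :
    LinearMap.ker (LinearMap.toSpanSingleton R' N'' (e z)) =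
      LinearMap.ker (LinearMap.toSpanSingleton R' N' z) := by
  ext r
  simp only [LinearMap.mem_ker, LinearMap.toSpanSingleton_apply]
  rw [← map_smul, LinearEquiv.map_eq_zero_iff]

attribute [local instance] Module.free_of_flat_of_isLocalRing in
/-- for `B` finite flat over `A`, weakly associated primes of `B ⊗ M` over `A` are weakly
associated to `M`. -/
theorem mem_weakAss_of_mem_weakAss_tensor [Module.Finite A B] [Module.Flat A B] (p : Ideal A)
    [hp : p.IsPrime] (h : p ∈ FlatCA.weakAss A (B ⊗[A] M)) : p ∈ FlatCA.weakAss A M := by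
  let R' := Localization.AtPrime p
  obtain ⟨z', hz'⟩ := (Groth.Agent.H8.exists_radical_ann_eq_maximalIdeal_iff p (R' := R')
    (TensorProduct.mk A R' (B ⊗[A] M) 1)).mpr h
  let e1 : R' ⊗[A] (B ⊗[A] M) ≃ₗ[R'] (R' ⊗[A] B) ⊗[A] M :=
    (TensorProduct.AlgebraTensorModule.assoc A A R' R' B M).symm
  haveI : Module.Free R' (R' ⊗[A] B) := inferInstance
  let b := Module.Free.chooseBasis R' (R' ⊗[A] B)
  let e2 : (R' ⊗[A] B) ⊗[A] M ≃ₗ[R']
      ((Module.Free.ChooseBasisIndex R' (R' ⊗[A] B)) →₀ R') ⊗[A] M :=
    TensorProduct.AlgebraTensorModule.congr b.repr (LinearEquiv.refl A M)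
  let e3 := TensorProduct.finsuppLeft A R' R' M (Module.Free.ChooseBasisIndex R' (R' ⊗[A] B))
  let Φ := e1 ≪≫ₗ e2 ≪≫ₗ e3
  have hw : Ideal.radical (LinearMap.ker (LinearMap.toSpanSingleton R' _ (Φ z'))) =
      IsLocalRing.maximalIdeal R' := by
    rw [ker_toSpanSingleton_equiv Φ z', hz']
  obtain ⟨i, hi⟩ := exists_coord_radical_ker_eq (IsLocalRing.maximalIdeal R') (Φ z') hw
  exact (Groth.Agent.H8.exists_radical_ann_eq_maximalIdeal_iff p (R' := R')
    (TensorProduct.mk A R' M 1)).mp ⟨_, hi⟩

theorem mem_weakAss_baseChange_iff [Module.Finite A B] [Module.Flat A B] (p : Ideal A)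
    [p.IsPrime] (t : Ideal B) [t.IsPrime] (htp : t.comap (algebraMap A B) = p) :
    t ∈ FlatCA.weakAss B (B ⊗[A] M) ↔ p ∈ FlatCA.weakAss A M := by
  constructor
  · intro h
    have h1 := Groth.Agent.H8.comap_mem_weakAss_of_finite (A := A) h
    rw [htp] at h1
    exact mem_weakAss_of_mem_weakAss_tensor M p h1
  · exact mem_weakAss_baseChange M p t htp

end Groth.Agent.H9.WeakAssFF
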