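import Groth.Agent.H9.InjBCCore
import Groth.Agent.H2.InjHullLoc
import Groth.Agent.H2.MatlisBaseChange
import Mathlib.RingTheory.Flat.Localization
import Mathlib.RingTheory.Localization.BaseChange
import Mathlib.RingTheory.Localization.AtPrime.Basic

/-!
# Base change of the injective hull of `A/p` along a flat map with `p B_q = q B_q`

For a flat map `A → B` of Noetherian rings such that `p B_q = q B_q` for every prime `q` of `B`
with contraction `p`, the module `B ⊗_A E(A/p)` is injective over `B`.
-/

set_option autoImplicit false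
universe u

namespace Groth.Agent.H9.InjBC

open TensorProduct IsLocalRing

variable {A B : Type u} [CommRing A] [CommRing B] [Algebra A B] [IsNoetherianRing A]
  [IsNoetherianRing B] [Module.Flat A B]
  (p : Ideal A) [hp : p.IsPrime] {E : Type u} [AddCommGroup E] [Module A E]
  (f : (A ⧸ p) →ₗ[A] E) (hf : InjHull.IsInjectiveHull f)

include hf in
/-- The localisation of `E(A/p)` at `p` is an injective hull of the residue field of `A_p`. -/
theorem exists_isInjectiveHull_atPrime :
    ∃ g : ResidueField (Localization.AtPrime p) →ₗ[Localization.AtPrime p]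
      LocalizedModule p.primeCompl E, InjHull.IsInjectiveHull g := by
  have hdisj : Disjoint (p : Set A) (p.primeCompl : Set A) := by
    rw [Set.disjoint_left]
    intro x hx hx'
    exact hx' hx
  obtain ⟨g, hg⟩ := Groth.Agent.H2.InjHullLoc.exists_isInjectiveHull_localizedModule p f hf
    p.primeCompl hdisj
  have hmax : p.map (algebraMap A (Localization.AtPrime p)) =
      maximalIdeal (Localization.AtPrime p) := Localization.AtPrime.map_eq_maximalIdeal
  let e : ResidueField (Localization.AtPrime p) ≃ₗ[Localization.AtPrime p]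
      (Localization.AtPrime p ⧸ p.map (algebraMap A (Localization.AtPrime p))) :=
    Submodule.quotEquivOfEq _ _ hmax.symm
  refine ⟨g ∘ₗ e.toLinearMap,
    { toIsEssentialInj := ⟨hg.injective.comp e.injective, fun N hN => ?_⟩,
      isInjective := hg.isInjective }⟩
  have := hg.essential N hN
  rwa [LinearMap.range_comp, LinearEquiv.range, Submodule.map_top]

include hf in
/-- For a prime `q` of `B` over `p` with `p B_q = q B_q`, the localisation at `q` of
`B ⊗_A E(A/p)` is injective over `B`. -/
theorem injective_localization_tensor (q : Ideal B) [hq : q.IsPrime]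
    (hqp : q.comap (algebraMap A B) = p)
    (h : Ideal.map (algebraMap B (Localization.AtPrime q)) (p.map (algebraMap A B)) =
      maximalIdeal (Localization.AtPrime q)) :
    Module.Injective B (Localization.AtPrime q ⊗[B] (B ⊗[A] E)) := by
  have : q.LiesOver p := ⟨hqp.symm⟩
  let _ := Localization.AtPrime.algebraOfLiesOver p q
  have : IsLocalHom (algebraMap (Localization.AtPrime p) (Localization.AtPrime q)) :=
    Localization.isLocalHom_localRingHom _ _ _ _
  have hm : (maximalIdeal (Localization.AtPrime p)).map
      (algebraMap (Localization.AtPrime p) (Localization.AtPrime q)) =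
      maximalIdeal (Localization.AtPrime q) := by
    rw [← Localization.AtPrime.map_eq_maximalIdeal (I := p), Ideal.map_map, ← h, Ideal.map_map,
      ← IsScalarTower.algebraMap_eq, ← IsScalarTower.algebraMap_eq]
  obtain ⟨g, hg⟩ := exists_isInjectiveHull_atPrime p f hf
  obtain ⟨g', hg'⟩ := Groth.Agent.H2.MatlisBaseChange.exists_isInjectiveHull_tensor hm g hg
  have hinj1 : Module.Injective (Localization.AtPrime q)
      (Localization.AtPrime q ⊗[Localization.AtPrime p] LocalizedModule p.primeCompl E) :=
    hg'.isInjective
  let e1 : Localization.AtPrime p ⊗[A] E ≃ₗ[Localization.AtPrime p]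
      LocalizedModule p.primeCompl E :=
    (IsLocalizedModule.isBaseChange p.primeCompl (Localization.AtPrime p)
      (LocalizedModule.mkLinearMap p.primeCompl E)).equiv
  let e2 : Localization.AtPrime q ⊗[Localization.AtPrime p] (Localization.AtPrime p ⊗[A] E)
      ≃ₗ[Localization.AtPrime q]
      Localization.AtPrime q ⊗[Localization.AtPrime p] LocalizedModule p.primeCompl E :=
    TensorProduct.AlgebraTensorModule.congr (LinearEquiv.refl _ _) e1
  let e3 := TensorProduct.AlgebraTensorModule.cancelBaseChange A (Localization.AtPrime p)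
    (Localization.AtPrime q) (Localization.AtPrime q) E
  let e4 := TensorProduct.AlgebraTensorModule.cancelBaseChange A B
    (Localization.AtPrime q) (Localization.AtPrime q) E
  have hinj2 : Module.Injective (Localization.AtPrime q)
      (Localization.AtPrime q ⊗[B] (B ⊗[A] E)) :=
    Groth.Agent.H2.MatlisBaseChange.injective_of_linearEquiv
      (e2.symm.trans (e3.trans e4.symm)) hinj1
  exact injective_restrictScalars_of_flat B (Localization.AtPrime q) _ hinj2

include hf in
/-- **Base change of `E(A/p)`**: if `A → B` is flat, both rings Noetherian, and `p B_q = q B_q`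
for all primes `q` of `B` with contraction `p`, then `B ⊗_A E(A/p)` is an injective `B`-module. -/
theorem injective_tensor_of_isInjectiveHull
    (h : ∀ q : PrimeSpectrum B, Ideal.map (algebraMap B (Localization.AtPrime q.asIdeal))
      ((q.asIdeal.comap (algebraMap A B)).map (algebraMap A B)) =
      maximalIdeal (Localization.AtPrime q.asIdeal)) :
    Module.Injective B (B ⊗[A] E) := by
  have hEinj : ∀ a : A, a ∉ p → Function.Injective (fun x : E => a • x) := fun a ha =>
    Groth.Agent.H2.InjHullLoc.smul_injective_of_notMem p f hf a ha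
  have hEsurj : ∀ a : A, a ∉ p → Function.Surjective (fun x : E => a • x) := fun a ha =>
    Groth.Agent.H2.InjHullLoc.smul_surjective_of_notMem p f hf a ha
  -- multiplication by `a ∉ p` is bijective on `B ⊗ E`
  have hbij : ∀ a : A, a ∉ p → ∃ ψ : (B ⊗[A] E) ≃ₗ[A] (B ⊗[A] E),
      ∀ z, ψ z = algebraMap A B a • z := by
    intro a ha
    let φ : E ≃ₗ[A] E := LinearEquiv.ofBijective (LinearMap.lsmul A E a)
      ⟨hEinj a ha, hEsurj a ha⟩
    refine ⟨TensorProduct.congr (LinearEquiv.refl A B) φ, fun z => ?_⟩
    induction z using TensorProduct.induction_on with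
    | zero => rw [map_zero, smul_zero]
    | tmul b e =>
      rw [TensorProduct.congr_tmul, LinearEquiv.refl_apply, algebraMap_smul]
      change b ⊗ₜ[A] (a • e) = a • (b ⊗ₜ[A] e)
      rw [TensorProduct.tmul_smul]
    | add x y hx hy => rw [map_add, hx, hy, smul_add]
  refine injective_of_local_data (p.map (algebraMap A B))
    ((algebraMap A B) '' (p.primeCompl : Set A)) ?_ ?_ ?_ ?_
  · -- power torsion
    have key : ∀ (n : ℕ) (e : E), (∀ a ∈ p ^ n, a • e = 0) → ∀ (b : B),
        ∀ c ∈ (p.map (algebraMap A B)) ^ n, c • (b ⊗ₜ[A] e) = 0 := by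
      intro n e he b c hc
      rw [← Ideal.map_pow] at hc
      have hle : (p ^ n).map (algebraMap A B) ≤
          LinearMap.ker (LinearMap.toSpanSingleton B (B ⊗[A] E) (b ⊗ₜ[A] e)) := by
        rw [Ideal.map_le_iff_le_comap]
        intro a ha
        rw [Ideal.mem_comap, LinearMap.mem_ker, LinearMap.toSpanSingleton_apply, algebraMap_smul,
          ← TensorProduct.tmul_smul, he a ha, TensorProduct.tmul_zero]
      have := hle hc
      rwa [LinearMap.mem_ker, LinearMap.toSpanSingleton_apply] at this
    intro z
    induction z using TensorProduct.induction_on with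
    | zero => exact ⟨0, fun b _ => smul_zero b⟩
    | tmul b e =>
      obtain ⟨n, hn⟩ := Groth.Agent.H2.InjHullLoc.isPowerTorsion p f hf e
      exact ⟨n, key n e hn b⟩
    | add x y hx hy =>
      obtain ⟨n, hn⟩ := hx
      obtain ⟨k, hk⟩ := hy
      refine ⟨max n k, fun c hc => ?_⟩
      rw [smul_add, hn c (Ideal.pow_le_pow_right (le_max_left n k) hc),
        hk c (Ideal.pow_le_pow_right (le_max_right n k) hc), add_zero]
  · rintro _ ⟨a, ha, rfl⟩ x hx
    obtain ⟨ψ, hψ⟩ := hbij a ha
    rw [← hψ] at hx
    exact ψ.injective (hx.trans (map_zero ψ).symm)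
  · rintro _ ⟨a, ha, rfl⟩ x
    obtain ⟨ψ, hψ⟩ := hbij a ha
    obtain ⟨y, hy⟩ := ψ.surjective x
    exact ⟨y, by rw [← hψ, hy]⟩
  · intro q hq hJq hTq
    have := hq
    have hqp : q.comap (algebraMap A B) = p := by
      apply le_antisymm
      · intro a ha
        by_contra hap
        exact hTq _ ⟨a, hap, rfl⟩ (Ideal.mem_comap.mp ha)
      · intro a ha
        exact Ideal.mem_comap.mpr (hJq (Ideal.mem_map_of_mem _ ha))
    have hq' := h ⟨q, hq⟩
    simp only [hqp] at hq'
    have hloc : IsLocalizedModule q.primeCompl
        (TensorProduct.mk B (Localization.AtPrime q) (B ⊗[A] E) 1) :=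
      (isLocalizedModule_iff_isBaseChange q.primeCompl (Localization.AtPrime q) _).mpr
        (TensorProduct.isBaseChange B (B ⊗[A] E) (Localization.AtPrime q))
    refine ⟨Localization.AtPrime q ⊗[B] (B ⊗[A] E), inferInstance, inferInstance,
      injective_localization_tensor p f hf q hqp hq',
      TensorProduct.mk B (Localization.AtPrime q) (B ⊗[A] E) 1, ?_, ?_⟩
    · intro m hm
      obtain ⟨c, hc⟩ := (IsLocalizedModule.eq_zero_iff q.primeCompl _).mp hm
      exact ⟨c.1, c.2, hc⟩
    · intro n
      obtain ⟨⟨m, c⟩, hmc⟩ := IsLocalizedModule.surj q.primeCompl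
        (TensorProduct.mk B (Localization.AtPrime q) (B ⊗[A] E) 1) n
      exact ⟨c.1, c.2, m, hmc⟩

end Groth.Agent.H9.InjBC
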