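import Groth.Agent.H9.TorFlip
import Groth.Agent.H9.TorOneKernel
import Groth.Agent.H18.TorSplice

/-! Change of rings for `Tor`: if `Tor_q^A(A', X) = 0` for `q ≥ 1` then
`Tor_n^A(Q', X) ≅ Tor_n^{A'}(Q', A' ⊗_A X)` for every `A'`-module `Q'` (semilinear bijection). -/

set_option autoImplicit false
set_option linter.unusedSectionVars false
universe u

namespace Groth.Agent.H9.TorChangeRing

open CategoryTheory CategoryTheory.Limits MonoidalCategory TensorProduct

variable {A A' : Type u} [CommRing A] [CommRing A'] [Algebra A A']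

/-- existence of a bijection semilinear over `A → A'`. -/
def SemiIso (M N : Type u) [AddCommGroup M] [Module A M] [AddCommGroup N] [Module A' N] : Prop :=
  ∃ φ : M →ₛₗ[algebraMap A A'] N, Function.Bijective φ

lemma SemiIso.of_left {M M' N : Type u} [AddCommGroup M] [Module A M] [AddCommGroup M']
    [Module A M'] [AddCommGroup N] [Module A' N] (e : M ≃ₗ[A] M') (h : SemiIso (A := A) (A' := A') M' N) :
    SemiIso (A := A) (A' := A') M N := by
  obtain ⟨φ, hφ⟩ := h
  refine ⟨φ.comp e.toLinearMap, ?_⟩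
  exact hφ.comp e.bijective

lemma SemiIso.of_right {M N N' : Type u} [AddCommGroup M] [Module A M] [AddCommGroup N]
    [Module A' N] [AddCommGroup N'] [Module A' N'] (h : SemiIso (A := A) (A' := A') M N)
    (e : N ≃ₗ[A'] N') : SemiIso (A := A) (A' := A') M N' := by
  obtain ⟨φ, hφ⟩ := h
  refine ⟨e.toLinearMap.comp φ, ?_⟩
  exact e.bijective.comp hφ

/-- semilinear bijection between kernels of intertwined maps. -/
lemma semiIso_ker {M₁ M₂ N₁ N₂ : Type u} [AddCommGroup M₁] [Module A M₁] [AddCommGroup M₂]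
    [Module A M₂] [AddCommGroup N₁] [Module A' N₁] [AddCommGroup N₂] [Module A' N₂]
    (f : M₁ →ₗ[A] M₂) (g : N₁ →ₗ[A'] N₂)
    (φ₁ : M₁ →ₛₗ[algebraMap A A'] N₁) (h₁ : Function.Bijective φ₁)
    (φ₂ : M₂ →ₛₗ[algebraMap A A'] N₂) (h₂ : Function.Injective φ₂)
    (hc : ∀ x, φ₂ (f x) = g (φ₁ x)) :
    SemiIso (A := A) (A' := A') (LinearMap.ker f) (LinearMap.ker g) := by
  have hmem : ∀ x : LinearMap.ker f, φ₁ x.1 ∈ LinearMap.ker g := by
    intro x
    rw [LinearMap.mem_ker, ← hc, x.2, map_zero]
  let ψ : LinearMap.ker f →ₛₗ[algebraMap A A'] LinearMap.ker g :=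
    { toFun := fun x => ⟨φ₁ x.1, hmem x⟩
      map_add' := fun x y => by
        apply Subtype.ext
        simp
      map_smul' := fun a x => by
        apply Subtype.ext
        simp }
  refine ⟨ψ, ?_, ?_⟩
  · intro x y hxy
    have h := congrArg Subtype.val hxy
    exact Subtype.ext (h₁.1 h)
  · intro y
    obtain ⟨x, hx⟩ := h₁.2 y.1
    have hx0 : f x = 0 := by
      apply h₂
      rw [hc, hx, map_zero]
      exact y.2
    exact ⟨⟨x, hx0⟩, Subtype.ext hx⟩

section Main

variable (Q' : Type u) [AddCommGroup Q'] [Module A' Q'] [Module A Q'] [IsScalarTower A A' Q']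

/-- base change of a module. -/
abbrev bc (X : ModuleCat.{u} A) : ModuleCat.{u} A' := ModuleCat.of A' (A' ⊗[A] X)

/-- the cancellation bijection `Q' ⊗[A] X → Q' ⊗[A'] (A' ⊗[A] X)`. -/
noncomputable def canc (X : Type u) [AddCommGroup X] [Module A X] :
    Q' ⊗[A] X →ₛₗ[algebraMap A A'] Q' ⊗[A'] (A' ⊗[A] X) where
  toFun := (AlgebraTensorModule.cancelBaseChange A A' A' Q' X).symm
  map_add' := map_add _
  map_smul' := fun a t => by
    rw [← algebraMap_smul A' a t]
    exact map_smul _ _ _

lemma canc_tmul (X : Type u) [AddCommGroup X] [Module A X] (q : Q') (x : X) :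
    canc (A := A) (A' := A') Q' X (q ⊗ₜ[A] x) = q ⊗ₜ[A'] ((1 : A') ⊗ₜ[A] x) := rfl

lemma canc_bijective (X : Type u) [AddCommGroup X] [Module A X] :
    Function.Bijective (canc (A := A) (A' := A') Q' X) :=
  (AlgebraTensorModule.cancelBaseChange A A' A' Q' X).symm.bijective

lemma canc_naturality {X Y : Type u} [AddCommGroup X] [Module A X] [AddCommGroup Y] [Module A Y]
    (f : X →ₗ[A] Y) (t : Q' ⊗[A] X) :
    canc Q' Y (LinearMap.lTensor Q' f t) = LinearMap.lTensor Q' (f.baseChange A') (canc Q' X t) := by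
  induction t using TensorProduct.induction_on with
  | zero => simp
  | tmul q x =>
    rw [LinearMap.lTensor_tmul, canc_tmul, canc_tmul, LinearMap.lTensor_tmul,
      LinearMap.baseChange_tmul]
  | add a b ha hb => rw [map_add, map_add, ha, hb, map_add, map_add]

/-- base change of a short complex. -/
noncomputable def bcSC (S : ShortComplex (ModuleCat.{u} A)) : ShortComplex (ModuleCat.{u} A') :=
  ShortComplex.mk (X₁ := bc S.X₁) (X₂ := bc S.X₂) (X₃ := bc S.X₃)
    (ModuleCat.ofHom (S.f.hom.baseChange A')) (ModuleCat.ofHom (S.g.hom.baseChange A')) (by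
      rw [← ModuleCat.ofHom_comp, ← LinearMap.baseChange_comp, ← ModuleCat.hom_comp, S.zero]
      ext t
      simp)

lemma bcSC_shortExact {S : ShortComplex (ModuleCat.{u} A)} (hS : S.ShortExact)
    (hinj : Function.Injective (LinearMap.lTensor A' S.f.hom)) :
    (bcSC (A' := A') S).ShortExact := by
  apply ModuleCat.shortComplex_shortExact
  · have hex : Function.Exact S.f.hom S.g.hom :=
      (ShortComplex.ShortExact.moduleCat_exact_iff_function_exact S).mp hS.exact
    have hsurj : Function.Surjective S.g.hom := (ModuleCat.epi_iff_surjective S.g).mp hS.epi_g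
    exact lTensor_exact A' hex hsurj
  · exact hinj
  · have hsurj : Function.Surjective S.g.hom := (ModuleCat.epi_iff_surjective S.g).mp hS.epi_g
    exact LinearMap.lTensor_surjective A' hsurj

lemma projective_bc (X : ModuleCat.{u} A) [Projective X] : Projective (bc (A' := A') X) := by
  have h1 : Module.Projective A X := (IsProjective.iff_projective (R := A) (P := X)).mpr ‹_›
  have h2 : Module.Projective A' (A' ⊗[A] X) := inferInstance
  exact (IsProjective.iff_projective (R := A') (P := A' ⊗[A] X)).mp h2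

lemma semiIso_zero (X : ModuleCat.{u} A) :
    SemiIso (A := A) (A' := A') (((Tor (ModuleCat.{u} A) 0).obj (ModuleCat.of A Q')).obj X)
      (((Tor (ModuleCat.{u} A') 0).obj (ModuleCat.of A' Q')).obj (bc X)) := by
  have e1 := (torZeroIso (ModuleCat.of A Q') X).toLinearEquiv
  have e2 := (torZeroIso (ModuleCat.of A' Q') (bc (A' := A') X)).toLinearEquiv
  refine SemiIso.of_left e1 (SemiIso.of_right ?_ e2.symm)
  exact ⟨canc Q' X, canc_bijective Q' X⟩

lemma semiIso_one (X : ModuleCat.{u} A)
    (h1 : IsZero (((Tor (ModuleCat.{u} A) 1).obj (ModuleCat.of A A')).obj X)) :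
    SemiIso (A := A) (A' := A') (((Tor (ModuleCat.{u} A) 1).obj (ModuleCat.of A Q')).obj X)
      (((Tor (ModuleCat.{u} A') 1).obj (ModuleCat.of A' Q')).obj (bc X)) := by
  let S := Groth.Agent.H18.projPres X
  have hS : S.ShortExact := Groth.Agent.H18.projPres_shortExact X
  have hinj : Function.Injective (LinearMap.lTensor A' S.f.hom) :=
    (isZero_tor_one_iff_injective hS (ModuleCat.of A A')).1 h1
  have hS' : (bcSC (A' := A') S).ShortExact := bcSC_shortExact hS hinj
  have hproj : Projective (bcSC (A' := A') S).X₂ := projective_bc S.X₂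
  let FA : ModuleCat.{u} A ⥤ ModuleCat.{u} A :=
    (tensoringLeft (ModuleCat.{u} A)).obj (ModuleCat.of A Q')
  have hFA : PreservesFiniteColimits FA :=
    inferInstanceAs (PreservesFiniteColimits (tensorLeft (ModuleCat.of A Q')))
  let FA' : ModuleCat.{u} A' ⥤ ModuleCat.{u} A' :=
    (tensoringLeft (ModuleCat.{u} A')).obj (ModuleCat.of A' Q')
  have hFA' : PreservesFiniteColimits FA' :=
    inferInstanceAs (PreservesFiniteColimits (tensorLeft (ModuleCat.of A' Q')))
  obtain ⟨e⟩ := Groth.Agent.H18.leftDerived_one_iso_kernel FA hS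
  obtain ⟨e'⟩ := Groth.Agent.H18.leftDerived_one_iso_kernel FA' hS'
  have k := (ModuleCat.kernelIsoKer (FA.map S.f)).toLinearEquiv
  have k' := (ModuleCat.kernelIsoKer (FA'.map (bcSC (A' := A') S).f)).toLinearEquiv
  refine SemiIso.of_left (e.toLinearEquiv ≪≫ₗ k)
    (SemiIso.of_right ?_ (e'.toLinearEquiv ≪≫ₗ k').symm)
  refine semiIso_ker (FA.map S.f).hom (FA'.map (bcSC (A' := A') S).f).hom
    (canc Q' S.X₁) (canc_bijective Q' S.X₁) (canc Q' S.X₂) (canc_bijective Q' S.X₂).1 ?_
  intro t
  exact canc_naturality Q' S.f.hom t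

/-- change of rings for `Tor`. -/
theorem semiIso_tor : ∀ (n : ℕ) (X : ModuleCat.{u} A),
    (∀ q : ℕ, IsZero (((Tor (ModuleCat.{u} A) (q + 1)).obj (ModuleCat.of A A')).obj X)) →
    SemiIso (A := A) (A' := A') (((Tor (ModuleCat.{u} A) n).obj (ModuleCat.of A Q')).obj X)
      (((Tor (ModuleCat.{u} A') n).obj (ModuleCat.of A' Q')).obj (bc X)) := by
  intro n
  induction n with
  | zero => intro X _; exact semiIso_zero Q' X
  | succ n ih =>
    intro X hX
    rcases n with _ | n
    · exact semiIso_one Q' X (hX 0)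
    · let S := Groth.Agent.H18.projPres X
      have hS : S.ShortExact := Groth.Agent.H18.projPres_shortExact X
      have hinj : Function.Injective (LinearMap.lTensor A' S.f.hom) :=
        (isZero_tor_one_iff_injective hS (ModuleCat.of A A')).1 (hX 0)
      have hS' : (bcSC (A' := A') S).ShortExact := bcSC_shortExact hS hinj
      have hproj : Projective (bcSC (A' := A') S).X₂ := projective_bc S.X₂
      let FA : ModuleCat.{u} A ⥤ ModuleCat.{u} A :=
        (tensoringLeft (ModuleCat.{u} A)).obj (ModuleCat.of A Q')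
      let FA' : ModuleCat.{u} A' ⥤ ModuleCat.{u} A' :=
        (tensoringLeft (ModuleCat.{u} A')).obj (ModuleCat.of A' Q')
      obtain ⟨e⟩ := Groth.Agent.H18.leftDerived_shift FA hS n
      obtain ⟨e'⟩ := Groth.Agent.H18.leftDerived_shift FA' hS' n
      have hK : ∀ q : ℕ,
          IsZero (((Tor (ModuleCat.{u} A) (q + 1)).obj (ModuleCat.of A A')).obj S.X₁) := by
        intro q
        obtain ⟨e0⟩ := Groth.Agent.H18.leftDerived_shift
          ((tensoringLeft (ModuleCat.{u} A)).obj (ModuleCat.of A A')) hS q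
        exact IsZero.of_iso (hX (q + 1)) e0.symm
      exact SemiIso.of_left e.toLinearEquiv
        (SemiIso.of_right (ih S.X₁ hK) e'.toLinearEquiv.symm)

end Main

end Groth.Agent.H9.TorChangeRing
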