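import Groth.Agent.H9.UnivFlatCore
import Mathlib.LinearAlgebra.Basis.VectorSpace
import Mathlib.Algebra.Module.Torsion.Basic
import Mathlib.RingTheory.Ideal.Quotient.Basic

/-! Minimal presentations over a ring with a nilpotent maximal ideal, and the universal flattening
ideal in that case. -/

universe u

open TensorProduct

namespace Groth.Agent.H9.UnivFlat

variable {A : Type u} [CommRing A]

/-- Nakayama for a nilpotent ideal, no finiteness. -/
theorem eq_top_of_sup_smul_top_eq_top {N : Type u} [AddCommGroup N] [Module A N] (m : Ideal A)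
    (hm : IsNilpotent m) (P : Submodule A N) (h : P ⊔ m • (⊤ : Submodule A N) = ⊤) : P = ⊤ := by
  have key : ∀ n : ℕ, (⊤ : Submodule A N) ≤ P ⊔ m ^ n • (⊤ : Submodule A N) := by
    intro n
    induction n with
    | zero => rw [pow_zero, Ideal.one_eq_top, Submodule.top_smul]; exact le_sup_right
    | succ n ih =>
      calc (⊤ : Submodule A N) = P ⊔ m • (⊤ : Submodule A N) := h.symm
        _ ≤ P ⊔ m • (P ⊔ m ^ n • (⊤ : Submodule A N)) :=
          sup_le_sup_left (Submodule.smul_mono le_rfl ih) _
        _ = P ⊔ (m • P ⊔ m • (m ^ n • (⊤ : Submodule A N))) := by rw [Submodule.smul_sup]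
        _ ≤ P ⊔ m ^ (n + 1) • (⊤ : Submodule A N) := by
          rw [← Submodule.mul_smul, ← pow_succ']
          exact sup_le le_sup_left (sup_le (Submodule.smul_le_right.trans le_sup_left) le_sup_right)
  obtain ⟨r, hr⟩ := hm
  have := key r
  rw [hr, Ideal.zero_eq_bot, Submodule.bot_smul, sup_bot_eq] at this
  exact top_le_iff.mp this

theorem exists_minimal_presentation (m : Ideal A) [hmax : m.IsMaximal] (hm : IsNilpotent m)
    (N : Type u) [AddCommGroup N] [Module A N] :
    ∃ (ι : Type u) (π : (ι →₀ A) →ₗ[A] N), Function.Surjective π ∧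
      ∀ x ∈ LinearMap.ker π, x ∈ m • (⊤ : Submodule A (ι →₀ A)) := by
  classical
  letI : Field (A ⧸ m) := Ideal.Quotient.field m
  let V := N ⧸ (m • (⊤ : Submodule A N))
  let b := Module.Basis.ofVectorSpace (A ⧸ m) V
  let ι := Module.Basis.ofVectorSpaceIndex (A ⧸ m) V
  have hsurjQ : Function.Surjective (Submodule.mkQ (m • (⊤ : Submodule A N))) :=
    Submodule.mkQ_surjective _
  choose n hn using fun i : ι => hsurjQ (b i)
  let π : (ι →₀ A) →ₗ[A] N := Finsupp.linearCombination A n
  let ψ : (ι →₀ A) →ₗ[A] V := (Submodule.mkQ (m • (⊤ : Submodule A N))) ∘ₗ π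
  let ρ : (ι →₀ A) →ₗ[A] (ι →₀ (A ⧸ m)) :=
    Finsupp.mapRange.linearMap (Algebra.linearMap A (A ⧸ m))
  have hρψ : ∀ x, (b.repr (ψ x) : ι →₀ (A ⧸ m)) = ρ x := by
    intro x
    induction x using Finsupp.induction_linear with
    | zero => simp
    | add x y hx hy => rw [map_add, map_add, map_add, hx, hy]
    | single i a =>
      have h1 : ψ (Finsupp.single i a) = (Ideal.Quotient.mk m a) • b i := by
        simp only [ψ, π, LinearMap.comp_apply, Finsupp.linearCombination_single, map_smul, hn]
        rfl
      rw [h1, map_smul, Module.Basis.repr_self]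
      simp [ρ]
  refine ⟨ι, π, ?_, ?_⟩
  · -- surjectivity
    have hρ : Function.Surjective ρ :=
      Finsupp.mapRange_surjective _ (map_zero _) Ideal.Quotient.mk_surjective
    have hP : LinearMap.range π ⊔ m • (⊤ : Submodule A N) = ⊤ := by
      rw [eq_top_iff]
      intro y _
      obtain ⟨x, hx⟩ := hρ (b.repr (Submodule.mkQ (m • (⊤ : Submodule A N)) y))
      have h1 : ψ x = Submodule.mkQ (m • (⊤ : Submodule A N)) y := by
        apply b.repr.injective
        rw [hρψ, hx]
      have h2 : y - π x ∈ m • (⊤ : Submodule A N) := by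
        rw [← Submodule.ker_mkQ (m • (⊤ : Submodule A N)), LinearMap.mem_ker, map_sub, ← h1]
        exact sub_self _
      have h3 : y = π x + (y - π x) := by abel
      rw [h3]
      exact Submodule.add_mem_sup (LinearMap.mem_range_self π x) h2
    have := eq_top_of_sup_smul_top_eq_top m hm _ hP
    exact LinearMap.range_eq_top.mp this
  · intro x hx
    have h1 : ψ x = 0 := by
      change Submodule.mkQ _ (π x) = 0
      rw [LinearMap.mem_ker.mp hx, map_zero]
    have h2 : ρ x = 0 := by rw [← hρψ, h1, map_zero]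
    have h3 : ∀ i, x i ∈ m := by
      intro i
      have := DFunLike.congr_fun h2 i
      simpa [ρ, Ideal.Quotient.eq_zero_iff_mem] using this
    have hx' : x = x.sum Finsupp.single := (Finsupp.sum_single x).symm
    rw [hx', Finsupp.sum]
    refine Submodule.sum_mem _ fun i _ => ?_
    have h4 : Finsupp.single i (x i) = (x i) • Finsupp.single i (1 : A) := by
      rw [Finsupp.smul_single, smul_eq_mul, mul_one]
    rw [h4]
    exact Submodule.smul_mem_smul (h3 i) Submodule.mem_top

end Groth.Agent.H9.UnivFlat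

namespace Groth.Agent.H9.UnivFlat

variable {A : Type u} [CommRing A]

theorem exists_flattening_ideal_of_nilpotent_maximal (m : Ideal A) [m.IsMaximal]
    (hm : IsNilpotent m) (N : Type u) [AddCommGroup N] [Module A N] :
    ∃ I : Ideal A, ∀ (A' : Type u) [CommRing A'] [Algebra A A'],
      Module.Flat A' (A' ⊗[A] N) ↔ I.map (algebraMap A A') = ⊥ := by
  obtain ⟨ι, π, hπ, hK⟩ := exists_minimal_presentation m hm N
  refine ⟨coeffIdeal (K := ↥(LinearMap.ker π)) (LinearMap.ker π).subtype,
    fun A' _ _ => ⟨fun hflat => ?_, fun h => ?_⟩⟩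
  · exact map_coeffIdeal_eq_bot_of_flat (K := ↥(LinearMap.ker π)) A' m hm
      (fun x => hK x.1 x.2) (LinearMap.exact_subtype_ker_map π) hπ
  · exact flat_of_map_coeffIdeal_eq_bot (K := ↥(LinearMap.ker π)) A'
      (LinearMap.exact_subtype_ker_map π) hπ h

end Groth.Agent.H9.UnivFlat
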