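import Groth.Agent.H9.Chevalley
import Mathlib.RingTheory.Localization.AtPrime.Basic
import Mathlib.RingTheory.Localization.Ideal
import Mathlib.RingTheory.KrullDimension.Basic
import Mathlib.RingTheory.Finiteness.Ideal

set_option autoImplicit false
set_option linter.unusedSectionVars false
set_option linter.style.haveILetI false

namespace Groth.Agent.H9

open IsLocalRing

variable {A : Type*} [CommRing A] [IsDomain A] [IsLocalRing A] [IsNoetherianRing A]
  (p : Ideal A) [p.IsPrime]

/-- the `m`-th symbolic power of `p`. -/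
noncomputable def symPow (m : ℕ) : Ideal A :=
  ((Ideal.map (algebraMap A (Localization.AtPrime p)) p) ^ m).comap
    (algebraMap A (Localization.AtPrime p))

lemma symPow_antitone : Antitone (symPow p) :=
  fun _ _ h => Ideal.comap_mono (Ideal.pow_le_pow_right h)

lemma algebraMap_injective_atPrime :
    Function.Injective (algebraMap A (Localization.AtPrime p)) :=
  IsLocalization.injective (Localization.AtPrime p) p.primeCompl_le_nonZeroDivisors

lemma iInf_symPow : ⨅ m, symPow p m = ⊥ := by
  rw [eq_bot_iff]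
  intro x hx
  rw [Submodule.mem_iInf] at hx
  have hne : Ideal.map (algebraMap A (Localization.AtPrime p)) p ≠ ⊤ := by
    rw [Localization.AtPrime.map_eq_maximalIdeal]
    exact Ideal.IsPrime.ne_top inferInstance
  have h1 : algebraMap A (Localization.AtPrime p) x ∈
      ⨅ i, (Ideal.map (algebraMap A (Localization.AtPrime p)) p) ^ i := by
    rw [Submodule.mem_iInf]
    exact fun i => hx i
  rw [Ideal.iInf_pow_eq_bot_of_isLocalRing _ hne, Submodule.mem_bot] at h1
  rw [Submodule.mem_bot]
  exact algebraMap_injective_atPrime p (by rw [h1, map_zero])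

lemma exists_notMem_mul_mem_of_mem_symPow {n : ℕ} {x : A} (hx : x ∈ symPow p n) :
    ∃ s, s ∉ p ∧ s * x ∈ p ^ n := by
  have h1 : algebraMap A (Localization.AtPrime p) x ∈
      Ideal.map (algebraMap A (Localization.AtPrime p)) (p ^ n) := by
    rw [Ideal.map_pow]; exact hx
  obtain ⟨⟨a, s⟩, h2⟩ := (IsLocalization.mem_map_algebraMap_iff p.primeCompl _).1 h1
  refine ⟨s.1, s.2, ?_⟩
  have h3 : x * s.1 = a.1 := by
    apply algebraMap_injective_atPrime p
    rw [map_mul]; exact h2
  rw [mul_comm, h3]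
  exact a.2

/-- primes strictly above `p` are the maximal ideal when `dim A/p = 1`. -/
lemma maximalIdeal_le_of_lt (hp : ringKrullDim (A ⧸ p) = 1) (q : Ideal A) [q.IsPrime]
    (hpq : p < q) : maximalIdeal A ≤ q := by
  have : Ring.KrullDimLE 1 (A ⧸ p) := Ring.krullDimLE_iff.2 hp.le
  have hsurj : Function.Surjective (Ideal.Quotient.mk p) := Ideal.Quotient.mk_surjective
  have hker : RingHom.ker (Ideal.Quotient.mk p) ≤ q := by
    rw [Ideal.mk_ker]; exact hpq.le
  have hprime : (q.map (Ideal.Quotient.mk p)).IsPrime :=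
    Ideal.map_isPrime_of_surjective hsurj hker
  have hne : q.map (Ideal.Quotient.mk p) ≠ ⊥ := by
    intro h0
    rw [Ideal.map_eq_bot_iff_le_ker, Ideal.mk_ker] at h0
    exact absurd h0 (not_le_of_gt hpq)
  have hmax : (q.map (Ideal.Quotient.mk p)).IsMaximal := hprime.isMaximal_of_ne_bot hne
  have hq : q = (q.map (Ideal.Quotient.mk p)).comap (Ideal.Quotient.mk p) := by
    rw [Ideal.comap_map_of_surjective _ hsurj, ← RingHom.ker_eq_comap_bot]
    exact (sup_eq_left.2 hker).symm
  have hqmax : q.IsMaximal := by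
    rw [hq]; exact Ideal.comap_isMaximal_of_surjective _ hsurj
  rw [IsLocalRing.eq_maximalIdeal hqmax]

lemma exists_pow_mul_symPow_le (hp : ringKrullDim (A ⧸ p) = 1) (n : ℕ) :
    ∃ k : ℕ, maximalIdeal A ^ k * symPow p n ≤ p ^ n := by
  suffices h : ∀ (N : Ideal A) (_ : N.FG), N ≤ symPow p n →
      ∃ k : ℕ, maximalIdeal A ^ k * N ≤ p ^ n from
    h _ (IsNoetherian.noetherian _) le_rfl
  intro N hN
  induction N, hN using Submodule.fg_induction with
  | singleton x =>
    intro hx
    have hx' : x ∈ symPow p n := hx (Submodule.mem_span_singleton_self x)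
    obtain ⟨s, hs, hsx⟩ := exists_notMem_mul_mem_of_mem_symPow p hx'
    have hrad : maximalIdeal A ≤ (p ^ n ⊔ Ideal.span {s}).radical := by
      rw [Ideal.radical_eq_sInf]
      refine le_sInf ?_
      rintro q ⟨hq, hqprime⟩
      haveI := hqprime
      rcases Nat.eq_zero_or_pos n with rfl | hn
      · -- `p ^ 0 = ⊤`
        rw [pow_zero, Ideal.one_eq_top, top_sup_eq] at hq
        exact (hqprime.ne_top (top_le_iff.1 hq)).elim
      have hpq : p ≤ q := hqprime.le_of_pow_le (le_sup_left.trans hq)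
      have hsq : s ∈ q := hq (Ideal.mem_sup_right (Ideal.subset_span rfl))
      have hlt : p < q := lt_of_le_of_ne hpq fun h => hs (h ▸ hsq)
      exact maximalIdeal_le_of_lt p hp q hlt
    obtain ⟨k, hk⟩ := Ideal.exists_pow_le_of_le_radical_of_fg hrad
      (IsNoetherian.noetherian _)
    refine ⟨k, ?_⟩
    rw [Ideal.mul_le]
    intro r hr y hy
    obtain ⟨c, rfl⟩ := Submodule.mem_span_singleton.1 hy
    obtain ⟨a, ha, b, hb, rfl⟩ := Submodule.mem_sup.1 (hk hr)
    obtain ⟨d, rfl⟩ := Ideal.mem_span_singleton'.1 hb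
    have : (a + d * s) * c • x = a * (c * x) + (d * c) * (s * x) := by
      simp only [smul_eq_mul]; ring
    rw [this]
    exact Ideal.add_mem _ (Ideal.mul_mem_right _ _ ha) (Ideal.mul_mem_left _ _ hsx)
  | sup N₁ N₂ _ _ h₁ h₂ =>
    intro h
    obtain ⟨k₁, hk₁⟩ := h₁ (le_sup_left.trans h)
    obtain ⟨k₂, hk₂⟩ := h₂ (le_sup_right.trans h)
    refine ⟨max k₁ k₂, ?_⟩
    rw [Ideal.mul_sup]
    refine sup_le ?_ ?_
    · exact (Ideal.mul_mono_left (Ideal.pow_le_pow_right (le_max_left _ _))).trans hk₁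
    · exact (Ideal.mul_mono_left (Ideal.pow_le_pow_right (le_max_right _ _))).trans hk₂

/-- in a complete local Noetherian domain, for a prime `p` with `dim A/p = 1`, the symbolic
topology of `p` is finer than the `p`-adic one. -/
theorem exists_symPow_le_pow [IsAdicComplete (maximalIdeal A) A]
    (hp : ringKrullDim (A ⧸ p) = 1) (n : ℕ) : ∃ m : ℕ, n ≤ m ∧ symPow p m ≤ p ^ n := by
  obtain ⟨k, hk⟩ := exists_pow_mul_symPow_le p hp n
  obtain ⟨c, hc⟩ := Ideal.exists_pow_inf_eq_pow_smul (maximalIdeal A)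
    (symPow p n : Submodule A A)
  obtain ⟨m₀, hm₀⟩ := chevalley (symPow p) (symPow_antitone p) (iInf_symPow p) (k + c)
  refine ⟨max n m₀, le_max_left _ _, ?_⟩
  have h1 : symPow p (max n m₀) ≤ maximalIdeal A ^ (k + c) :=
    (symPow_antitone p (le_max_right _ _)).trans hm₀
  have h2 : symPow p (max n m₀) ≤ symPow p n := symPow_antitone p (le_max_left _ _)
  have h3 := hc (k + c) (Nat.le_add_left _ _)
  rw [Nat.add_sub_cancel] at h3
  intro x hx
  have hx' : x ∈ (maximalIdeal A ^ (k + c) • ⊤ ⊓ symPow p n : Submodule A A) := by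
    refine ⟨?_, h2 hx⟩
    rw [smul_eq_mul, Ideal.mul_top]
    exact h1 hx
  rw [h3] at hx'
  have h4 : (maximalIdeal A ^ k • (maximalIdeal A ^ c • ⊤ ⊓ symPow p n) : Submodule A A) ≤
      maximalIdeal A ^ k * symPow p n := by
    rw [← smul_eq_mul]
    exact Submodule.smul_mono le_rfl inf_le_right
  exact hk (h4 hx')

end Groth.Agent.H9
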