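import Groth.Agent.H9.TorOne
import Mathlib.Algebra.Homology.HomologySequenceLemmas
import Mathlib.Algebra.Homology.HomologicalComplexAbelian
import Mathlib.RingTheory.Flat.Basic

set_option autoImplicit false
set_option linter.unusedSectionVars false
universe u

namespace Groth.Agent.H9

open CategoryTheory CategoryTheory.Limits MonoidalCategory

variable {R : Type u} [CommRing R]

/-- the complex `X ⊗ Q•`. -/
noncomputable def tK (Q : ChainComplex (ModuleCat.{u} R) ℕ) (X : ModuleCat.{u} R) :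
    ChainComplex (ModuleCat.{u} R) ℕ :=
  (((tensoringLeft (ModuleCat.{u} R)).obj X).mapHomologicalComplex (ComplexShape.down ℕ)).obj Q

/-- the map `X ⊗ Q• ⟶ X' ⊗ Q•`. -/
noncomputable def tKmap (Q : ChainComplex (ModuleCat.{u} R) ℕ) {X X' : ModuleCat.{u} R}
    (a : X ⟶ X') : tK Q X ⟶ tK Q X' :=
  (NatTrans.mapHomologicalComplex ((tensoringLeft (ModuleCat.{u} R)).map a)
    (ComplexShape.down ℕ)).app Q

lemma tKmap_f (Q : ChainComplex (ModuleCat.{u} R) ℕ) {X X' : ModuleCat.{u} R}
    (a : X ⟶ X') (i : ℕ) : (tKmap Q a).f i = a ▷ Q.X i := rfl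

lemma tK_d (Q : ChainComplex (ModuleCat.{u} R) ℕ) (X : ModuleCat.{u} R) (i j : ℕ) :
    (tK Q X).d i j = X ◁ Q.d i j := rfl

lemma tKmap_comp (Q : ChainComplex (ModuleCat.{u} R) ℕ) {X X' X'' : ModuleCat.{u} R}
    (a : X ⟶ X') (b : X' ⟶ X'') : tKmap Q (a ≫ b) = tKmap Q a ≫ tKmap Q b := by
  apply HomologicalComplex.hom_ext
  intro i
  rw [HomologicalComplex.comp_f, tKmap_f, tKmap_f, tKmap_f, MonoidalCategory.comp_whiskerRight]
  rfl

lemma tKmap_zero (Q : ChainComplex (ModuleCat.{u} R) ℕ) (X X' : ModuleCat.{u} R) :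
    tKmap Q (0 : X ⟶ X') = 0 := by
  apply HomologicalComplex.hom_ext
  intro i
  rw [tKmap_f, MonoidalPreadditive.zero_whiskerRight]
  rfl

/-- the short complex of complexes `S ⊗ Q•`. -/
noncomputable def tKsc (Q : ChainComplex (ModuleCat.{u} R) ℕ)
    (S : ShortComplex (ModuleCat.{u} R)) :
    ShortComplex (ChainComplex (ModuleCat.{u} R) ℕ) :=
  ShortComplex.mk (tKmap Q S.f) (tKmap Q S.g) (by rw [← tKmap_comp, S.zero, tKmap_zero])

/-- functoriality of `tKsc`. -/
noncomputable def tKscMap (Q : ChainComplex (ModuleCat.{u} R) ℕ)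
    {S S' : ShortComplex (ModuleCat.{u} R)} (φ : S ⟶ S') : tKsc Q S ⟶ tKsc Q S' where
  τ₁ := tKmap Q φ.τ₁
  τ₂ := tKmap Q φ.τ₂
  τ₃ := tKmap Q φ.τ₃
  comm₁₂ := by
    change tKmap Q φ.τ₁ ≫ tKmap Q S'.f = tKmap Q S.f ≫ tKmap Q φ.τ₂
    rw [← tKmap_comp, ← tKmap_comp, φ.comm₁₂]
  comm₂₃ := by
    change tKmap Q φ.τ₂ ≫ tKmap Q S'.g = tKmap Q S.g ≫ tKmap Q φ.τ₃
    rw [← tKmap_comp, ← tKmap_comp, φ.comm₂₃]

lemma tKsc_shortExact (Q : ChainComplex (ModuleCat.{u} R) ℕ)
    (hQ : ∀ i, Module.Flat R (Q.X i)) {S : ShortComplex (ModuleCat.{u} R)}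
    (hS : S.ShortExact) : (tKsc Q S).ShortExact := by
  apply HomologicalComplex.shortExact_of_degreewise_shortExact
  intro i
  have := hQ i
  apply ModuleCat.shortComplex_shortExact
  · change Function.Exact (LinearMap.rTensor (Q.X i) S.f.hom) (LinearMap.rTensor (Q.X i) S.g.hom)
    exact rTensor_exact (Q.X i)
      ((ShortComplex.ShortExact.moduleCat_exact_iff_function_exact S).1 hS.exact)
      hS.moduleCat_surjective_g
  · change Function.Injective (LinearMap.rTensor (Q.X i) S.f.hom)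
    exact Module.Flat.rTensor_preserves_injective_linearMap _ hS.moduleCat_injective_f
  · change Function.Surjective (LinearMap.rTensor (Q.X i) S.g.hom)
    exact LinearMap.rTensor_surjective _ hS.moduleCat_surjective_g

/-- `X ⊗ Q•` is exact in positive degrees when `X` is flat and `Q•` is a resolution. -/
lemma isZero_homology_tK {N : ModuleCat.{u} R} (Q : ProjectiveResolution N)
    (X : ModuleCat.{u} R) [Module.Flat R X] (n : ℕ) :
    IsZero ((tK Q.complex X).homology (n + 1)) := by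
  apply HomologicalComplex.ExactAt.isZero_homology
  rw [HomologicalComplex.exactAt_iff' _ (n + 2) (n + 1) n (by simp) (by simp)]
  apply ModuleCat.shortComplex_exact
  change Function.Exact (LinearMap.lTensor X (Q.complex.d (n + 2) (n + 1)).hom)
    (LinearMap.lTensor X (Q.complex.d (n + 1) n).hom)
  apply Module.Flat.lTensor_exact
  exact (ShortComplex.ShortExact.moduleCat_exact_iff_function_exact _).1 (Q.exact_succ n)

/-- `Tor_{n+1}(X, N) = 0` for flat `X` (first variable). -/
theorem isZero_tor_succ_of_flat_left (X N : ModuleCat.{u} R) [Module.Flat R X] (n : ℕ) :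
    IsZero (((Tor (ModuleCat.{u} R) (n + 1)).obj X).obj N) :=
  IsZero.of_iso (isZero_homology_tK (ProjectiveResolution.of N) X n)
    ((ProjectiveResolution.of N).isoLeftDerivedObj
      ((tensoringLeft (ModuleCat.{u} R)).obj X) (n + 1))

/-- `a : X ⟶ X'` induces zero on `Tor_n(-, N)` for all `N`. -/
def TorNull {X X' : ModuleCat.{u} R} (a : X ⟶ X') (n : ℕ) : Prop :=
  ∀ N : ModuleCat.{u} R, ((Tor (ModuleCat.{u} R) n).map a).app N = 0

lemma tor_map_app_eq_zero_iff {X X' : ModuleCat.{u} R} (a : X ⟶ X') (n : ℕ)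
    {N : ModuleCat.{u} R} (Q : ProjectiveResolution N) :
    ((Tor (ModuleCat.{u} R) n).map a).app N = 0 ↔
      HomologicalComplex.homologyMap (tKmap Q.complex a) n = 0 := by
  let F := (tensoringLeft (ModuleCat.{u} R)).obj X
  let F' := (tensoringLeft (ModuleCat.{u} R)).obj X'
  let τ : F ⟶ F' := (tensoringLeft (ModuleCat.{u} R)).map a
  have h1 := Q.leftDerived_app_eq τ n
  change (NatTrans.leftDerived τ n).app N = 0 ↔ _
  rw [h1]
  constructor
  · intro h0
    have := congr((Q.isoLeftDerivedObj F n).inv ≫ $h0 ≫ (Q.isoLeftDerivedObj F' n).hom)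
    simp at this
    exact this
  · intro h0
    have h2 : (HomologicalComplex.homologyFunctor (ModuleCat.{u} R) (ComplexShape.down ℕ) n).map
        ((NatTrans.mapHomologicalComplex τ (ComplexShape.down ℕ)).app Q.complex) = 0 := h0
    rw [h2]
    simp

lemma torNull_iff {X X' : ModuleCat.{u} R} (a : X ⟶ X') (n : ℕ) :
    TorNull a n ↔ ∀ (N : ModuleCat.{u} R) (Q : ProjectiveResolution N),
      HomologicalComplex.homologyMap (tKmap Q.complex a) n = 0 := by
  constructor
  · intro h N Q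
    exact (tor_map_app_eq_zero_iff a n Q).1 (h N)
  · intro h N
    exact (tor_map_app_eq_zero_iff a n (ProjectiveResolution.of N)).2 (h N _)

lemma torNull_of_factors_flat {X F X' : ModuleCat.{u} R} [Module.Flat R F] (g : X ⟶ F)
    (h : F ⟶ X') (n : ℕ) : TorNull (g ≫ h) (n + 1) := by
  rw [torNull_iff]
  intro N Q
  rw [tKmap_comp, HomologicalComplex.homologyMap_comp]
  have : HomologicalComplex.homologyMap (tKmap Q.complex g) (n + 1) = 0 :=
    (isZero_homology_tK Q F n).eq_of_tgt _ _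
  rw [this, zero_comp]

/-- dimension shifting for `TorNull`. -/
lemma torNull_succ_iff {S S' : ShortComplex (ModuleCat.{u} R)} (hS : S.ShortExact)
    (hS' : S'.ShortExact) [Module.Flat R S.X₂] [Module.Flat R S'.X₂] (φ : S ⟶ S') (n : ℕ) :
    TorNull φ.τ₃ (n + 1 + 1) ↔ TorNull φ.τ₁ (n + 1) := by
  rw [torNull_iff, torNull_iff]
  refine forall_congr' fun N => forall_congr' fun Q => ?_
  have hQ : ∀ i, Module.Flat R (Q.complex.X i) := fun i => by
    have := Q.projective i
    have : Module.Projective R (Q.complex.X i) :=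
      (IsProjective.iff_projective (Q.complex.X i)).2 this
    infer_instance
  have hK := tKsc_shortExact Q.complex hQ hS
  have hK' := tKsc_shortExact Q.complex hQ hS'
  have hrel : (ComplexShape.down ℕ).Rel (n + 1 + 1) (n + 1) := by simp
  have hnat := HomologicalComplex.HomologySequence.δ_naturality (tKscMap Q.complex φ) hK hK'
    (n + 1 + 1) (n + 1) hrel
  have hiso : IsIso (hK.δ (n + 1 + 1) (n + 1) hrel) :=
    hK.isIso_δ _ _ _ (isZero_homology_tK Q S.X₂ (n + 1)) (isZero_homology_tK Q S.X₂ n)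
  have hmono : Mono (hK'.δ (n + 1 + 1) (n + 1) hrel) :=
    hK'.mono_δ _ _ _ (isZero_homology_tK Q S'.X₂ (n + 1))
  change HomologicalComplex.homologyMap (tKscMap Q.complex φ).τ₃ _ = 0 ↔
    HomologicalComplex.homologyMap (tKscMap Q.complex φ).τ₁ _ = 0
  constructor
  · intro h
    rw [h, zero_comp] at hnat
    exact (cancel_epi (hK.δ (n + 1 + 1) (n + 1) hrel)).1 (by rw [hnat, comp_zero])
  · intro h
    rw [h, comp_zero] at hnat
    exact (cancel_mono (hK'.δ (n + 1 + 1) (n + 1) hrel)).1 (by rw [← hnat, zero_comp])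

end Groth.Agent.H9
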