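import Groth.Agent.H9.KerCokerColim
import Mathlib.Algebra.Homology.ShortComplex.HomologicalComplex
import Mathlib.Algebra.Homology.HomologicalComplexLimits
import Mathlib.Algebra.Homology.HomologicalComplexAbelian

/-! In an abelian category with exact colimits of shape `J` (e.g. `J` filtered and AB5), the cycles
and homology functors on homological complexes preserve colimits of shape `J`. -/

open CategoryTheory Limits HomologicalComplex

namespace Groth.Agent.H9

universe v u w w' t

variable {C : Type u} [Category.{v} C] [Abelian C] {ι : Type t} (c : ComplexShape ι)
  {J : Type w} [Category.{w'} J] [HasColimitsOfShape J C]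

/-- the differential as a natural transformation between evaluation functors. -/
def dNatTrans (i j : ι) : HomologicalComplex.eval C c i ⟶ HomologicalComplex.eval C c j where
  app K := K.d i j
  naturality _ _ φ := φ.comm i j

/-- the inclusion of cycles as a natural transformation. -/
noncomputable def iCyclesNatTrans (i : ι) :
    HomologicalComplex.cyclesFunctor C c i ⟶ HomologicalComplex.eval C c i where
  app K := K.iCycles i
  naturality _ _ φ := HomologicalComplex.cyclesMap_i φ i

/-- the map to cycles as a natural transformation. -/
noncomputable def toCyclesNatTrans (i j : ι) :
    HomologicalComplex.eval C c i ⟶ HomologicalComplex.cyclesFunctor C c j where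
  app K := K.toCycles i j
  naturality K L φ := by
    change φ.f i ≫ L.toCycles i j = K.toCycles i j ≫ HomologicalComplex.cyclesMap φ j
    rw [← cancel_mono (L.iCycles j), Category.assoc, Category.assoc,
      HomologicalComplex.toCycles_i, HomologicalComplex.cyclesMap_i,
      HomologicalComplex.toCycles_i_assoc, φ.comm]

theorem preservesColimitsOfShape_cyclesFunctor [HasExactColimitsOfShape J C] (i : ι) :
    PreservesColimitsOfShape J (HomologicalComplex.cyclesFunctor C c i) :=
  preservesColimitsOfShape_of_isLimit_kernelFork (iCyclesNatTrans c i) (dNatTrans c i (c.next i))
    (by ext K; exact K.iCycles_d i (c.next i))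
    (fun K => K.cyclesIsKernel i (c.next i) rfl)

theorem preservesColimitsOfShape_homologyFunctor [HasExactColimitsOfShape J C] (j : ι) :
    PreservesColimitsOfShape J (HomologicalComplex.homologyFunctor C c j) := by
  have := preservesColimitsOfShape_cyclesFunctor (C := C) c (J := J) j
  exact preservesColimitsOfShape_of_isColimit_cokernelCofork (toCyclesNatTrans c (c.prev j) j)
    (HomologicalComplex.natTransHomologyπ C c j)
    (by ext K; exact K.toCycles_comp_homologyπ (c.prev j) j)
    (fun K => K.homologyIsCokernel (c.prev j) j rfl)

end Groth.Agent.H9
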