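import Groth.Agent.H9.BLGlue

/-! Beauville–Laszlo glueing, abstract form: any module `M` with maps `p₁ : M → M'`,
`p₂ : M → M₁` presenting it as the fibre product over `R' ⊗ M₁`. -/

universe u

open CategoryTheory CategoryTheory.Limits TensorProduct

namespace Groth.Agent.H9.BLA

open Groth.Agent.H9.BL (lTensor_ker_exact pow_bijective map_units map_units_tensor)

section main
variable {R R' : Type u} [CommRing R] [CommRing R'] [Algebra R R'] {f : R}
variable {M' M₁ M : Type u} [AddCommGroup M'] [Module R' M'] [Module R M'] [IsScalarTower R R' M']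
  [AddCommGroup M₁] [Module R M₁] [AddCommGroup M] [Module R M]
variable (a : M' →ₗ[R'] R' ⊗[R] M₁) (p₁ : M →ₗ[R] M') (p₂ : M →ₗ[R] M₁)
variable (F1 : ∀ m : M, a (p₁ m) = (1 : R') ⊗ₜ[R] p₂ m)
variable (F2 : ∀ m n : M, p₁ m = p₁ n → p₂ m = p₂ n → m = n)
variable (F3 : ∀ (m' : M') (m₁ : M₁), a m' = (1 : R') ⊗ₜ[R] m₁ → ∃ m : M, p₁ m = m' ∧ p₂ m = m₁)
variable (hf : Function.Bijective fun x : M₁ => f • x)
variable (hsurj : ∀ z : R' ⊗[R] M₁, ∃ (n : ℕ) (m' : M'), f ^ n • z = a m')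
variable (hker : ∀ m' : M', a m' = 0 → ∃ n : ℕ, f ^ n • m' = 0)

include F3 hsurj in
lemma exists_pow_smul_mem_range (y : M₁) : ∃ (n : ℕ) (m : M), f ^ n • y = p₂ m := by
  obtain ⟨n, m', h⟩ := hsurj ((1 : R') ⊗ₜ[R] y)
  obtain ⟨m, _, hm⟩ := F3 m' (f ^ n • y) (by rw [← h, TensorProduct.tmul_smul])
  exact ⟨n, m, hm.symm⟩

include F1 F2 hker in
lemma exists_pow_smul_eq_zero (m : M) (h : p₂ m = 0) : ∃ n : ℕ, f ^ n • m = 0 := by
  have h1 : a (p₁ m) = 0 := by rw [F1, h, tmul_zero]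
  obtain ⟨n, hn⟩ := hker _ h1
  refine ⟨n, F2 _ _ ?_ ?_⟩
  · rw [map_smul, hn, map_zero]
  · rw [map_smul, h, smul_zero, map_zero]

include F1 F2 F3 hf hsurj hker in
lemma isLocalizedModule_p₂ : IsLocalizedModule (Submonoid.powers f) p₂ where
  map_units := map_units hf
  surj y := by
    obtain ⟨n, m, h⟩ := exists_pow_smul_mem_range a p₁ p₂ F3 hsurj y
    exact ⟨(m, ⟨f ^ n, ⟨n, rfl⟩⟩), h⟩
  exists_of_eq {x₁ x₂} h := by
    have h0 : p₂ (x₁ - x₂) = 0 := by rw [map_sub, h, sub_self]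
    obtain ⟨n, hn⟩ := exists_pow_smul_eq_zero a p₁ p₂ F1 F2 hker _ h0
    refine ⟨⟨f ^ n, ⟨n, rfl⟩⟩, ?_⟩
    change f ^ n • x₁ = f ^ n • x₂
    rw [smul_sub, sub_eq_zero] at hn
    exact hn

variable (h : EtGlue.IsGlueingPair R R' f)

/-- the comparison map `R' ⊗ M → M'`. -/
noncomputable def e' : R' ⊗[R] M →ₗ[R'] M' := p₁.liftBaseChange R'

include F1 in
lemma a_e' (x : R' ⊗[R] M) : a (e' p₁ x) = LinearMap.lTensor R' p₂ x := by
  induction x using TensorProduct.induction_on with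
  | zero => simp
  | tmul r m =>
    rw [e', LinearMap.liftBaseChange_tmul, map_smul, F1, LinearMap.lTensor_tmul,
      TensorProduct.smul_tmul', smul_eq_mul, mul_one]
  | add x y hx hy => rw [map_add, map_add, hx, hy, map_add]

include F1 in
lemma range_lTensor_le (z : R' ⊗[R] ↥(LinearMap.range p₂)) :
    ∃ m' : M', LinearMap.lTensor R' (LinearMap.range p₂).subtype z = a m' := by
  induction z using TensorProduct.induction_on with
  | zero => exact ⟨0, by simp⟩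
  | tmul r y =>
    obtain ⟨y, ⟨m, rfl⟩⟩ := y
    refine ⟨r • p₁ m, ?_⟩
    rw [map_smul, F1, LinearMap.lTensor_tmul, TensorProduct.smul_tmul', smul_eq_mul, mul_one]
    rfl
  | add x y hx hy =>
    obtain ⟨m, hm⟩ := hx
    obtain ⟨n, hn⟩ := hy
    exact ⟨m + n, by rw [map_add, map_add, hm, hn]⟩

include F3 hsurj in
lemma quotient_torsion (t : M₁ ⧸ LinearMap.range p₂) : ∃ n : ℕ, f ^ n • t = 0 := by
  obtain ⟨y, rfl⟩ := Submodule.mkQ_surjective _ t
  obtain ⟨n, m, hm⟩ := exists_pow_smul_mem_range a p₁ p₂ F3 hsurj y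
  refine ⟨n, ?_⟩
  rw [← map_smul, Submodule.mkQ_apply, Submodule.Quotient.mk_eq_zero, hm]
  exact ⟨m, rfl⟩

include F3 hsurj h in
lemma lTensor_range_injective :
    Function.Injective (LinearMap.lTensor R' (LinearMap.range p₂).subtype) :=
  lTensor_subtype_injective_of_isZero_tor_one R' (LinearMap.range p₂)
    (glue_isZero_tor_one_of_powerTorsion h _ (quotient_torsion a p₁ p₂ F3 hsurj))

include F1 F3 hsurj h in
lemma a_mem_range (m' : M') :
    ∃ w : R' ⊗[R] ↥(LinearMap.range p₂),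
      LinearMap.lTensor R' (LinearMap.range p₂).subtype w = a m' := by
  set Mb := LinearMap.range p₂ with hMb
  obtain ⟨q, hq⟩ := glue_tmul_surjective h.1 (M₁ ⧸ Mb) (quotient_torsion a p₁ p₂ F3 hsurj)
    (LinearMap.lTensor R' Mb.mkQ (a m'))
  obtain ⟨y, rfl⟩ := Submodule.mkQ_surjective _ q
  have hex := lTensor_exact R' (LinearMap.exact_subtype_mkQ Mb) (Submodule.mkQ_surjective Mb)
  have h0 : LinearMap.lTensor R' Mb.mkQ (a m' - (1 : R') ⊗ₜ[R] y) = 0 := by
    rw [map_sub, ← hq, LinearMap.lTensor_tmul, sub_self]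
  obtain ⟨w, hw⟩ := (hex _).1 h0
  obtain ⟨m'', hm''⟩ := range_lTensor_le a p₁ p₂ F1 w
  have hy : y ∈ Mb := by
    have h1 : a (m' - m'') = (1 : R') ⊗ₜ[R] y := by
      rw [map_sub, ← hm'', hw]
      abel
    obtain ⟨m, _, hm⟩ := F3 _ _ h1
    exact ⟨m, hm⟩
  refine ⟨w + (1 : R') ⊗ₜ[R] (⟨y, hy⟩ : ↥Mb), ?_⟩
  rw [map_add, hw, LinearMap.lTensor_tmul]
  change a m' - (1 : R') ⊗ₜ[R] y + (1 : R') ⊗ₜ[R] y = a m'
  abel

include F1 F3 hsurj h in
lemma e'_surjective : Function.Surjective (e' (R' := R') p₁) := by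
  intro m'
  obtain ⟨w, hw⟩ := a_mem_range a p₁ p₂ F1 F3 hsurj h m'
  obtain ⟨x, rfl⟩ := LinearMap.lTensor_surjective R'
    (LinearMap.surjective_rangeRestrict p₂) w
  have h1 : a (m' - e' p₁ x) = 0 := by
    rw [map_sub, a_e' a p₁ p₂ F1, ← hw, ← LinearMap.comp_apply, ← LinearMap.lTensor_comp,
      sub_eq_zero]
    rfl
  obtain ⟨d, hd1, _⟩ := F3 (m' - e' p₁ x) 0 (by rw [h1, tmul_zero])
  refine ⟨x + (1 : R') ⊗ₜ[R] d, ?_⟩
  rw [map_add]
  have : e' (R' := R') p₁ ((1 : R') ⊗ₜ[R] d) = p₁ d := by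
    rw [e', LinearMap.liftBaseChange_tmul, one_smul]
  rw [this, hd1]
  abel

include F1 F2 F3 hsurj hker h in
lemma e'_injective : Function.Injective (e' (R' := R') p₁) := by
  rw [injective_iff_map_eq_zero]
  intro x hx
  have h1 : LinearMap.lTensor R' p₂ x = 0 := by rw [← a_e' a p₁ p₂ F1, hx, map_zero]
  have h2 : LinearMap.lTensor R' (LinearMap.rangeRestrict p₂) x = 0 := by
    apply lTensor_range_injective a p₁ p₂ F3 hsurj h
    rw [map_zero, ← LinearMap.comp_apply, ← LinearMap.lTensor_comp]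
    exact h1
  have hex := lTensor_ker_exact R' (LinearMap.rangeRestrict p₂)
    (LinearMap.surjective_rangeRestrict p₂)
  obtain ⟨w, rfl⟩ := (hex _).1 h2
  obtain ⟨k, rfl⟩ := glue_tmul_surjective h.1 _ (fun k : ↥(LinearMap.ker
      (LinearMap.rangeRestrict p₂)) => by
    have hk : p₂ k.1 = 0 := congrArg Subtype.val (LinearMap.mem_ker.1 k.2)
    obtain ⟨n, hn⟩ := exists_pow_smul_eq_zero a p₁ p₂ F1 F2 hker k.1 hk
    exact ⟨n, Subtype.ext hn⟩) w
  have hk : p₂ k.1 = 0 := congrArg Subtype.val (LinearMap.mem_ker.1 k.2)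
  have hk1 : p₁ k.1 = 0 := by
    have := hx
    rw [LinearMap.lTensor_tmul, e', LinearMap.liftBaseChange_tmul, one_smul] at this
    exact this
  have : k.1 = 0 := F2 _ _ (by rw [hk1, map_zero]) (by rw [hk, map_zero])
  rw [LinearMap.lTensor_tmul]
  change (1 : R') ⊗ₜ[R] k.1 = 0
  rw [this, tmul_zero]

include F1 F2 F3 hf hsurj hker h in
theorem isGlueable : EtGlue.IsGlueable R R' f M := by
  have hloc := isLocalizedModule_p₂ a p₁ p₂ F1 F2 F3 hf hsurj hker
  let e₁ := IsLocalizedModule.iso (Submonoid.powers f) p₂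
  have he₁ : ∀ m : M,
      e₁ (LocalizedModule.mkLinearMap (Submonoid.powers f) M m) = p₂ m := by
    intro m
    rw [LocalizedModule.mkLinearMap_apply]
    exact IsLocalizedModule.iso_mk_one _ _ m
  have he' : ∀ m : M, e' (R' := R') p₁ ((1 : R') ⊗ₜ[R] m) = p₁ m := by
    intro m
    rw [e', LinearMap.liftBaseChange_tmul, one_smul]
  constructor
  · intro m n hmn
    simp only [Prod.mk.injEq] at hmn
    have h1 : p₁ m = p₁ n := by
      rw [← he', ← he', hmn.1]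
    have h2 : p₂ m = p₂ n := by
      rw [← he₁, ← he₁, hmn.2]
    exact F2 _ _ h1 h2
  · intro x y hxy
    let g : R' ⊗[R] M →ₗ[R] R' ⊗[R] M₁ :=
      (a.restrictScalars R) ∘ₗ ((e' (R' := R') p₁).restrictScalars R)
    let Φ := IsLocalizedModule.lift (Submonoid.powers f)
      (LocalizedModule.mkLinearMap (Submonoid.powers f) (R' ⊗[R] M)) g
      (map_units_tensor hf)
    have hΦ1 : Φ (EtGlue.locOfTensor R R' f _ x) = a (e' p₁ x) :=
      IsLocalizedModule.lift_apply _ _ _ _ x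
    have hΦ2 : Φ ∘ₗ EtGlue.tensorOfLoc R R' f M =
        (TensorProduct.mk R R' M₁ 1) ∘ₗ e₁.toLinearMap := by
      apply IsLocalizedModule.ext (Submonoid.powers f)
        (LocalizedModule.mkLinearMap (Submonoid.powers f) M) (map_units_tensor hf)
      ext m
      change Φ (EtGlue.tensorOfLoc R R' f M
        (LocalizedModule.mkLinearMap (Submonoid.powers f) M m)) =
        (1 : R') ⊗ₜ[R] e₁ (LocalizedModule.mkLinearMap (Submonoid.powers f) M m)
      rw [he₁, EtGlue.tensorOfLoc, IsLocalizedModule.map_apply]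
      change Φ (LocalizedModule.mkLinearMap (Submonoid.powers f) (R' ⊗[R] M)
        ((1 : R') ⊗ₜ[R] m)) = _
      rw [IsLocalizedModule.lift_apply]
      change a (e' p₁ ((1 : R') ⊗ₜ[R] m)) = _
      rw [he', F1]
    have key : a (e' p₁ x) = (1 : R') ⊗ₜ[R] (e₁ y) := by
      rw [← hΦ1, hxy]
      exact LinearMap.congr_fun hΦ2 y
    obtain ⟨m, hm1, hm2⟩ := F3 _ _ key
    refine ⟨m, ?_, ?_⟩
    · apply e'_injective a p₁ p₂ F1 F2 F3 hsurj hker h
      rw [he', hm1]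
    · apply e₁.injective
      rw [he₁, hm2]

end main

end Groth.Agent.H9.BLA
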