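import Groth.Agent.H9.GlueTor

/-! Beauville–Laszlo glueing of modules along a glueing pair: the fibre product module. -/

universe u

open CategoryTheory CategoryTheory.Limits TensorProduct

namespace Groth.Agent.H9.BL

lemma lTensor_ker_exact {R : Type u} [CommRing R] (X : Type u) {P U : Type u} [AddCommGroup X]
    [Module R X] [AddCommGroup P] [Module R P] [AddCommGroup U] [Module R U] (π : P →ₗ[R] U)
    (hπ : Function.Surjective π) :
    Function.Exact (LinearMap.lTensor X (LinearMap.ker π).subtype) (LinearMap.lTensor X π) :=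
  lTensor_exact X (LinearMap.exact_subtype_ker_map π) hπ

section
variable {R R' : Type u} [CommRing R] [CommRing R'] [Algebra R R'] {f : R}
variable {M' M₁ : Type u} [AddCommGroup M'] [Module R' M'] [Module R M'] [IsScalarTower R R' M']
  [AddCommGroup M₁] [Module R M₁]
variable (a : M' →ₗ[R'] R' ⊗[R] M₁)

/-- the glued module: pairs `(m', m₁)` with `a m' = 1 ⊗ m₁`. -/
def glued : Submodule R (M' × M₁) :=
  LinearMap.ker ((a.restrictScalars R) ∘ₗ LinearMap.fst R M' M₁ -
    (TensorProduct.mk R R' M₁ 1) ∘ₗ LinearMap.snd R M' M₁)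

lemma mem_glued {x : M' × M₁} : x ∈ glued a ↔ a x.1 = (1 : R') ⊗ₜ[R] x.2 := by
  simp [glued, sub_eq_zero]

/-- first projection -/
def p₁ : ↥(glued a) →ₗ[R] M' := LinearMap.fst R M' M₁ ∘ₗ (glued a).subtype
/-- second projection -/
def p₂ : ↥(glued a) →ₗ[R] M₁ := LinearMap.snd R M' M₁ ∘ₗ (glued a).subtype

lemma a_p₁ (m : ↥(glued a)) : a (p₁ a m) = (1 : R') ⊗ₜ[R] (p₂ a m) := (mem_glued a).1 m.2

lemma ext_glued {m n : ↥(glued a)} (h1 : p₁ a m = p₁ a n) (h2 : p₂ a m = p₂ a n) : m = n :=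
  Subtype.ext (Prod.ext h1 h2)

end

section main
variable {R R' : Type u} [CommRing R] [CommRing R'] [Algebra R R'] {f : R}
variable {M' M₁ : Type u} [AddCommGroup M'] [Module R' M'] [Module R M'] [IsScalarTower R R' M']
  [AddCommGroup M₁] [Module R M₁]
variable (a : M' →ₗ[R'] R' ⊗[R] M₁)
variable (hf : Function.Bijective fun x : M₁ => f • x)
variable (hsurj : ∀ z : R' ⊗[R] M₁, ∃ (n : ℕ) (m' : M'), f ^ n • z = a m')
variable (hker : ∀ m' : M', a m' = 0 → ∃ n : ℕ, f ^ n • m' = 0)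

include hf in
lemma pow_bijective (k : ℕ) : Function.Bijective fun x : M₁ => f ^ k • x := by
  induction k with
  | zero =>
    simp only [pow_zero, one_smul]
    exact Function.bijective_id
  | succ k ih =>
    have : (fun x : M₁ => f ^ (k + 1) • x) = (fun x : M₁ => f ^ k • x) ∘ (fun x : M₁ => f • x) := by
      funext x
      simp [pow_succ, mul_smul]
    rw [this]
    exact ih.comp hf

include hf in
lemma map_units (s : Submonoid.powers f) : IsUnit (algebraMap R (Module.End R M₁) s) := by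
  obtain ⟨s, ⟨k, rfl⟩⟩ := s
  rw [Module.End.isUnit_iff]
  exact pow_bijective hf k

include hf in
lemma map_units_tensor (s : Submonoid.powers f) :
    IsUnit (algebraMap R (Module.End R (R' ⊗[R] M₁)) s) := by
  obtain ⟨s, ⟨k, rfl⟩⟩ := s
  rw [Module.End.isUnit_iff]
  let g : M₁ ≃ₗ[R] M₁ := LinearEquiv.ofBijective (LinearMap.lsmul R M₁ (f ^ k)) (pow_bijective hf k)
  have : (algebraMap R (Module.End R (R' ⊗[R] M₁)) (f ^ k) : R' ⊗[R] M₁ → R' ⊗[R] M₁) =
      (g.lTensor R') := by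
    funext x
    induction x using TensorProduct.induction_on with
    | zero => simp
    | tmul r m =>
      rw [Module.algebraMap_end_apply]
      change f ^ k • (r ⊗ₜ[R] m) = r ⊗ₜ[R] (f ^ k • m)
      rw [TensorProduct.tmul_smul]
    | add x y hx hy =>
      rw [Module.algebraMap_end_apply] at hx hy ⊢
      rw [smul_add, hx, hy, map_add]
  change Function.Bijective (algebraMap R (Module.End R (R' ⊗[R] M₁)) (f ^ k) : R' ⊗[R] M₁ → R' ⊗[R] M₁)
  rw [this]
  exact (g.lTensor R').bijective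

include hsurj in
lemma exists_pow_smul_mem_range (y : M₁) : ∃ (n : ℕ) (m : ↥(glued a)), f ^ n • y = p₂ a m := by
  obtain ⟨n, m', h⟩ := hsurj ((1 : R') ⊗ₜ[R] y)
  refine ⟨n, ⟨(m', f ^ n • y), ?_⟩, rfl⟩
  rw [mem_glued]
  change a m' = (1 : R') ⊗ₜ[R] (f ^ n • y)
  rw [← h, TensorProduct.tmul_smul]

include hker in
lemma exists_pow_smul_eq_zero (m : ↥(glued a)) (h : p₂ a m = 0) : ∃ n : ℕ, f ^ n • m = 0 := by
  have h1 : a (p₁ a m) = 0 := by rw [a_p₁, h, tmul_zero]
  obtain ⟨n, hn⟩ := hker _ h1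
  refine ⟨n, ext_glued a ?_ ?_⟩
  · rw [map_smul, hn, map_zero]
  · rw [map_smul, h, smul_zero, map_zero]

include hf hsurj hker in
lemma isLocalizedModule_p₂ : IsLocalizedModule (Submonoid.powers f) (p₂ a) where
  map_units := map_units hf
  surj y := by
    obtain ⟨n, m, h⟩ := exists_pow_smul_mem_range a hsurj y
    exact ⟨(m, ⟨f ^ n, ⟨n, rfl⟩⟩), h⟩
  exists_of_eq {x₁ x₂} h := by
    have h0 : p₂ a (x₁ - x₂) = 0 := by rw [map_sub, h, sub_self]
    obtain ⟨n, hn⟩ := exists_pow_smul_eq_zero a hker _ h0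
    refine ⟨⟨f ^ n, ⟨n, rfl⟩⟩, ?_⟩
    change f ^ n • x₁ = f ^ n • x₂
    rw [smul_sub, sub_eq_zero] at hn
    exact hn

variable (h : EtGlue.IsGlueingPair R R' f)

/-- the comparison map `R' ⊗ M → M'`. -/
noncomputable def e' : R' ⊗[R] ↥(glued a) →ₗ[R'] M' := (p₁ a).liftBaseChange R'

lemma a_e' (x : R' ⊗[R] ↥(glued a)) : a (e' a x) = LinearMap.lTensor R' (p₂ a) x := by
  induction x using TensorProduct.induction_on with
  | zero => simp
  | tmul r m =>
    rw [e', LinearMap.liftBaseChange_tmul, map_smul, a_p₁, LinearMap.lTensor_tmul,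
      TensorProduct.smul_tmul', smul_eq_mul, mul_one]
  | add x y hx hy => rw [map_add, map_add, hx, hy, map_add]

lemma range_lTensor_le (z : R' ⊗[R] ↥(LinearMap.range (p₂ a))) :
    ∃ m' : M', LinearMap.lTensor R' (LinearMap.range (p₂ a)).subtype z = a m' := by
  induction z using TensorProduct.induction_on with
  | zero => exact ⟨0, by simp⟩
  | tmul r y =>
    obtain ⟨y, ⟨m, rfl⟩⟩ := y
    refine ⟨r • p₁ a m, ?_⟩
    rw [map_smul, a_p₁, LinearMap.lTensor_tmul, TensorProduct.smul_tmul', smul_eq_mul, mul_one]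
    rfl
  | add x y hx hy =>
    obtain ⟨m, hm⟩ := hx
    obtain ⟨n, hn⟩ := hy
    exact ⟨m + n, by rw [map_add, map_add, hm, hn]⟩

include hsurj in
lemma quotient_torsion (t : M₁ ⧸ LinearMap.range (p₂ a)) : ∃ n : ℕ, f ^ n • t = 0 := by
  obtain ⟨y, rfl⟩ := Submodule.mkQ_surjective _ t
  obtain ⟨n, m, hm⟩ := exists_pow_smul_mem_range a hsurj y
  refine ⟨n, ?_⟩
  rw [← map_smul, Submodule.mkQ_apply, Submodule.Quotient.mk_eq_zero, hm]
  exact ⟨m, rfl⟩

include hsurj h in
lemma lTensor_range_injective :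
    Function.Injective (LinearMap.lTensor R' (LinearMap.range (p₂ a)).subtype) :=
  lTensor_subtype_injective_of_isZero_tor_one R' (LinearMap.range (p₂ a))
    (glue_isZero_tor_one_of_powerTorsion h _ (quotient_torsion a hsurj))

include hsurj h in
lemma a_mem_range (m' : M') :
    ∃ w : R' ⊗[R] ↥(LinearMap.range (p₂ a)),
      LinearMap.lTensor R' (LinearMap.range (p₂ a)).subtype w = a m' := by
  set Mb := LinearMap.range (p₂ a) with hMb
  obtain ⟨q, hq⟩ := glue_tmul_surjective h.1 (M₁ ⧸ Mb) (quotient_torsion a hsurj)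
    (LinearMap.lTensor R' Mb.mkQ (a m'))
  obtain ⟨y, rfl⟩ := Submodule.mkQ_surjective _ q
  have hex := lTensor_exact R' (LinearMap.exact_subtype_mkQ Mb) (Submodule.mkQ_surjective Mb)
  have h0 : LinearMap.lTensor R' Mb.mkQ (a m' - (1 : R') ⊗ₜ[R] y) = 0 := by
    rw [map_sub, ← hq, LinearMap.lTensor_tmul, sub_self]
  obtain ⟨w, hw⟩ := (hex _).1 h0
  obtain ⟨m'', hm''⟩ := range_lTensor_le a w
  have hy : y ∈ Mb := by
    have h1 : a (m' - m'') = (1 : R') ⊗ₜ[R] y := by
      rw [map_sub, ← hm'', hw]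
      abel
    exact ⟨⟨(m' - m'', y), (mem_glued a).2 h1⟩, rfl⟩
  refine ⟨w + (1 : R') ⊗ₜ[R] (⟨y, hy⟩ : ↥Mb), ?_⟩
  rw [map_add, hw, LinearMap.lTensor_tmul]
  change a m' - (1 : R') ⊗ₜ[R] y + (1 : R') ⊗ₜ[R] y = a m'
  abel

include hsurj h in
lemma e'_surjective : Function.Surjective (e' a) := by
  intro m'
  obtain ⟨w, hw⟩ := a_mem_range a hsurj h m'
  obtain ⟨x, rfl⟩ := LinearMap.lTensor_surjective R'
    (LinearMap.surjective_rangeRestrict (p₂ a)) w
  have h1 : a (m' - e' a x) = 0 := by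
    rw [map_sub, a_e', ← hw, ← LinearMap.comp_apply, ← LinearMap.lTensor_comp, sub_eq_zero]
    rfl
  let d : ↥(glued a) := ⟨(m' - e' a x, 0), (mem_glued a).2 (by rw [h1, tmul_zero])⟩
  refine ⟨x + (1 : R') ⊗ₜ[R] d, ?_⟩
  rw [map_add, e', LinearMap.liftBaseChange_tmul, one_smul]
  change (p₁ a).liftBaseChange R' x + (m' - (p₁ a).liftBaseChange R' x) = m'
  abel

include hsurj hker h in
lemma e'_injective : Function.Injective (e' a) := by
  rw [injective_iff_map_eq_zero]
  intro x hx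
  have h1 : LinearMap.lTensor R' (p₂ a) x = 0 := by rw [← a_e', hx, map_zero]
  have h2 : LinearMap.lTensor R' (LinearMap.rangeRestrict (p₂ a)) x = 0 := by
    apply lTensor_range_injective a hsurj h
    rw [map_zero, ← LinearMap.comp_apply, ← LinearMap.lTensor_comp]
    exact h1
  have hex := lTensor_ker_exact R' (LinearMap.rangeRestrict (p₂ a))
    (LinearMap.surjective_rangeRestrict (p₂ a))
  obtain ⟨w, rfl⟩ := (hex _).1 h2
  obtain ⟨k, rfl⟩ := glue_tmul_surjective h.1 _ (fun k : ↥(LinearMap.ker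
      (LinearMap.rangeRestrict (p₂ a))) => by
    have hk : p₂ a k.1 = 0 := congrArg Subtype.val (LinearMap.mem_ker.1 k.2)
    obtain ⟨n, hn⟩ := exists_pow_smul_eq_zero a hker k.1 hk
    exact ⟨n, Subtype.ext hn⟩) w
  have hk : p₂ a k.1 = 0 := congrArg Subtype.val (LinearMap.mem_ker.1 k.2)
  have hk1 : p₁ a k.1 = 0 := by
    have := hx
    rw [LinearMap.lTensor_tmul, e', LinearMap.liftBaseChange_tmul, one_smul] at this
    exact this
  have : k.1 = 0 := ext_glued a (by rw [hk1, map_zero]) (by rw [hk, map_zero])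
  rw [LinearMap.lTensor_tmul]
  change (1 : R') ⊗ₜ[R] k.1 = 0
  rw [this, tmul_zero]

include hf hsurj hker h in
theorem isGlueable_glued : EtGlue.IsGlueable R R' f ↥(glued a) := by
  have hloc := isLocalizedModule_p₂ a hf hsurj hker
  let e₁ := IsLocalizedModule.iso (Submonoid.powers f) (p₂ a)
  have he₁ : ∀ m : ↥(glued a),
      e₁ (LocalizedModule.mkLinearMap (Submonoid.powers f) ↥(glued a) m) = p₂ a m := by
    intro m
    rw [LocalizedModule.mkLinearMap_apply]
    exact IsLocalizedModule.iso_mk_one _ _ m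
  have he' : ∀ m : ↥(glued a), e' a ((1 : R') ⊗ₜ[R] m) = p₁ a m := by
    intro m
    rw [e', LinearMap.liftBaseChange_tmul, one_smul]
  constructor
  · intro m n hmn
    simp only [Prod.mk.injEq] at hmn
    have h1 : p₁ a m = p₁ a n := by
      rw [← he', ← he', hmn.1]
    have h2 : p₂ a m = p₂ a n := by
      rw [← he₁, ← he₁, hmn.2]
    exact ext_glued a h1 h2
  · intro x y hxy
    let g : R' ⊗[R] ↥(glued a) →ₗ[R] R' ⊗[R] M₁ :=
      (a.restrictScalars R) ∘ₗ ((e' a).restrictScalars R)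
    let Φ := IsLocalizedModule.lift (Submonoid.powers f)
      (LocalizedModule.mkLinearMap (Submonoid.powers f) (R' ⊗[R] ↥(glued a))) g
      (map_units_tensor hf)
    have hΦ1 : Φ (EtGlue.locOfTensor R R' f _ x) = a (e' a x) :=
      IsLocalizedModule.lift_apply _ _ _ _ x
    have hΦ2 : Φ ∘ₗ EtGlue.tensorOfLoc R R' f ↥(glued a) =
        (TensorProduct.mk R R' M₁ 1) ∘ₗ e₁.toLinearMap := by
      apply IsLocalizedModule.ext (Submonoid.powers f)
        (LocalizedModule.mkLinearMap (Submonoid.powers f) ↥(glued a)) (map_units_tensor hf)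
      ext m
      change Φ (EtGlue.tensorOfLoc R R' f ↥(glued a)
        (LocalizedModule.mkLinearMap (Submonoid.powers f) ↥(glued a) m)) =
        (1 : R') ⊗ₜ[R] e₁ (LocalizedModule.mkLinearMap (Submonoid.powers f) ↥(glued a) m)
      rw [he₁, EtGlue.tensorOfLoc, IsLocalizedModule.map_apply]
      change Φ (LocalizedModule.mkLinearMap (Submonoid.powers f) (R' ⊗[R] ↥(glued a))
        ((1 : R') ⊗ₜ[R] m)) = _
      rw [IsLocalizedModule.lift_apply]
      change a (e' a ((1 : R') ⊗ₜ[R] m)) = _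
      rw [he', a_p₁]
    have key : a (e' a x) = (1 : R') ⊗ₜ[R] (e₁ y) := by
      rw [← hΦ1, hxy]
      exact LinearMap.congr_fun hΦ2 y
    let m : ↥(glued a) := ⟨(e' a x, e₁ y), (mem_glued a).2 key⟩
    refine ⟨m, ?_, ?_⟩
    · apply e'_injective a hsurj hker h
      rw [he']
      rfl
    · apply e₁.injective
      rw [he₁]
      rfl

end main

end Groth.Agent.H9.BL
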