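import Mathlib.Algebra.Homology.DerivedCategory.Ext.ExactSequences
import Mathlib.Algebra.Homology.DerivedCategory.Ext.ExtClass
import Mathlib.Algebra.Homology.DerivedCategory.Ext.EnoughProjectives

set_option autoImplicit false
set_option linter.unusedSectionVars false
universe w v u

namespace Groth.Agent.H9

open CategoryTheory Abelian

variable {C : Type u} [Category.{v} C] [Abelian C] [HasExt.{w} C]

/-- `a : X ⟶ X'` kills all classes in `Ext^n(X', -)` by precomposition. -/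
def ExtNull {X X' : C} (a : X ⟶ X') (n : ℕ) : Prop :=
  ∀ (N : C) (x : Ext.{w} X' N n), (Ext.mk₀ a).comp x (zero_add n) = 0

lemma extNull_of_factors_projective {X F X' : C} [Projective F] (g : X ⟶ F) (h : F ⟶ X')
    (n : ℕ) : ExtNull.{w} (g ≫ h) (n + 1) := by
  intro N x
  rw [← Ext.mk₀_comp_mk₀, Ext.comp_assoc (a₁₂ := 0) (a₂₃ := n + 1) _ _ _ (by lia) (by lia)
    (by lia)]
  rw [Ext.eq_zero_of_projective ((Ext.mk₀ h).comp x (zero_add (n + 1))), Ext.comp_zero]

/-- if `a` kills `Ext^1(X', -)`, then it lifts along any epimorphism onto `X'` which is part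
of a short exact sequence. -/
lemma exists_lift_of_extNull_one {X X' : C} (a : X ⟶ X') (h : ExtNull.{w} a 1)
    {S' : ShortComplex C} (hS' : S'.ShortExact) (e : S'.X₃ = X') :
    ∃ g : X ⟶ S'.X₂, g ≫ S'.g = a ≫ eqToHom e.symm := by
  subst e
  have h1 : (Ext.mk₀ a).comp hS'.extClass (zero_add 1) = 0 := h _ _
  obtain ⟨x₂, hx₂⟩ := Ext.covariant_sequence_exact₃ X hS' (Ext.mk₀ a) (zero_add 1) h1
  obtain ⟨g, rfl⟩ := (Ext.mk₀_bijective _ _).2 x₂
  rw [Ext.mk₀_comp_mk₀] at hx₂
  refine ⟨g, ?_⟩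
  rw [eqToHom_refl, Category.comp_id]
  exact (Ext.mk₀_bijective _ _).1 hx₂

/-- dimension shifting for `ExtNull`. -/
lemma extNull_succ_iff {S S' : ShortComplex C} (hS : S.ShortExact) (hS' : S'.ShortExact)
    [Projective S.X₂] [Projective S'.X₂] (φ : S ⟶ S') (n : ℕ) :
    ExtNull.{w} φ.τ₃ (n + 1 + 1) ↔ ExtNull.{w} φ.τ₁ (n + 1) := by
  have hnat := ShortComplex.ShortExact.extClass_naturality hS hS' φ
  constructor
  · intro h N x'
    have h1 : hS.extClass.comp ((Ext.mk₀ φ.τ₁).comp x' (zero_add (n + 1)))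
        (add_comm 1 (n + 1)) = 0 := by
      rw [← Ext.comp_assoc (a₁₂ := 1) _ _ _ (by lia) (by lia) (by lia), hnat,
        Ext.comp_assoc (a₂₃ := n + 1 + 1) _ _ _ (by lia) (by lia) (by lia)]
      exact h N _
    obtain ⟨x₂, hx₂⟩ := Ext.contravariant_sequence_exact₁ hS N _ (add_comm 1 (n + 1)) h1
    rw [← hx₂, Ext.eq_zero_of_projective x₂, Ext.comp_zero]
  · intro h N x
    obtain ⟨x', rfl⟩ := Ext.contravariant_sequence_exact₃ hS' N x
      (Ext.eq_zero_of_projective _) (add_comm 1 (n + 1))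
    rw [← Ext.comp_assoc (a₁₂ := 1) _ _ _ (by lia) (by lia) (by lia), ← hnat,
      Ext.comp_assoc (a₂₃ := n + 1) _ _ _ (by lia) (by lia) (by lia), h N x', Ext.comp_zero]


section Derived

open DerivedCategory

universe w'

variable [HasDerivedCategory.{w'} C]

lemma mk₀_comp_hom {X X' N : C} (a : X ⟶ X') {n : ℕ} (x : Ext.{w} X' N n) :
    ((Ext.mk₀ a).comp x (zero_add n)).hom = (singleFunctor C 0).map a ≫ x.hom := by
  rw [Ext.comp_hom, Ext.mk₀_hom, ShiftedHom.mk₀_comp]

/-- `ExtNull` in terms of morphisms of the derived category. -/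
lemma extNull_iff_hom {X X' : C} (a : X ⟶ X') (n : ℕ) :
    ExtNull.{w} a n ↔ ∀ (N : C)
      (ψ : (singleFunctor C 0).obj X' ⟶ ((singleFunctor C 0).obj N)⟦(n : ℤ)⟧),
      (singleFunctor C 0).map a ≫ ψ = 0 := by
  constructor
  · intro h N ψ
    obtain ⟨x, rfl⟩ := (Ext.homEquiv (X := X') (Y := N) (n := n)).surjective ψ
    have := congrArg Ext.hom (h N x)
    rw [mk₀_comp_hom, Ext.zero_hom] at this
    exact this
  · intro h N x
    apply Ext.ext
    rw [mk₀_comp_hom, Ext.zero_hom]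
    exact h N x.hom

end Derived

end Groth.Agent.H9
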