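import Mathlib.LinearAlgebra.Contraction
import Mathlib.LinearAlgebra.TensorProduct.Finiteness
import Mathlib.LinearAlgebra.TensorProduct.Pi
import Mathlib.LinearAlgebra.TensorProduct.RightExactness
import Mathlib.LinearAlgebra.Isomorphisms
import Mathlib.LinearAlgebra.Finsupp.LinearCombination
import Mathlib.LinearAlgebra.Pi

set_option autoImplicit false
universe u

namespace Groth.Agent.H9

open TensorProduct

variable {R : Type u} [CommRing R] {M M' : Type u} [AddCommGroup M] [Module R M]
  [AddCommGroup M'] [Module R M']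

/-- tensoring the sequence `L → N → N ⧸ L` on the left stays exact. -/
theorem lTensor_exact_subtype_mkQ (N Q : Type u) [AddCommGroup N] [Module R N]
    [AddCommGroup Q] [Module R Q] (L : Submodule R N) :
    Function.Exact (LinearMap.lTensor Q L.subtype) (LinearMap.lTensor Q L.mkQ) :=
  lTensor_exact Q (LinearMap.exact_subtype_mkQ L) (Submodule.mkQ_surjective L)

/-- contraction `M' ⊗ (F →ₗ R) → (F →ₗ M')`. -/
noncomputable def contr (F : Type u) [AddCommGroup F] [Module R F] :
    M' ⊗[R] Module.Dual R F →ₗ[R] (F →ₗ[R] M') :=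
  (dualTensorHom R F M') ∘ₗ (TensorProduct.comm R M' (Module.Dual R F)).toLinearMap

@[simp] lemma contr_tmul (F : Type u) [AddCommGroup F] [Module R F] (m' : M')
    (l : Module.Dual R F) (x : F) : contr F (m' ⊗ₜ[R] l) x = l x • m' := by
  simp [contr]

lemma factors_through_free_of_mem_range {n : ℕ} (π : (Fin n → R) →ₗ[R] M)
    (hπ : Function.Surjective π)
    (L : Submodule R (Module.Dual R (Fin n → R)))
    (hL : ∀ l ∈ L, LinearMap.ker π ≤ LinearMap.ker l)
    (α : M →ₗ[R] M')
    (hu : (∑ i, α (π (Pi.single i 1)) ⊗ₜ[R]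
        (LinearMap.proj i : Module.Dual R (Fin n → R))) ∈
      LinearMap.range (LinearMap.lTensor M' L.subtype)) :
    ∃ (ι : Type u) (g : M →ₗ[R] (ι →₀ R)) (h : (ι →₀ R) →ₗ[R] M'), α = h ∘ₗ g := by
  classical
  obtain ⟨v, hv⟩ := hu
  obtain ⟨s, rfl⟩ := TensorProduct.exists_finset v
  -- functionals on M
  let μ : (M' × L) → (M →ₗ[R] R) := fun k =>
    ((LinearMap.ker π).liftQ (k.2 : Module.Dual R (Fin n → R)) (hL k.2 k.2.2)) ∘ₗ
      (π.quotKerEquivOfSurjective hπ).symm.toLinearMap
  have hμ : ∀ k x, μ k (π x) = (k.2 : Module.Dual R (Fin n → R)) x := by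
    intro k x
    simp only [μ, LinearMap.comp_apply, LinearEquiv.coe_coe]
    have : (π.quotKerEquivOfSurjective hπ).symm (π x) = Submodule.Quotient.mk x := by
      rw [LinearEquiv.symm_apply_eq]
      rfl
    rw [this]
    rfl
  -- the key identity
  have key : ∀ x : Fin n → R, α (π x) = ∑ k ∈ s, μ k (π x) • k.1 := by
    intro x
    have h1 := congrArg (fun w => contr (Fin n → R) w x) hv
    simp only [map_sum, LinearMap.lTensor_tmul, LinearMap.sum_apply, contr_tmul,
      Submodule.subtype_apply, LinearMap.proj_apply] at h1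
    have h2 : ∑ i, x i • α (π (Pi.single i 1)) = α (π x) := by
      simp_rw [← map_smul, ← map_sum]
      congr 2
      ext j
      simp [Finset.sum_apply, Pi.single_apply]
    rw [← h2, ← h1]
    exact Finset.sum_congr rfl fun k _ => by rw [hμ]
  refine ⟨s, (Finsupp.linearEquivFunOnFinite R R s).symm.toLinearMap ∘ₗ
      LinearMap.pi (fun k : s => μ k.1),
    Finsupp.linearCombination R (fun k : s => (k : M' × L).1), ?_⟩
  ext y
  obtain ⟨x, rfl⟩ := hπ y
  rw [key x]
  simp only [LinearMap.comp_apply, LinearEquiv.coe_coe]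
  rw [Finsupp.linearCombination_apply, Finsupp.sum_fintype _ _ (by simp)]
  simp only [Finsupp.linearEquivFunOnFinite_symm_apply, LinearMap.pi_apply]
  rw [← Finset.sum_coe_sort s (fun k => μ k (π x) • k.1)]

end Groth.Agent.H9
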