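import Mathlib.Algebra.Homology.ShortComplex.ModuleCat
import Mathlib.Algebra.Homology.ShortComplex.HomologicalComplex
import Mathlib.CategoryTheory.Monoidal.Tor
import Mathlib.Algebra.Category.ModuleCat.Monoidal.Basic
import Mathlib.Algebra.Category.ModuleCat.Projective
import Mathlib.Algebra.Category.ModuleCat.Abelian
import Mathlib.CategoryTheory.Abelian.Projective.Resolution
import Mathlib.Algebra.Homology.Augment
import Mathlib.Algebra.Homology.SingleHomology
import Mathlib.Algebra.Homology.QuasiIso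
import Mathlib.LinearAlgebra.TensorProduct.RightExactness

set_option autoImplicit false
universe u

namespace Groth.Agent.H9

open CategoryTheory CategoryTheory.Limits

variable {R : Type u} [CommRing R]

/-- If a morphism of short complexes of modules induces zero on homology, the image of any cycle
is a boundary. -/
lemma exists_preimage_of_homologyMap_eq_zero {S₁ S₂ : ShortComplex (ModuleCat.{u} R)}
    (ψ : S₁ ⟶ S₂) (h : ShortComplex.homologyMap ψ = 0) (z : S₁.X₂) (hz : S₁.g z = 0) :
    ∃ w : S₂.X₁, S₂.f w = ψ.τ₂ z := by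
  let h₁ := S₁.moduleCatLeftHomologyData
  let h₂ := S₂.moduleCatLeftHomologyData
  let γ : ShortComplex.LeftHomologyMapData ψ h₁ h₂ := default
  have hφH : γ.φH = 0 := by
    have := γ.homologyMap_eq
    rw [h] at this
    have h3 : h₁.homologyIso.inv ≫ (0 : S₁.homology ⟶ S₂.homology) ≫ h₂.homologyIso.hom = γ.φH := by
      rw [this]; simp
    rw [← h3]; simp
  let k : h₁.K := ⟨z, hz⟩
  have e1 : h₂.π (γ.φK k) = 0 := by
    have := congrArg (fun f => f k) (ModuleCat.hom_ext_iff.1 γ.commπ)
    simp only [ModuleCat.hom_comp, LinearMap.comp_apply] at this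
    rw [← this, hφH]
    rfl
  have e2 : γ.φK k ∈ LinearMap.range S₂.moduleCatToCycles := by
    have : (LinearMap.range S₂.moduleCatToCycles).mkQ (γ.φK k) = 0 := e1
    rwa [Submodule.mkQ_apply, Submodule.Quotient.mk_eq_zero] at this
  obtain ⟨w, hw⟩ := e2
  refine ⟨w, ?_⟩
  have e3 : h₂.i (γ.φK k) = ψ.τ₂ z := by
    have := congrArg (fun f => f k) (ModuleCat.hom_ext_iff.1 γ.commi)
    simp only [ModuleCat.hom_comp, LinearMap.comp_apply] at this
    rw [this]
    rfl
  rw [← e3, ← hw]
  rfl


section Splice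

variable {C : Type*} [Category C] [Abelian C]

-- The following construction is copied from `Groth.Agent.H72.ProjDim` (helper72), so that this
-- file does not depend on another seat's module.
/-- Splicing data: a complex of projectives resolving `S.X₁`, spliced with a short exact sequence
whose middle term is projective, gives a projective resolution of `S.X₃`. -/
noncomputable def spliceAux {S : ShortComplex C} (hS : S.ShortExact) [Projective S.X₂]
    (Q : ChainComplex C ℕ) (hproj : ∀ n, Projective (Q.X n)) (p : Q.X 0 ⟶ S.X₁)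
    (hp : Q.d 1 0 ≫ p = 0) (hex0 : (ShortComplex.mk _ _ hp).Exact) (hepi : Epi p)
    (hex : ∀ n, (ShortComplex.mk _ _ (Q.d_comp_d (n + 2) (n + 1) n)).Exact) :
    ProjectiveResolution S.X₃ where
  complex := Q.augment (p ≫ S.f) (by rw [reassoc_of% hp, zero_comp])
  projective n := by
    cases n with
    | zero => exact inferInstanceAs (Projective S.X₂)
    | succ n => exact hproj n
  hasHomology := inferInstance
  π := (ChainComplex.toSingle₀Equiv _ _).symm ⟨S.g, by
    change (p ≫ S.f) ≫ S.g = 0
    rw [Category.assoc, S.zero, comp_zero]⟩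
  quasiIso := ⟨fun n => by
    have := hS.mono_f
    have := hS.epi_g
    cases n with
    | zero =>
      rw [ChainComplex.quasiIsoAt₀_iff, ShortComplex.quasiIso_iff_of_zeros']
      · dsimp
        let α : ShortComplex.mk (p ≫ S.f) S.g (by rw [Category.assoc, S.zero, comp_zero]) ⟶ S :=
          { τ₁ := p
            τ₂ := 𝟙 _
            τ₃ := 𝟙 _ }
        have hα1 : Epi α.τ₁ := hepi
        have hα2 : IsIso α.τ₂ := inferInstanceAs (IsIso (𝟙 _))
        have hα3 : Mono α.τ₃ := inferInstanceAs (Mono (𝟙 _))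
        refine (ShortComplex.exact_and_epi_g_iff_of_iso ?_).2
          ⟨(ShortComplex.exact_iff_of_epi_of_isIso_of_mono α).2 hS.exact, hS.epi_g⟩
        exact ShortComplex.isoMk (Iso.refl _) (Iso.refl _) (Iso.refl _)
          (by dsimp; erw [Category.id_comp, Category.comp_id]; rfl)
          (by dsimp; erw [Category.id_comp, Category.comp_id]
              exact (ChainComplex.toSingle₀Equiv_symm_apply_f_zero
                (C := Q.augment (p ≫ S.f) (by rw [reassoc_of% hp, zero_comp])) S.g _).symm)
      all_goals rfl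
    | succ n =>
      rw [quasiIsoAt_iff_exactAt']
      · rw [HomologicalComplex.exactAt_iff' _ (n + 1 + 1) (n + 1) n (by simp) (by simp)]
        cases n with
        | zero =>
          let α : ShortComplex.mk (Q.d 1 0) p hp ⟶
              ShortComplex.mk (Q.d 1 0) (p ≫ S.f) (by rw [reassoc_of% hp, zero_comp]) :=
            { τ₁ := 𝟙 _
              τ₂ := 𝟙 _
              τ₃ := S.f }
          have hα1 : Epi α.τ₁ := inferInstanceAs (Epi (𝟙 _))
          have hα2 : IsIso α.τ₂ := inferInstanceAs (IsIso (𝟙 _))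
          have hα3 : Mono α.τ₃ := hS.mono_f
          exact (ShortComplex.exact_iff_of_epi_of_isIso_of_mono α).1 hex0
        | succ n => exact hex n
      · apply ChainComplex.exactAt_succ_single_obj⟩


/-- The augmentation map used in `spliceResolution`. -/
noncomputable def splicedP {X₁ : C} (Q : ProjectiveResolution X₁) : Q.complex.X 0 ⟶ X₁ :=
  Q.π.f 0 ≫ (HomologicalComplex.singleObjXSelf (ComplexShape.down ℕ) 0 X₁).hom

lemma d_comp_splicedP {X₁ : C} (Q : ProjectiveResolution X₁) :
    Q.complex.d 1 0 ≫ splicedP Q = 0 := by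
  unfold splicedP
  rw [Q.complex_d_comp_π_f_zero_assoc, zero_comp]

lemma splicedP_exact {X₁ : C} (Q : ProjectiveResolution X₁) :
    (ShortComplex.mk _ _ (d_comp_splicedP Q)).Exact := by
  let e := HomologicalComplex.singleObjXSelf (ComplexShape.down ℕ) 0 X₁
  let α : ShortComplex.mk _ _ Q.complex_d_comp_π_f_zero ⟶ ShortComplex.mk _ _ (d_comp_splicedP Q) :=
    { τ₁ := 𝟙 _
      τ₂ := 𝟙 _
      τ₃ := e.hom
      comm₂₃ := by simp [splicedP, e] }
  have hα1 : Epi α.τ₁ := inferInstanceAs (Epi (𝟙 _))
  have hα2 : IsIso α.τ₂ := inferInstanceAs (IsIso (𝟙 _))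
  have hα3 : Mono α.τ₃ := inferInstanceAs (Mono e.hom)
  exact (ShortComplex.exact_iff_of_epi_of_isIso_of_mono α).1 Q.exact₀

instance splicedP_epi {X₁ : C} (Q : ProjectiveResolution X₁) : Epi (splicedP Q) := by
  unfold splicedP
  exact epi_comp _ _

/-- Splice a projective resolution of `S.X₁` with a short exact sequence `S` whose middle term is
projective, to get a projective resolution of `S.X₃`. -/
noncomputable def spliceResolution {S : ShortComplex C} (hS : S.ShortExact) [Projective S.X₂]
    (Q : ProjectiveResolution S.X₁) : ProjectiveResolution S.X₃ :=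
  spliceAux hS Q.complex Q.projective (splicedP Q) (d_comp_splicedP Q) (splicedP_exact Q)
    (splicedP_epi Q) Q.exact_succ

lemma spliceResolution_d_one_zero {S : ShortComplex C} (hS : S.ShortExact) [Projective S.X₂]
    (Q : ProjectiveResolution S.X₁) :
    (spliceResolution hS Q).complex.d 1 0 = splicedP Q ≫ S.f := rfl

end Splice


section TorOne

open MonoidalCategory

/-- If `0 → N' → P₀ → N → 0` is short exact with `P₀` projective and the map
`Tor₁(X, N) → Tor₁(X', N)` induced by `a : X ⟶ X'` vanishes, then `a ⊗ N'` kills the kernel of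
`X ⊗ N' → X ⊗ P₀`. -/
theorem whiskerRight_apply_eq_zero_of_tor_map_eq_zero
    {S : ShortComplex (ModuleCat.{u} R)} (hS : S.ShortExact) [Projective S.X₂]
    {X X' : ModuleCat.{u} R} (a : X ⟶ X')
    (h : ((Tor (ModuleCat.{u} R) 1).map a).app S.X₃ = 0)
    (t : (X ⊗ S.X₁ : ModuleCat.{u} R)) (ht : (X ◁ S.f) t = 0) :
    (a ▷ S.X₁) t = 0 := by
  let Q := ProjectiveResolution.of S.X₁
  let P := spliceResolution hS Q
  let F := (tensoringLeft (ModuleCat.{u} R)).obj X
  let F' := (tensoringLeft (ModuleCat.{u} R)).obj X'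
  let τ : F ⟶ F' := (tensoringLeft (ModuleCat.{u} R)).map a
  let K := (F.mapHomologicalComplex (ComplexShape.down ℕ)).obj P.complex
  let K' := (F'.mapHomologicalComplex (ComplexShape.down ℕ)).obj P.complex
  let ψ : K ⟶ K' := (NatTrans.mapHomologicalComplex τ (ComplexShape.down ℕ)).app P.complex
  have h2 : HomologicalComplex.homologyMap ψ 1 = 0 := by
    have h1 := P.leftDerived_app_eq τ 1
    have h0 : (NatTrans.leftDerived τ 1).app S.X₃ = 0 := h
    rw [h1] at h0
    have := congr((P.isoLeftDerivedObj F 1).inv ≫ $h0 ≫ (P.isoLeftDerivedObj F' 1).hom)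
    simp at this
    exact this
  let p := splicedP Q
  have hpsurj : Function.Surjective (X ◁ p) := by
    have : Function.Surjective p.hom := (ModuleCat.epi_iff_surjective p).1 inferInstance
    exact LinearMap.lTensor_surjective X this
  obtain ⟨z, hz⟩ := hpsurj t
  have hd10 : K.d 1 0 = X ◁ (p ≫ S.f) := rfl
  have hcycle : ∀ j, j = 0 → K.d 1 j z = 0 := by
    rintro j rfl
    rw [hd10, MonoidalCategory.whiskerLeft_comp]
    change (X ◁ S.f) ((X ◁ p) z) = 0
    rw [hz, ht]
  have hzc : (K.sc 1).g z = 0 := hcycle _ (ChainComplex.next_nat_succ 0)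
  obtain ⟨w, hw⟩ := exists_preimage_of_homologyMap_eq_zero
    ((HomologicalComplex.shortComplexFunctor _ _ 1).map ψ) h2 z hzc
  -- hw : K'.d (prev 1) 1 w = (a ▷ Q₀) z
  have hw' : (X' ◁ P.complex.d ((ComplexShape.down ℕ).prev 1) 1) w = (a ▷ Q.complex.X 0) z := hw
  have hdp : P.complex.d ((ComplexShape.down ℕ).prev 1) 1 ≫ p = 0 := by
    have h3 := P.complex.d_comp_d ((ComplexShape.down ℕ).prev 1) 1 0
    rw [spliceResolution_d_one_zero] at h3
    have := hS.mono_f
    exact zero_of_comp_mono S.f (by rw [Category.assoc]; exact h3)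
  have hex : (X ◁ p) ≫ (a ▷ S.X₁) = (a ▷ Q.complex.X 0) ≫ (X' ◁ p) :=
    whisker_exchange a p
  calc (a ▷ S.X₁) t = (a ▷ S.X₁) ((X ◁ p) z) := by rw [hz]
    _ = ((X ◁ p) ≫ (a ▷ S.X₁)) z := rfl
    _ = ((a ▷ Q.complex.X 0) ≫ (X' ◁ p)) z := by rw [hex]
    _ = (X' ◁ p) ((a ▷ Q.complex.X 0) z) := rfl
    _ = (X' ◁ p) ((X' ◁ P.complex.d ((ComplexShape.down ℕ).prev 1) 1) w) := by rw [hw']
    _ = ((X' ◁ P.complex.d ((ComplexShape.down ℕ).prev 1) 1) ≫ (X' ◁ p)) w := rfl
    _ = 0 := by
      rw [← MonoidalCategory.whiskerLeft_comp, hdp, MonoidalPreadditive.whiskerLeft_zero]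
      rfl

end TorOne

end Groth.Agent.H9
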