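import Groth.Agent.H9.ExtNull
import Groth.Agent.H9.TorNull
import Groth.Agent.S1740
import Mathlib.Algebra.Category.ModuleCat.Ext.HasExt
import Mathlib.Algebra.Module.FinitePresentation

set_option autoImplicit false
set_option linter.unusedSectionVars false
universe u

namespace Groth.Agent.H9

open CategoryTheory CategoryTheory.Limits Abelian

variable {R : Type u} [CommRing R]

/-- a morphism of short complexes lifting `a` on the third terms, when the source has
projective middle term. -/
lemma exists_shortComplex_hom_lift {S S' : ShortComplex (ModuleCat.{u} R)}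
    (hS' : S'.ShortExact) [Projective S.X₂] (a : S.X₃ ⟶ S'.X₃) :
    ∃ φ : S ⟶ S', φ.τ₃ = a := by
  have := hS'.epi_g
  have := hS'.mono_f
  let τ₂ : S.X₂ ⟶ S'.X₂ := Projective.factorThru (S.g ≫ a) S'.g
  have h₂ : τ₂ ≫ S'.g = S.g ≫ a := Projective.factorThru_comp _ _
  have hk : (S.f ≫ τ₂) ≫ S'.g = 0 := by
    rw [Category.assoc, h₂, ← Category.assoc, S.zero, zero_comp]
  let τ₁ : S.X₁ ⟶ S'.X₁ := hS'.exact.lift (S.f ≫ τ₂) hk
  have h₁ : τ₁ ≫ S'.f = S.f ≫ τ₂ := hS'.exact.lift_f _ _
  exact ⟨⟨τ₁, τ₂, a, h₁, h₂⟩, rfl⟩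

theorem extNull_iff_torNull [IsNoetherianRing R] (e : ℕ) :
    ∀ (M M' : Type u) [AddCommGroup M] [Module R M] [Module.Finite R M] [AddCommGroup M']
      [Module R M'] (α : M →ₗ[R] M'),
      ExtNull.{u} (ModuleCat.ofHom α) (e + 1) ↔ TorNull (ModuleCat.ofHom α) (e + 1) := by
  induction e with
  | zero =>
    intro M M' _ _ _ _ _ α
    -- a free cover of `M'`
    let f' : (M' →₀ R) →ₗ[R] M' := Finsupp.linearCombination R id
    have hf' : Function.Surjective f' := fun m => ⟨Finsupp.single m 1, by simp [f']⟩
    let S' := f'.shortComplexKer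
    have hS' : S'.ShortExact := LinearMap.shortExact_shortComplexKer hf'
    constructor
    · intro h
      obtain ⟨g, hg⟩ := exists_lift_of_extNull_one (ModuleCat.ofHom α) h hS' rfl
      rw [eqToHom_refl, Category.comp_id] at hg
      rw [← hg]
      have : Module.Flat R S'.X₂ := inferInstanceAs (Module.Flat R (M' →₀ R))
      exact torNull_of_factors_flat g S'.g 0
    · intro h
      have : Module.FinitePresentation R M := Module.finitePresentation_of_finite R M
      obtain ⟨ι, g, k, hk⟩ := Groth.Agent.S1740.result R M M' α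
        (fun N _ _ => h (ModuleCat.of R N))
      rw [hk, ModuleCat.ofHom_comp]
      exact extNull_of_factors_projective (ModuleCat.ofHom g) (ModuleCat.ofHom k) 0
  | succ e ih =>
    intro M M' _ _ _ _ _ α
    obtain ⟨n, f, hf⟩ := Module.Finite.exists_fin' R M
    let S := f.shortComplexKer
    have hS : S.ShortExact := LinearMap.shortExact_shortComplexKer hf
    let f' : (M' →₀ R) →ₗ[R] M' := Finsupp.linearCombination R id
    have hf' : Function.Surjective f' := fun m => ⟨Finsupp.single m 1, by simp [f']⟩
    let S' := f'.shortComplexKer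
    have hS' : S'.ShortExact := LinearMap.shortExact_shortComplexKer hf'
    have hP : Projective S.X₂ := inferInstanceAs (Projective (ModuleCat.of R (Fin n → R)))
    have hP' : Projective S'.X₂ := inferInstanceAs (Projective (ModuleCat.of R (M' →₀ R)))
    have hF : Module.Flat R S.X₂ := inferInstanceAs (Module.Flat R (Fin n → R))
    have hF' : Module.Flat R S'.X₂ := inferInstanceAs (Module.Flat R (M' →₀ R))
    obtain ⟨φ, hφ⟩ := exists_shortComplex_hom_lift (S := S) hS' (ModuleCat.ofHom α)
    have hfin : Module.Finite R (LinearMap.ker f) := inferInstance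
    have h1 := extNull_succ_iff.{u} hS hS' φ e
    have h2 := torNull_succ_iff hS hS' φ e
    have h3 := ih (LinearMap.ker f) (LinearMap.ker f') φ.τ₁.hom
    rw [ModuleCat.ofHom_hom] at h3
    rw [hφ] at h1 h2
    exact h1.trans (h3.trans h2.symm)

end Groth.Agent.H9
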