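import Mathlib.Algebra.Module.FinitePresentation
import Mathlib.RingTheory.TensorProduct.IsBaseChangePi
import Mathlib.RingTheory.Localization.Away.Basic
import Mathlib.Algebra.Module.Projective
import Mathlib.RingTheory.Noetherian.Basic

/-!
# Factoring a power of `f` through a free module

If `M` is a finitely presented module whose localisation `M_f` is projective over `A_f`, then
some power `f^k • id_M` factors through a finite free module.
-/

set_option autoImplicit false
universe u

namespace Groth.Agent.H9.FactorFree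

variable {A : Type u} [CommRing A] {M : Type u} [AddCommGroup M] [Module A M]

theorem exists_factor_pow [Module.FinitePresentation A M] (f : A)
    (hM : Module.Projective (Localization.Away f) (LocalizedModule (Submonoid.powers f) M)) :
    ∃ (r k : ℕ) (α : M →ₗ[A] (Fin r → A)) (β : (Fin r → A) →ₗ[A] M),
      β ∘ₗ α = (f ^ k) • (LinearMap.id : M →ₗ[A] M) := by
  classical
  let S := Submonoid.powers f
  let Af := Localization.Away f
  let Mf := LocalizedModule S M
  let ℓ : M →ₗ[A] Mf := LocalizedModule.mkLinearMap S M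
  obtain ⟨r, b, hb⟩ := Module.Finite.exists_fin' Af Mf
  obtain ⟨a, ha⟩ := Module.projective_lifting_property b LinearMap.id hb
  let lr : (Fin r → A) →ₗ[A] (Fin r → Af) :=
    LinearMap.pi fun i => (Algebra.linearMap A Af) ∘ₗ LinearMap.proj i
  have hlr : IsLocalizedModule S lr := inferInstance
  -- lift `a ∘ ℓ` and `b ∘ lr`
  obtain ⟨α, s₁, hα⟩ := Module.FinitePresentation.exists_lift_of_isLocalizedModule S lr
    ((a.restrictScalars A) ∘ₗ ℓ)
  obtain ⟨β, s₂, hβ⟩ := Module.FinitePresentation.exists_lift_of_isLocalizedModule S ℓ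
    ((b.restrictScalars A) ∘ₗ lr)
  have hcomp : ℓ ∘ₗ (β ∘ₗ α) = ℓ ∘ₗ (((s₂ * s₁ : S) : A) • (LinearMap.id : M →ₗ[A] M)) := by
    apply LinearMap.ext
    intro x
    have h1 : lr (α x) = s₁ • a (ℓ x) := LinearMap.congr_fun hα x
    have h2 : ℓ (β (α x)) = s₂ • b (lr (α x)) := LinearMap.congr_fun hβ (α x)
    have h3 : b (a (ℓ x)) = ℓ x := LinearMap.congr_fun ha (ℓ x)
    change ℓ (β (α x)) = ℓ (((s₂ * s₁ : S) : A) • x)
    rw [h2, h1]
    have h4 : b (s₁ • a (ℓ x)) = s₁ • b (a (ℓ x)) := by
      rw [Submonoid.smul_def, LinearMap.map_smul_of_tower, ← Submonoid.smul_def]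
    rw [h4, h3, map_smul, Submonoid.coe_mul, mul_smul]
    rfl
  obtain ⟨s₃, hs₃⟩ := Module.Finite.exists_smul_of_comp_eq_of_isLocalizedModule S ℓ _ _ hcomp
  obtain ⟨k, hk⟩ : ∃ k : ℕ, f ^ k = ((s₃ * (s₂ * s₁) : S) : A) :=
    (Submonoid.mem_powers_iff _ _).mp (s₃ * (s₂ * s₁)).2
  refine ⟨r, k, α, ((s₃ : A) • β), ?_⟩
  rw [hk]
  apply LinearMap.ext
  intro x
  have := LinearMap.congr_fun hs₃ x
  simp only [LinearMap.smul_apply, LinearMap.comp_apply, LinearMap.id_apply, Submonoid.smul_def,
    Submonoid.coe_mul] at this ⊢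
  rw [this, mul_smul, mul_smul, mul_smul]

end Groth.Agent.H9.FactorFree
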