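import Groth.Agent.H2.InjModMax

/-! Exactness and flatness of the cokernel for a complex of flat modules which is exact
modulo the maximal ideal (algebraic form, one step). -/

universe u

open IsLocalRing

namespace Groth.Agent.H9

variable {R S : Type u} [CommRing R] [CommRing S] [IsLocalRing R] [IsLocalRing S]
  [IsNoetherianRing S] [Algebra R S] [IsLocalHom (algebraMap R S)]

theorem flat_complex_step {N F G : Type u} [AddCommGroup N] [Module S N]
    [AddCommGroup F] [Module S F] [Module R F] [IsScalarTower R S F]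
    [AddCommGroup G] [Module S G] [Module R G] [IsScalarTower R S G]
    [Module.Finite S F] [Module.Flat R G]
    (d' : N →ₗ[S] F) (d : F →ₗ[S] G) (hdd : ∀ z, d (d' z) = 0)
    (hex : ∀ x : F, d x ∈ (maximalIdeal R).map (algebraMap R S) • (⊤ : Submodule S G) →
       ∃ z : N, x - d' z ∈ (maximalIdeal R).map (algebraMap R S) • (⊤ : Submodule S F)) :
    (∀ x : F, d x = 0 → ∃ z, d' z = x) ∧ Module.Flat R (G ⧸ LinearMap.range d) := by
  have hle : LinearMap.range d' ≤ LinearMap.ker d := by
    rintro _ ⟨z, rfl⟩
    exact hdd z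
  let u : (F ⧸ LinearMap.range d') →ₗ[S] G := (LinearMap.range d').liftQ d hle
  let uR : (F ⧸ LinearMap.range d') →ₗ[R] G := u.restrictScalars R
  have hu : ∀ x : F, uR (Submodule.Quotient.mk x) = d x := fun x => rfl
  have h : Function.Injective (uR.lTensor (R ⧸ maximalIdeal R)) := by
    rw [Groth.Agent.H2.lTensor_quotient_injective_iff]
    intro xb hxb
    obtain ⟨x, rfl⟩ := Submodule.Quotient.mk_surjective _ xb
    rw [hu, ← Groth.Agent.H2.mem_map_smul_top_iff (S := S)] at hxb
    obtain ⟨z, hz⟩ := hex x hxb
    rw [← Groth.Agent.H2.mem_map_smul_top_iff (S := S)]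
    have h1 : (Submodule.Quotient.mk x : F ⧸ LinearMap.range d') =
        (LinearMap.range d').mkQ (x - d' z) := by
      rw [map_sub, Submodule.mkQ_apply, Submodule.mkQ_apply]
      have : (Submodule.Quotient.mk (d' z) : F ⧸ LinearMap.range d') = 0 :=
        (Submodule.Quotient.mk_eq_zero _).2 ⟨z, rfl⟩
      rw [this, sub_zero]
    rw [h1]
    have h2 : Submodule.map (LinearMap.range d').mkQ
        ((maximalIdeal R).map (algebraMap R S) • (⊤ : Submodule S F)) ≤
        (maximalIdeal R).map (algebraMap R S) • (⊤ : Submodule S (F ⧸ LinearMap.range d')) := by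
      rw [Submodule.map_smul'']
      exact Submodule.smul_mono le_rfl le_top
    exact h2 (Submodule.mem_map_of_mem hz)
  obtain ⟨hinj, hfl⟩ := Groth.Agent.H2.injective_and_flat_of_injective_residue S uR h
  refine ⟨?_, ?_⟩
  · intro x hx
    have : (Submodule.Quotient.mk x : F ⧸ LinearMap.range d') = 0 := by
      apply hinj
      rw [hu, hx, map_zero]
    exact (Submodule.Quotient.mk_eq_zero _).1 this
  · have hr : LinearMap.range uR = (LinearMap.range d).restrictScalars R := by
      ext y
      constructor
      · rintro ⟨xb, rfl⟩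
        obtain ⟨x, rfl⟩ := Submodule.Quotient.mk_surjective _ xb
        exact ⟨x, rfl⟩
      · rintro ⟨x, rfl⟩
        exact ⟨Submodule.Quotient.mk x, rfl⟩
    let e1 : (G ⧸ LinearMap.range uR) ≃ₗ[R] (G ⧸ (LinearMap.range d).restrictScalars R) :=
      Submodule.quotEquivOfEq _ _ hr
    let e2 : (G ⧸ (LinearMap.range d).restrictScalars R) ≃ₗ[R] (G ⧸ LinearMap.range d) :=
      Submodule.Quotient.restrictScalarsEquiv R (LinearMap.range d)
    exact Module.Flat.of_linearEquiv (e1.trans e2).symm

end Groth.Agent.H9
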