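import Groth.Agent.H9.TorInjective
import Groth.Agent.H9.TorFlip
import Groth.Agent.H9.TorNull
import Groth.Agent.H9.TorOneKernel

/-! Consequences of `Tor_1` vanishing: flat quotients, kernels of surjections of flat modules. -/

universe u

open CategoryTheory CategoryTheory.Limits TensorProduct

namespace Groth.Agent.H9

variable {R : Type u} [CommRing R]

/-- `Tor_1(X, M) = 0` for flat `M` (second variable). -/
theorem isZero_tor_one_of_flat_right (X M : Type u) [AddCommGroup X] [Module R X]
    [AddCommGroup M] [Module R M] [Module.Flat R M] :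
    IsZero (((Tor (ModuleCat.{u} R) 1).obj (ModuleCat.of R X)).obj (ModuleCat.of R M)) := by
  haveI : Module.Flat R (ModuleCat.of R M) := inferInstanceAs (Module.Flat R M)
  exact isZero_tor_flip (isZero_tor_succ_of_flat_left (ModuleCat.of R M) (ModuleCat.of R X) 0)

/-- transport of vanishing of `Tor_1` along an isomorphism in the second variable. -/
theorem isZero_tor_one_of_linearEquiv_right (X : Type u) [AddCommGroup X] [Module R X]
    {M M' : Type u} [AddCommGroup M] [Module R M] [AddCommGroup M'] [Module R M'] (e : M ≃ₗ[R] M')
    (h : IsZero (((Tor (ModuleCat.{u} R) 1).obj (ModuleCat.of R X)).obj (ModuleCat.of R M))) :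
    IsZero (((Tor (ModuleCat.{u} R) 1).obj (ModuleCat.of R X)).obj (ModuleCat.of R M')) :=
  IsZero.of_iso h (((Tor (ModuleCat.{u} R) 1).obj (ModuleCat.of R X)).mapIso e.toModuleIso).symm

/-- transport of vanishing of `Tor_1` along an isomorphism in the first variable. -/
theorem isZero_tor_one_of_linearEquiv_left {X X' : Type u} [AddCommGroup X] [Module R X]
    [AddCommGroup X'] [Module R X'] (e : X ≃ₗ[R] X')
    (M : Type u) [AddCommGroup M] [Module R M]
    (h : IsZero (((Tor (ModuleCat.{u} R) 1).obj (ModuleCat.of R X)).obj (ModuleCat.of R M))) :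
    IsZero (((Tor (ModuleCat.{u} R) 1).obj (ModuleCat.of R X')).obj (ModuleCat.of R M)) :=
  IsZero.of_iso h ((((Tor (ModuleCat.{u} R) 1).mapIso e.toModuleIso).app (ModuleCat.of R M))).symm

/-- For an exact sequence `0 → A → B → C → 0` with `Tor_1(X, C) = 0`, `X ⊗ A → X ⊗ B` is
injective. -/
theorem lTensor_injective_of_exact_of_isZero_tor_one (X : Type u) [AddCommGroup X] [Module R X]
    {A B C : Type u} [AddCommGroup A] [Module R A] [AddCommGroup B] [Module R B]
    [AddCommGroup C] [Module R C]
    (ι : A →ₗ[R] B) (π : B →ₗ[R] C) (hι : Function.Injective ι) (hex : Function.Exact ι π)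
    (hπ : Function.Surjective π)
    (h : IsZero (((Tor (ModuleCat.{u} R) 1).obj (ModuleCat.of R X)).obj (ModuleCat.of R C))) :
    Function.Injective (LinearMap.lTensor X ι) := by
  have hk : LinearMap.ker π = LinearMap.range ι := (LinearMap.exact_iff.1 hex)
  let e : (B ⧸ LinearMap.range ι) ≃ₗ[R] C :=
    (Submodule.quotEquivOfEq _ _ hk.symm).trans (LinearMap.quotKerEquivOfSurjective π hπ)
  exact lTensor_injective_of_isZero_tor_one X ι hι (isZero_tor_one_of_linearEquiv_right X e.symm h)

/-- The kernel of a surjection of flat modules is flat. -/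
theorem flat_ker_of_flat {P M : Type u} [AddCommGroup P] [Module R P] [AddCommGroup M] [Module R M]
    (π : P →ₗ[R] M) (hπ : Function.Surjective π) [Module.Flat R P] [Module.Flat R M] :
    Module.Flat R ↥(LinearMap.ker π) := by
  rw [Module.Flat.iff_rTensor_preserves_injective_linearMap]
  intro A B _ _ _ _ g hg
  have h1 : Function.Injective (LinearMap.rTensor P g) :=
    Module.Flat.rTensor_preserves_injective_linearMap g hg
  have h2 : Function.Injective (LinearMap.lTensor A (LinearMap.ker π).subtype) :=
    lTensor_injective_of_exact_of_isZero_tor_one A (LinearMap.ker π).subtype π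
      (LinearMap.ker π).injective_subtype (LinearMap.exact_subtype_ker_map π) hπ
      (isZero_tor_one_of_flat_right A M)
  have h3 : (LinearMap.lTensor B (LinearMap.ker π).subtype) ∘ₗ (LinearMap.rTensor _ g) =
      (LinearMap.rTensor P g) ∘ₗ (LinearMap.lTensor A (LinearMap.ker π).subtype) := by
    ext a k
    rfl
  have h4 : Function.Injective ((LinearMap.lTensor B (LinearMap.ker π).subtype) ∘ₗ
      (LinearMap.rTensor _ g)) := by
    rw [h3]
    exact h1.comp h2
  exact Function.Injective.of_comp h4

end Groth.Agent.H9

namespace Groth.Agent.H9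

variable {R : Type u} [CommRing R]

/-- every module is a quotient of a projective module, with the projective an abstract type
(so that its structure is an `AddCommGroup` binder). -/
theorem exists_projective_surjection (M : Type u) [AddCommGroup M] [Module R M] :
    ∃ (P : Type u) (_ : AddCommGroup P) (_ : Module R P) (_ : Module.Projective R P)
      (π : P →ₗ[R] M), Function.Surjective π :=
  ⟨M →₀ R, inferInstance, inferInstance, inferInstance, Finsupp.linearCombination R id,
    fun x => ⟨Finsupp.single x 1, by simp⟩⟩

/-- `Tor_1(X, M) = 0` iff `X ⊗ ker π → X ⊗ P` is injective, for a surjection `π : P → M` from a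
projective module. -/
theorem isZero_tor_one_iff_of_surjective (X : Type u) [AddCommGroup X] [Module R X]
    {P M : Type u} [AddCommGroup P] [Module R P] [AddCommGroup M] [Module R M]
    [Module.Projective R P] (π : P →ₗ[R] M) (hπ : Function.Surjective π) :
    IsZero (((Tor (ModuleCat.{u} R) 1).obj (ModuleCat.of R X)).obj (ModuleCat.of R M)) ↔
      Function.Injective (LinearMap.lTensor X (LinearMap.ker π).subtype) := by
  have hS := LinearMap.shortExact_shortComplexKer hπ
  have hP : CategoryTheory.Projective π.shortComplexKer.X₂ :=
    (IsProjective.iff_projective (ModuleCat.of R P)).1 (inferInstanceAs (Module.Projective R P))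
  exact isZero_tor_one_iff_injective hS (ModuleCat.of R X)

end Groth.Agent.H9
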