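import Groth.Agent.H9.TorTrunc
import Groth.Agent.H9.WeakDimWE

/-! Flatness from flatness on the principal opens `D(f_i)`, flatness of `M/IM` over `A/I` and the
vanishing of `Tor_j^A(M, A/I)` for `1 ≤ j ≤ r + 1`, where `I = (f_1, …, f_r)`. -/

set_option autoImplicit false
set_option linter.unusedSectionVars false
universe u

namespace Groth.Agent.H9.FlatLocalTor

open CategoryTheory CategoryTheory.Limits MonoidalCategory TensorProduct

variable {A : Type u} [CommRing A]

/-- a piece of the long exact sequence in the first variable. -/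
theorem isZero_tor_X₁ {S : ShortComplex (ModuleCat.{u} A)} (hS : S.ShortExact)
    (M : ModuleCat.{u} A) (n : ℕ)
    (h₃ : IsZero (((Tor (ModuleCat.{u} A) (n + 1)).obj S.X₃).obj M))
    (h₂ : IsZero (((Tor (ModuleCat.{u} A) n).obj S.X₂).obj M)) :
    IsZero (((Tor (ModuleCat.{u} A) n).obj S.X₁).obj M) := by
  let Q := ProjectiveResolution.of M
  have hK := tKsc_shortExact Q.complex (flat_of_projectiveResolution Q) hS
  have hrel : (ComplexShape.down ℕ).Rel (n + 1) n := by simp
  have hex := hK.homology_exact₁ (n + 1) n hrel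
  have z₃ : IsZero ((tK Q.complex S.X₃).homology (n + 1)) :=
    IsZero.of_iso h₃ (torIsoHomology S.X₃ Q (n + 1)).symm
  have z₂ : IsZero ((tK Q.complex S.X₂).homology n) :=
    IsZero.of_iso h₂ (torIsoHomology S.X₂ Q n).symm
  have z₁ := hex.isZero_of_both_zeros (z₃.eq_of_src _ _) (z₂.eq_of_tgt _ _)
  exact IsZero.of_iso z₁ (torIsoHomology _ Q n)

/-- `Tor_{n+1}^A(N_f, M) = 0` when `M_f` is flat over `A_f`. -/
theorem isZero_tor_localizedModule (f : A) (N : Type u) [AddCommGroup N] [Module A N]
    (M : Type u) [AddCommGroup M] [Module A M]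
    (h : Module.Flat (Localization.Away f) (LocalizedModule (Submonoid.powers f) M)) (n : ℕ) :
    IsZero (((Tor (ModuleCat.{u} A) (n + 1)).obj
      (ModuleCat.of A (LocalizedModule (Submonoid.powers f) N))).obj (ModuleCat.of A M)) := by
  have hflatA : Module.Flat A (Localization.Away f) :=
    IsLocalization.flat _ (Submonoid.powers f)
  refine TorTrunc.isZero_tor_of_flat_bc (A' := Localization.Away f)
    (LocalizedModule (Submonoid.powers f) N) n (ModuleCat.of A M) ?_ ?_
  · intro q _
    exact isZero_tor_succ_of_flat_left (ModuleCat.of A (Localization.Away f)) (ModuleCat.of A M) q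
  · exact Module.Flat.of_linearEquiv (LocalizedModule.isBaseChange (Submonoid.powers f) M).equiv

/-- the short complex `N₁ → N → N/N₁`. -/
noncomputable def subSC {N : Type u} [AddCommGroup N] [Module A N] (N₁ : Submodule A N) :
    ShortComplex (ModuleCat.{u} A) :=
  ShortComplex.mk (ModuleCat.ofHom N₁.subtype) (ModuleCat.ofHom N₁.mkQ) (by
    ext x
    change N₁.mkQ (N₁.subtype x) = 0
    rw [Submodule.mkQ_apply, Submodule.Quotient.mk_eq_zero]
    exact x.2)

lemma subSC_shortExact {N : Type u} [AddCommGroup N] [Module A N] (N₁ : Submodule A N) :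
    (subSC N₁).ShortExact :=
  ModuleCat.shortComplex_shortExact (subSC N₁) (LinearMap.exact_subtype_mkQ N₁)
    (Submodule.subtype_injective N₁) (Submodule.mkQ_surjective N₁)

/-- modules killed by a power of `I`. -/
theorem isZero_tor_of_pow_torsion (I : Ideal A) (j : ℕ) (M : ModuleCat.{u} A)
    (hA : ∀ (T : Type u) [AddCommGroup T] [Module A T], Module.IsTorsionBySet A T I →
      IsZero (((Tor (ModuleCat.{u} A) j).obj (ModuleCat.of A T)).obj M)) :
    ∀ (n : ℕ) (N : Type u) [AddCommGroup N] [Module A N],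
      (∀ a ∈ I ^ n, ∀ x : N, a • x = 0) →
      IsZero (((Tor (ModuleCat.{u} A) j).obj (ModuleCat.of A N)).obj M) := by
  intro n
  induction n with
  | zero =>
    intro N _ _ h
    have hsub : Subsingleton N := ⟨fun x y => by
      have hx := h 1 (by simp) x
      have hy := h 1 (by simp) y
      rw [one_smul] at hx hy
      rw [hx, hy]⟩
    exact hA N (fun x a => Subsingleton.elim _ _)
  | succ n ih =>
    intro N _ _ h
    have h₁ : ∀ a ∈ I ^ n, ∀ y : (I • ⊤ : Submodule A N), a • y = 0 := by
      rintro a ha ⟨y, hy⟩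
      apply Subtype.ext
      change a • y = 0
      refine Submodule.smul_induction_on hy ?_ ?_
      · intro b hb x _
        rw [← mul_smul]
        exact h (a * b) (by rw [pow_succ]; exact Ideal.mul_mem_mul ha hb) x
      · intro x y hx hy
        rw [smul_add, hx, hy, add_zero]
    exact isZero_tor_of_shortExact (subSC_shortExact (I • ⊤ : Submodule A N)) M j
      (ih _ h₁) (hA _ (Module.isTorsionBySet_quotient_ideal_smul N I))

section Chain

variable {N : Type u} [AddCommGroup N] [Module A N] (F : ℕ → Submodule A N)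

lemma exists_rTensor_eq (hmono : Monotone F) (hF : ∀ x, ∃ n, x ∈ F n)
    {K : Type u} [AddCommGroup K] [Module A K] (z : N ⊗[A] K) :
    ∃ n, ∃ z' : (F n) ⊗[A] K, LinearMap.rTensor K (F n).subtype z' = z := by
  induction z using TensorProduct.induction_on with
  | zero => exact ⟨0, 0, map_zero _⟩
  | tmul x k =>
    obtain ⟨n, hn⟩ := hF x
    exact ⟨n, (⟨x, hn⟩ : F n) ⊗ₜ k, rfl⟩
  | add a b ha hb =>
    obtain ⟨n₁, z₁, h₁⟩ := ha
    obtain ⟨n₂, z₂, h₂⟩ := hb
    refine ⟨max n₁ n₂,
      LinearMap.rTensor K (Submodule.inclusion (hmono (le_max_left n₁ n₂))) z₁ +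
        LinearMap.rTensor K (Submodule.inclusion (hmono (le_max_right n₁ n₂))) z₂, ?_⟩
    rw [map_add, ← LinearMap.comp_apply, ← LinearMap.comp_apply, ← LinearMap.rTensor_comp,
      ← LinearMap.rTensor_comp, Submodule.subtype_comp_inclusion,
      Submodule.subtype_comp_inclusion, h₁, h₂]

lemma lTensor_injective_of_chain (hmono : Monotone F) (hF : ∀ x, ∃ n, x ∈ F n)
    {K P : Type u} [AddCommGroup K] [Module A K] [AddCommGroup P] [Module A P]
    [Module.Flat A P] (ι : K →ₗ[A] P)
    (h : ∀ n, Function.Injective (LinearMap.lTensor (F n) ι)) :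
    Function.Injective (LinearMap.lTensor N ι) := by
  rw [injective_iff_map_eq_zero]
  intro z hz
  obtain ⟨n, z', rfl⟩ := exists_rTensor_eq F hmono hF z
  have hcomm : LinearMap.rTensor P (F n).subtype (LinearMap.lTensor (F n) ι z') =
      LinearMap.lTensor N ι (LinearMap.rTensor K (F n).subtype z') := by
    rw [← LinearMap.comp_apply, ← LinearMap.comp_apply, LinearMap.rTensor_comp_lTensor,
      LinearMap.lTensor_comp_rTensor]
  have hinj : Function.Injective (LinearMap.rTensor P (F n).subtype) :=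
    Module.Flat.rTensor_preserves_injective_linearMap _ (Submodule.subtype_injective _)
  have h0 : LinearMap.lTensor (F n) ι z' = 0 := hinj (by rw [hcomm, hz, map_zero])
  have hz' : z' = 0 := h n (by rw [h0, map_zero])
  rw [hz', map_zero]

/-- `Tor` in the first variable and increasing unions. -/
theorem isZero_tor_of_chain (hmono : Monotone F) (hF : ∀ x, ∃ n, x ∈ F n) :
    ∀ (j : ℕ) (M : ModuleCat.{u} A),
      (∀ n, IsZero (((Tor (ModuleCat.{u} A) (j + 1)).obj (ModuleCat.of A (F n))).obj M)) →
      IsZero (((Tor (ModuleCat.{u} A) (j + 1)).obj (ModuleCat.of A N)).obj M) := by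
  intro j
  induction j with
  | zero =>
    intro M h
    have hS : (Groth.Agent.H18.projPres M).ShortExact := Groth.Agent.H18.projPres_shortExact M
    have hflat : Module.Flat A (Groth.Agent.H18.projPres M).X₂ :=
      Groth.Agent.H18.flat_of_projective _
    change IsZero (((Tor (ModuleCat.{u} A) 1).obj (ModuleCat.of A N)).obj
      (Groth.Agent.H18.projPres M).X₃)
    rw [isZero_tor_one_iff_injective hS (ModuleCat.of A N)]
    apply lTensor_injective_of_chain F hmono hF
    intro n
    exact (isZero_tor_one_iff_injective hS (ModuleCat.of A (F n))).1 (h n)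
  | succ j ih =>
    intro M h
    have hS : (Groth.Agent.H18.projPres M).ShortExact := Groth.Agent.H18.projPres_shortExact M
    obtain ⟨e⟩ := Groth.Agent.H18.leftDerived_shift
      ((tensoringLeft (ModuleCat.{u} A)).obj (ModuleCat.of A N)) hS j
    refine IsZero.of_iso (ih (Groth.Agent.H18.projPres M).X₁ ?_) e
    intro n
    obtain ⟨e'⟩ := Groth.Agent.H18.leftDerived_shift
      ((tensoringLeft (ModuleCat.{u} A)).obj (ModuleCat.of A (F n))) hS j
    exact IsZero.of_iso (h n) e'.symm

end Chain

lemma exists_pow_smul_eq_zero {r : ℕ} (f : Fin r → A) {N : Type u} [AddCommGroup N] [Module A N]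
    (x : N) (h : ∀ i, ∃ n : ℕ, f i ^ n • x = 0) :
    ∃ m : ℕ, ∀ a ∈ (Ideal.span (Set.range f)) ^ m, a • x = 0 := by
  let J : Ideal A := LinearMap.ker (LinearMap.toSpanSingleton A N x)
  have hJ : ∀ a, a ∈ J ↔ a • x = 0 := fun a => by
    simp [J, LinearMap.mem_ker, LinearMap.toSpanSingleton_apply]
  have hle : Ideal.span (Set.range f) ≤ J.radical := by
    rw [Ideal.span_le]
    rintro _ ⟨i, rfl⟩
    obtain ⟨n, hn⟩ := h i
    exact ⟨n, (hJ _).2 hn⟩
  obtain ⟨m, hm⟩ := Ideal.exists_pow_le_of_le_radical_of_fg hle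
    (Submodule.fg_span (Set.finite_range f))
  exact ⟨m, fun a ha => (hJ a).1 (hm ha)⟩

/-- `I`-power torsion modules. -/
theorem isZero_tor_of_powerTorsion (I : Ideal A) (j : ℕ) (M : ModuleCat.{u} A)
    (hA : ∀ (T : Type u) [AddCommGroup T] [Module A T], Module.IsTorsionBySet A T I →
      IsZero (((Tor (ModuleCat.{u} A) (j + 1)).obj (ModuleCat.of A T)).obj M))
    (N : Type u) [AddCommGroup N] [Module A N]
    (hN : ∀ x : N, ∃ m : ℕ, ∀ a ∈ I ^ m, a • x = 0) :
    IsZero (((Tor (ModuleCat.{u} A) (j + 1)).obj (ModuleCat.of A N)).obj M) := by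
  let F : ℕ → Submodule A N := fun m =>
    { carrier := {x | ∀ a ∈ I ^ m, a • x = 0}
      add_mem' := fun {x y} hx hy a ha => by rw [smul_add, hx a ha, hy a ha, add_zero]
      zero_mem' := fun a _ => smul_zero a
      smul_mem' := fun c x hx a ha => by rw [smul_comm, hx a ha, smul_zero] }
  have hmono : Monotone F := monotone_nat_of_le_succ
    (fun m x hx a ha => hx a (Ideal.pow_le_pow_right (Nat.le_succ m) ha))
  refine isZero_tor_of_chain F hmono hN j M (fun m => ?_)
  exact isZero_tor_of_pow_torsion I (j + 1) M hA m (F m) (fun a ha y => Subtype.ext (y.2 a ha))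

/-- `f i`-power torsion for the indices `i < s`. -/
def PT {r : ℕ} (f : Fin r → A) (s : ℕ) (N : Type u) [AddCommGroup N] [Module A N] : Prop :=
  ∀ i : Fin r, (i : ℕ) < s → ∀ x : N, ∃ n : ℕ, f i ^ n • x = 0

/-- the descending step: from `f_0, …, f_s`-power torsion modules to `f_0, …, f_{s-1}`-power
torsion modules. -/
theorem step {r : ℕ} (f : Fin r → A) (M : Type u) [AddCommGroup M] [Module A M] (s : Fin r)
    (hloc : Module.Flat (Localization.Away (f s)) (LocalizedModule (Submonoid.powers (f s)) M))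
    (IH : ∀ (N : Type u) [AddCommGroup N] [Module A N], PT f ((s : ℕ) + 1) N →
      ∀ j : ℕ, 1 ≤ j → j ≤ (s : ℕ) + 2 →
        IsZero (((Tor (ModuleCat.{u} A) j).obj (ModuleCat.of A N)).obj (ModuleCat.of A M)))
    (N : Type u) [AddCommGroup N] [Module A N] (hN : PT f (s : ℕ) N) (j : ℕ) (hj1 : 1 ≤ j)
    (hj2 : j ≤ (s : ℕ) + 1) :
    IsZero (((Tor (ModuleCat.{u} A) j).obj (ModuleCat.of A N)).obj (ModuleCat.of A M)) := by
  let S := Submonoid.powers (f s)
  let g : N →ₗ[A] LocalizedModule S N := LocalizedModule.mkLinearMap S N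
  have hΓ : PT f ((s : ℕ) + 1) (LinearMap.ker g.rangeRestrict) := by
    intro i hi x
    rcases Nat.lt_succ_iff_lt_or_eq.1 hi with hlt | heq
    · obtain ⟨n, hn⟩ := hN i hlt x.1
      exact ⟨n, Subtype.ext hn⟩
    · have his : i = s := Fin.ext heq
      subst his
      have hx : g x.1 = 0 := by
        have h := x.2
        rw [LinearMap.mem_ker] at h
        exact congrArg Subtype.val h
      obtain ⟨c, hc⟩ := (IsLocalizedModule.eq_zero_iff S g).1 hx
      obtain ⟨n, hn⟩ := c.2
      have hn : f i ^ n = (c : A) := hn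
      refine ⟨n, Subtype.ext ?_⟩
      change f i ^ n • x.1 = 0
      rw [hn]
      exact hc
  have hQ : PT f ((s : ℕ) + 1) (LocalizedModule S N ⧸ LinearMap.range g) := by
    intro i hi y
    obtain ⟨y, rfl⟩ := Submodule.mkQ_surjective _ y
    induction y using LocalizedModule.induction_on with
    | h x c =>
      rcases Nat.lt_succ_iff_lt_or_eq.1 hi with hlt | heq
      · obtain ⟨n, hn⟩ := hN i hlt x
        refine ⟨n, ?_⟩
        rw [← map_smul, LocalizedModule.smul'_mk, hn, LocalizedModule.zero_mk, map_zero]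
      · have his : i = s := Fin.ext heq
        subst his
        obtain ⟨n, hn⟩ := c.2
        have hn : f i ^ n = (c : A) := hn
        refine ⟨n, ?_⟩
        rw [← map_smul, Submodule.mkQ_apply, Submodule.Quotient.mk_eq_zero]
        refine ⟨x, ?_⟩
        change LocalizedModule.mk x 1 = _
        rw [hn, LocalizedModule.smul'_mk]
        exact (LocalizedModule.mk_cancel c x).symm
  have hS1 : g.rangeRestrict.shortComplexKer.ShortExact :=
    LinearMap.shortExact_shortComplexKer (LinearMap.surjective_rangeRestrict g)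
  have hS2 := subSC_shortExact (LinearMap.range g)
  obtain ⟨k, rfl⟩ : ∃ k, j = k + 1 := ⟨j - 1, by omega⟩
  have hNbar : IsZero (((Tor (ModuleCat.{u} A) (k + 1)).obj
      (ModuleCat.of A (LinearMap.range g))).obj (ModuleCat.of A M)) := by
    refine isZero_tor_X₁ hS2 (ModuleCat.of A M) (k + 1) ?_ ?_
    · exact IH _ hQ (k + 2) (by omega) (by omega)
    · exact isZero_tor_localizedModule (f s) N M hloc k
  exact isZero_tor_of_shortExact hS1 (ModuleCat.of A M) (k + 1)
    (IH _ hΓ (k + 1) (by omega) (by omega)) hNbar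

/-- **Flatness criterion.** -/
theorem main (M : Type u) [AddCommGroup M] [Module A M] {r : ℕ} (f : Fin r → A)
    (h1 : ∀ i, Module.Flat (Localization.Away (f i)) (LocalizedModule (Submonoid.powers (f i)) M))
    (h2 : Module.Flat (A ⧸ Ideal.span (Set.range f)) ((A ⧸ Ideal.span (Set.range f)) ⊗[A] M))
    (h3 : ∀ i : ℕ, 1 ≤ i → i ≤ r + 1 →
      IsZero (((Tor (ModuleCat.{u} A) i).obj (ModuleCat.of A M)).obj
        (ModuleCat.of A (A ⧸ Ideal.span (Set.range f))))) :
    Module.Flat A M := by
  have hA : ∀ j : ℕ, j < r + 1 → ∀ (T : Type u) [AddCommGroup T] [Module A T],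
      Module.IsTorsionBySet A T (Ideal.span (Set.range f)) →
      IsZero (((Tor (ModuleCat.{u} A) (j + 1)).obj (ModuleCat.of A T)).obj (ModuleCat.of A M)) := by
    intro j hj T _ _ hT
    letI := hT.module
    haveI : IsScalarTower A (A ⧸ Ideal.span (Set.range f)) T := hT.isScalarTower
    refine TorTrunc.isZero_tor_of_flat_bc (A' := A ⧸ Ideal.span (Set.range f)) T j
      (ModuleCat.of A M) ?_ h2
    intro q hq
    exact isZero_tor_flip (h3 (q + 1) (by omega) (by omega))
  have base : ∀ (N : Type u) [AddCommGroup N] [Module A N], PT f r N →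
      ∀ j : ℕ, 1 ≤ j → j ≤ r + 1 →
        IsZero (((Tor (ModuleCat.{u} A) j).obj (ModuleCat.of A N)).obj (ModuleCat.of A M)) := by
    intro N _ _ hN j hj1 hj2
    obtain ⟨k, rfl⟩ : ∃ k, j = k + 1 := ⟨j - 1, by omega⟩
    refine isZero_tor_of_powerTorsion (Ideal.span (Set.range f)) k (ModuleCat.of A M)
      (hA k (by omega)) N ?_
    intro x
    exact exists_pow_smul_eq_zero f x (fun i => hN i i.2 x)
  have desc : ∀ t : ℕ, t ≤ r → ∀ (N : Type u) [AddCommGroup N] [Module A N], PT f (r - t) N →
      ∀ j : ℕ, 1 ≤ j → j ≤ (r - t) + 1 →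
        IsZero (((Tor (ModuleCat.{u} A) j).obj (ModuleCat.of A N)).obj (ModuleCat.of A M)) := by
    intro t
    induction t with
    | zero =>
      intro _ N _ _ hN j hj1 hj2
      exact base N hN j hj1 hj2
    | succ t ih =>
      intro ht N _ _ hN j hj1 hj2
      have hlt : r - (t + 1) < r := by omega
      have heq : (r - (t + 1)) + 1 = r - t := by omega
      refine step f M ⟨r - (t + 1), hlt⟩ (h1 _) ?_ N hN j hj1 hj2
      intro N' _ _ hN' j' h1' h2'
      change PT f ((r - (t + 1)) + 1) N' at hN'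
      change j' ≤ (r - (t + 1)) + 2 at h2'
      rw [heq] at hN'
      exact ih (by omega) N' hN' j' h1' (by omega)
  apply Groth.Agent.H9.WeakDimWE.flat_of_isZero_tor_one
  intro N _ _
  refine isZero_tor_flip (desc r le_rfl N ?_ 1 le_rfl (by omega))
  intro i hi
  exact absurd hi (by omega)

end Groth.Agent.H9.FlatLocalTor
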