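import Groth.Agent.H18.TorBalance

/-! Flat resolutions compute `Tor`: for a complex `F` of flat modules with a quasi-isomorphism
`F ⟶ M[0]`, `H_n(F ⊗ N) ≅ Tor_n(M, N)`. Adapted from `Groth.Agent.H18.TorBalance` (which treats
projective resolutions). -/

set_option autoImplicit false
universe u

namespace Groth.Agent.H9.FlatResTor

open CategoryTheory CategoryTheory.Limits MonoidalCategory HomologicalComplex ChainComplex
open Groth.Agent.H18

variable {A : Type u} [CommRing A] {M : ModuleCat.{u} A}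
  (F : ChainComplex (ModuleCat.{u} A) ℕ)
  (φ : F ⟶ (ChainComplex.single₀ (ModuleCat.{u} A)).obj M)

section Basic

variable [QuasiIso φ]

include φ in
lemma exactAt_succ (n : ℕ) : F.ExactAt (n + 1) := by
  rw [← quasiIsoAt_iff_exactAt' φ (n + 1) (exactAt_succ_single_obj _ _)]
  infer_instance

omit [QuasiIso φ] in
lemma d_comp_φ : F.d 1 0 ≫ φ.f 0 = 0 := by
  rw [← φ.comm 1 0, single_obj_d, comp_zero]

set_option backward.isDefEq.respectTransparency.types false in
set_option backward.defeqAttrib.useBackward true in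
/-- `M` is the cokernel of `F₁ ⟶ F₀`. -/
noncomputable def isColimitCokernelCofork :
    IsColimit (CokernelCofork.ofπ (φ.f 0) (d_comp_φ F φ)) := by
  refine IsColimit.ofIsoColimit (F.opcyclesIsCokernel 1 0 (by simp)) ?_
  refine Cofork.ext (F.isoHomologyι₀.symm ≪≫ isoOfQuasiIsoAt φ 0 ≪≫
    singleObjHomologySelfIso _ _ _) ?_
  rw [← cancel_mono (singleObjHomologySelfIso (ComplexShape.down ℕ) 0 _).inv,
    ← cancel_mono (isoHomologyι₀ _).hom]
  dsimp
  simp only [isoHomologyι₀_inv_naturality_assoc, p_opcyclesMap_assoc, single₀_obj_zero,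
    Category.assoc,
    Iso.hom_inv_id, Category.comp_id, isoHomologyι_inv_hom_id,
    singleObjHomologySelfIso_inv_homologyι,
    singleObjOpcyclesSelfIso_hom, single₀ObjXSelf, Iso.refl_inv, Category.id_comp]

/-- the augmentation `F₀ ⟶ M`. -/
noncomputable def aug : F.X 0 ⟶ M :=
  φ.f 0 ≫ (HomologicalComplex.singleObjXSelf (ComplexShape.down ℕ) 0 M).hom

omit [QuasiIso φ] in
lemma d_comp_aug : F.d 1 0 ≫ aug F φ = 0 := by
  unfold aug
  rw [← Category.assoc, d_comp_φ, zero_comp]

lemma aug_exact : (ShortComplex.mk _ _ (d_comp_aug F φ)).Exact := by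
  let e := HomologicalComplex.singleObjXSelf (ComplexShape.down ℕ) 0 M
  have h0 : (ShortComplex.mk _ _ (d_comp_φ F φ)).Exact :=
    ShortComplex.exact_of_g_is_cokernel _ (isColimitCokernelCofork F φ)
  let α : ShortComplex.mk _ _ (d_comp_φ F φ) ⟶ ShortComplex.mk _ _ (d_comp_aug F φ) :=
    { τ₁ := 𝟙 _
      τ₂ := 𝟙 _
      τ₃ := e.hom
      comm₂₃ := by simp [aug, e] }
  have hα1 : Epi α.τ₁ := inferInstanceAs (Epi (𝟙 _))
  have hα2 : IsIso α.τ₂ := inferInstanceAs (IsIso (𝟙 _))
  have hα3 : Mono α.τ₃ := inferInstanceAs (Mono e.hom)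
  exact (ShortComplex.exact_iff_of_epi_of_isIso_of_mono α).1 h0

lemma aug_epi : Epi (aug F φ) := by
  have : Epi (φ.f 0) := epi_of_isColimit_cofork (isColimitCokernelCofork F φ)
  unfold aug
  exact epi_comp _ _

end Basic

section TFamily

variable (hF : ∀ i, Module.Flat A (F.X i))

/-- `F ⊗ N` as a complex. -/
noncomputable abbrev tensCx (N : ModuleCat.{u} A) : ChainComplex (ModuleCat.{u} A) ℕ :=
  ((tensorRight N).mapHomologicalComplex (ComplexShape.down ℕ)).obj F

/-- functoriality of `F ⊗ N` in `N`. -/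
noncomputable abbrev tensCxMap {N N' : ModuleCat.{u} A} (f : N ⟶ N') : tensCx F N ⟶ tensCx F N' :=
  (NatTrans.mapHomologicalComplex ((tensoringRight (ModuleCat.{u} A)).map f)
    (ComplexShape.down ℕ)).app F

lemma tensCxMap_f {N N' : ModuleCat.{u} A} (f : N ⟶ N') (i : ℕ) :
    (tensCxMap F f).f i = F.X i ◁ f := rfl

/-- the short complex of complexes `F ⊗ S`. -/
noncomputable def tensSC (S : ShortComplex (ModuleCat.{u} A)) :
    ShortComplex (ChainComplex (ModuleCat.{u} A) ℕ) :=
  ShortComplex.mk (tensCxMap F S.f) (tensCxMap F S.g) (by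
    apply HomologicalComplex.hom_ext
    intro i
    change (F.X i ◁ S.f) ≫ (F.X i ◁ S.g) = 0
    rw [← MonoidalCategory.whiskerLeft_comp, S.zero, MonoidalPreadditive.whiskerLeft_zero])

include hF in
lemma tensSC_shortExact {S : ShortComplex (ModuleCat.{u} A)} (hS : S.ShortExact) :
    (tensSC F S).ShortExact := by
  apply HomologicalComplex.shortExact_of_degreewise_shortExact
  intro i
  have : Module.Flat A (F.X i) := hF i
  exact hS.map_of_exact (tensorLeft (F.X i))

variable [QuasiIso φ]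

include φ in
/-- `H_{n+1}(F ⊗ G) = 0` for `G` flat. -/
lemma isZero_homology_tensCx_succ_of_flat (G : ModuleCat.{u} A) [Module.Flat A G] (n : ℕ) :
    IsZero ((tensCx F G).homology (n + 1)) := by
  rw [← HomologicalComplex.exactAt_iff_isZero_homology,
    HomologicalComplex.exactAt_iff' _ (n + 2) (n + 1) n (by simp) (by simp)]
  have h := exactAt_succ F φ n
  rw [HomologicalComplex.exactAt_iff' _ (n + 2) (n + 1) n (by simp) (by simp)] at h
  exact h.map (tensorRight G)

include φ in
lemma isZero_homology_tensCx_succ (G : ModuleCat.{u} A) [Projective G] (n : ℕ) :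
    IsZero ((tensCx F G).homology (n + 1)) := by
  have : Module.Flat A G := flat_of_projective _
  exact isZero_homology_tensCx_succ_of_flat F φ G n

include φ hF in
theorem tens_shift {S : ShortComplex (ModuleCat.{u} A)} (hS : S.ShortExact) [Projective S.X₂]
    (n : ℕ) : Nonempty ((tensCx F S.X₃).homology (n + 2) ≅ (tensCx F S.X₁).homology (n + 1)) :=
  ⟨(tensSC_shortExact F hF hS).δIso (n + 2) (n + 1) (by simp)
    (isZero_homology_tensCx_succ F φ S.X₂ (n + 1)) (isZero_homology_tensCx_succ F φ S.X₂ n)⟩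

/-- `aug ▷ N : F₀ ⊗ N ⟶ M ⊗ N` is the cokernel of `d ▷ N`. -/
noncomputable def tensCokernel (N : ModuleCat.{u} A) :
    IsColimit (CokernelCofork.ofπ (f := (tensCx F N).d 1 0) (aug F φ ▷ N) (by
      change (F.d 1 0 ▷ N) ≫ (aug F φ ▷ N) = 0
      rw [← MonoidalCategory.comp_whiskerRight, d_comp_aug,
        MonoidalPreadditive.zero_whiskerRight])) := by
  have := aug_epi F φ
  have hcok : IsColimit (CokernelCofork.ofπ (aug F φ) (d_comp_aug F φ)) :=
    (aug_exact F φ).gIsCokernel
  exact CokernelCofork.mapIsColimit _ hcok (tensorRight N)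

/-- `H₀(F ⊗ N) ≅ M ⊗ N`. -/
noncomputable def tensH0Iso (N : ModuleCat.{u} A) : (tensCx F N).homology 0 ≅ M ⊗ N :=
  (tensCx F N).isoHomologyι₀ ≪≫
    (IsColimit.coconePointUniqueUpToIso ((tensCx F N).opcyclesIsCokernel 1 0 (by simp))
      (tensCokernel F φ N))

lemma pOpcycles_tensH0 (N : ModuleCat.{u} A) :
    (tensCx F N).pOpcycles 0 ≫ (tensCx F N).isoHomologyι₀.inv ≫ (tensH0Iso F φ N).hom =
      aug F φ ▷ N := by
  unfold tensH0Iso
  simp only [Iso.trans_hom, Iso.inv_hom_id_assoc]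
  exact IsColimit.comp_coconePointUniqueUpToIso_hom
    ((tensCx F N).opcyclesIsCokernel 1 0 (by simp)) (tensCokernel F φ N) WalkingParallelPair.one

lemma tensH0Iso_naturality {N N' : ModuleCat.{u} A} (f : N ⟶ N') :
    HomologicalComplex.homologyMap (tensCxMap F f) 0 ≫ (tensH0Iso F φ N').hom =
      (tensH0Iso F φ N).hom ≫ (M ◁ f) := by
  rw [← cancel_epi (tensCx F N).isoHomologyι₀.inv, ← cancel_epi ((tensCx F N).pOpcycles 0)]
  rw [ChainComplex.isoHomologyι₀_inv_naturality_assoc,
    HomologicalComplex.p_opcyclesMap_assoc, pOpcycles_tensH0, ← Category.assoc,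
    ← Category.assoc, Category.assoc _ _ (tensH0Iso F φ N).hom, pOpcycles_tensH0]
  exact whisker_exchange (aug F φ) f

include φ hF in
theorem tens_one_iso_kernel {S : ShortComplex (ModuleCat.{u} A)} (hS : S.ShortExact)
    [Projective S.X₂] :
    Nonempty ((tensCx F S.X₃).homology 1 ≅ kernel (M ◁ S.f)) := by
  have hΦ := tensSC_shortExact F hF hS
  have hmono : Mono (hΦ.δ 1 0 (by simp)) := hΦ.mono_δ 1 0 (by simp)
    (isZero_homology_tensCx_succ F φ S.X₂ 0)
  have hex := hΦ.homology_exact₁ 1 0 (by simp)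
  have hker := hex.fIsKernel
  have e1 : (tensCx F S.X₃).homology 1 ≅
      kernel (HomologicalComplex.homologyMap (tensCxMap F S.f) 0) :=
    IsLimit.conePointUniqueUpToIso hker (limit.isLimit _)
  have e2 : kernel (HomologicalComplex.homologyMap (tensCxMap F S.f) 0) ≅ kernel (M ◁ S.f) :=
    kernel.mapIso _ _ (tensH0Iso F φ S.X₁) (tensH0Iso F φ S.X₂) (tensH0Iso_naturality F φ S.f)
  exact ⟨e1 ≪≫ e2⟩

include φ hF in
/-- a flat resolution computes `Tor`. -/
theorem tor_iso_homology_tensCx (n : ℕ) :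
    ∀ N : ModuleCat.{u} A,
      Nonempty (((Tor (ModuleCat.{u} A) n).obj M).obj N ≅ (tensCx F N).homology n) := by
  let G : ModuleCat.{u} A ⥤ ModuleCat.{u} A := (tensoringLeft (ModuleCat.{u} A)).obj M
  have hG : PreservesFiniteColimits G := inferInstanceAs (PreservesFiniteColimits (tensorLeft M))
  induction n with
  | zero =>
    intro N
    exact ⟨(G.leftDerivedZeroIsoSelf.app N) ≪≫ (tensH0Iso F φ N).symm⟩
  | succ n ih =>
    intro N
    have hS := projPres_shortExact N
    cases n with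
    | zero =>
      obtain ⟨e1⟩ := leftDerived_one_iso_kernel G hS
      obtain ⟨e2⟩ := tens_one_iso_kernel F φ hF hS
      exact ⟨e1 ≪≫ e2.symm⟩
    | succ m =>
      obtain ⟨e1⟩ := leftDerived_shift G hS m
      obtain ⟨e2⟩ := tens_shift F φ hF hS m
      obtain ⟨e3⟩ := ih (projPres N).X₁
      exact ⟨e1 ≪≫ e3 ≪≫ e2.symm⟩

include φ hF in
/-- a flat resolution computes `Tor'`. -/
theorem homology_tensCx_iso_tor' (n : ℕ) (N : ModuleCat.{u} A) :
    Nonempty ((tensCx F N).homology n ≅ ((Tor' (ModuleCat.{u} A) n).obj M).obj N) := by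
  obtain ⟨e1⟩ := tor_iso_homology_tensCx F φ hF n N
  let P := projectiveResolution M
  obtain ⟨e2⟩ := Groth.Agent.H18.tor_iso_homology_tensCx M P n N
  have e3 : ((Tor' (ModuleCat.{u} A) n).obj M).obj N ≅ (Groth.Agent.H18.tensCx P N).homology n :=
    P.isoLeftDerivedObj ((tensoringRight (ModuleCat.{u} A)).obj N) n
  exact ⟨e1.symm ≪≫ e2 ≪≫ e3.symm⟩

end TFamily

end Groth.Agent.H9.FlatResTor
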