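import Mathlib.RingTheory.Flat.EquationalCriterion
import Mathlib.Algebra.FreeAlgebra.Cardinality
import Mathlib.SetTheory.Cardinal.Arithmetic
import Mathlib.Algebra.Algebra.Subalgebra.Directed

/-! Flat subalgebras of bounded cardinality (Löwenheim–Skolem style closure via the equational
criterion of flatness). -/

set_option autoImplicit false
universe u

namespace Groth.Agent.H9.FlatSubalgCard

open Cardinal

variable {A B : Type u} [CommRing A] [CommRing B] [Algebra A B]

/-- a chosen set of witnesses trivialising a relation `∑ f i • x i = 0` in a flat module. -/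
noncomputable def wit [Module.Flat A B] (l : ℕ) (p : Fin l → A × B) : Set B :=
  open Classical in
  if h : ∑ i, (p i).1 • (p i).2 = 0 then
    Set.range (Module.Flat.isTrivialRelation_of_sum_smul_eq_zero h).choose_spec.choose_spec.choose
  else ∅

lemma wit_spec [Module.Flat A B] (l : ℕ) (p : Fin l → A × B) (h : ∑ i, (p i).1 • (p i).2 = 0) :
    ∃ (k : ℕ) (a : Fin l → Fin k → A) (y : Fin k → B), Set.range y = wit l p ∧
      (∀ i, (p i).2 = ∑ j, a i j • y j) ∧ ∀ j, ∑ i, (p i).1 * a i j = 0 := by
  have t := Module.Flat.isTrivialRelation_of_sum_smul_eq_zero h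
  refine ⟨t.choose, t.choose_spec.choose, t.choose_spec.choose_spec.choose, ?_,
    t.choose_spec.choose_spec.choose_spec.1, t.choose_spec.choose_spec.choose_spec.2⟩
  unfold wit
  rw [dif_pos h]

lemma wit_countable [Module.Flat A B] (l : ℕ) (p : Fin l → A × B) : (wit l p).Countable := by
  unfold wit
  split_ifs with h
  · exact Set.countable_range _
  · exact Set.countable_empty

/-- one closure step on sets. -/
noncomputable def step [Module.Flat A B] (S : Set B) : Set B :=
  S ∪ ⋃ (r : Σ l : ℕ, Fin l → A × S), wit r.1 (fun i => ((r.2 i).1, ((r.2 i).2 : B)))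

lemma subset_step [Module.Flat A B] (S : Set B) : S ⊆ step (A := A) S := Set.subset_union_left

lemma wit_subset_step [Module.Flat A B] (S : Set B) (l : ℕ) (p : Fin l → A × B)
    (hp : ∀ i, (p i).2 ∈ S) : wit l p ⊆ step (A := A) S := by
  intro z hz
  right
  rw [Set.mem_iUnion]
  exact ⟨⟨l, fun i => ((p i).1, ⟨(p i).2, hp i⟩)⟩, hz⟩

lemma mk_step_le [Module.Flat A B] (S : Set B) (hS : #S ≤ max #A ℵ₀) :
    #(step (A := A) S) ≤ max #A ℵ₀ := by
  have hκ : ℵ₀ ≤ max #A ℵ₀ := le_max_right _ _
  have hI : #(Σ l : ℕ, Fin l → A × S) ≤ max #A ℵ₀ := by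
    rw [← Cardinal.mk_congr (List.equivSigmaTuple (α := A × S))]
    refine (Cardinal.mk_list_le_max _).trans (max_le hκ ?_)
    rw [Cardinal.mk_prod, Cardinal.lift_id, Cardinal.lift_id]
    exact Cardinal.mul_le_of_le hκ (le_max_left _ _) hS
  refine (Cardinal.mk_union_le _ _).trans (Cardinal.add_le_of_le hκ hS ?_)
  refine (Cardinal.mk_iUnion_le _).trans (Cardinal.mul_le_of_le hκ hI ?_)
  refine (ciSup_le' fun r => ?_).trans hκ
  exact Cardinal.le_aleph0_iff_set_countable.mpr (wit_countable _ _)

/-- the chain of subalgebras. -/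
noncomputable def chain [Module.Flat A B] (E : Subalgebra A B) : ℕ → Subalgebra A B
  | 0 => E
  | n + 1 => Algebra.adjoin A (step (A := A) (chain E n : Set B))

lemma step_chain_le [Module.Flat A B] (E : Subalgebra A B) (n : ℕ) :
    step (A := A) (chain E n : Set B) ⊆ chain E (n + 1) := Algebra.subset_adjoin

lemma chain_mono [Module.Flat A B] (E : Subalgebra A B) : Monotone (chain E) := by
  apply monotone_nat_of_le_succ
  intro n x hx
  exact step_chain_le E n (subset_step _ hx)

lemma mk_chain_le [Module.Flat A B] (E : Subalgebra A B) (hE : #E ≤ max #A ℵ₀) (n : ℕ) :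
    #(chain E n) ≤ max #A ℵ₀ := by
  induction n with
  | zero => exact hE
  | succ n ih =>
    exact (Algebra.cardinalMk_adjoin_le A _).trans
      (max_le (max_le (le_max_left _ _) (mk_step_le _ ih)) (le_max_right _ _))

theorem exists_flat_subalgebra [Module.Flat A B] (E : Subalgebra A B)
    (hE : #E ≤ max #A ℵ₀) :
    ∃ B' : Subalgebra A B, E ≤ B' ∧ Module.Flat A B' ∧ #B' ≤ max #A ℵ₀ := by
  have hκ : ℵ₀ ≤ max #A ℵ₀ := le_max_right _ _
  have hdir : Directed (· ≤ ·) (chain E) := (chain_mono E).directed_le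
  refine ⟨⨆ n, chain E n, le_iSup (chain E) 0, ?_, ?_⟩
  · apply Module.Flat.of_forall_isTrivialRelation
    intro l f x h
    have hx : ∀ i, ∃ n, (x i : B) ∈ chain E n := fun i => by
      have h0 : (x i : B) ∈ ((⨆ n, chain E n : Subalgebra A B) : Set B) := (x i).2
      rw [Subalgebra.coe_iSup_of_directed hdir, Set.mem_iUnion] at h0
      exact h0
    choose n hn using hx
    let N := Finset.univ.sup n
    have hN : ∀ i, (x i : B) ∈ chain E N := fun i =>
      chain_mono E (Finset.le_sup (Finset.mem_univ i)) (hn i)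
    let p : Fin l → A × B := fun i => (f i, (x i : B))
    have hrel : ∑ i, (p i).1 • (p i).2 = 0 := by
      have := congrArg Subtype.val h
      simpa using this
    obtain ⟨k, a, y, hy, h1, h2⟩ := wit_spec l p hrel
    have hyB : ∀ j, y j ∈ ⨆ n, chain E n := by
      intro j
      have h3 : y j ∈ wit l p := by rw [← hy]; exact Set.mem_range_self j
      have h4 : y j ∈ chain E (N + 1) := step_chain_le E N (wit_subset_step _ l p hN h3)
      exact le_iSup (chain E) (N + 1) h4
    refine ⟨k, a, fun j => ⟨y j, hyB j⟩, ?_, h2⟩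
    intro i
    apply Subtype.ext
    have := h1 i
    simpa using this
  · have hcoe : ((⨆ n, chain E n : Subalgebra A B) : Set B) = ⋃ n, (chain E n : Set B) :=
      Subalgebra.coe_iSup_of_directed hdir
    have h1 : #(⨆ n, chain E n : Subalgebra A B) = #(⋃ n, (chain E n : Set B)) := by
      rw [← hcoe]
      rfl
    rw [h1]
    have h2 := Cardinal.mk_iUnion_le_lift (fun n => (chain E n : Set B))
    rw [Cardinal.lift_uzero] at h2
    refine h2.trans (Cardinal.mul_le_of_le hκ ?_ ?_)
    · rw [Cardinal.mk_nat, Cardinal.lift_aleph0]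
      exact hκ
    · refine ciSup_le' fun n => ?_
      rw [Cardinal.lift_uzero]
      exact mk_chain_le E hE n

end Groth.Agent.H9.FlatSubalgCard
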