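import Groth.Agent.H2.ArtinFlat
import Groth.Agent.H2.FlatPow

/-! Descent of flatness of `B` over a Noetherian local ring `A` from flatness of `A' ⊗ B` over `A'`,
when the `m`-adic topology of `A` is induced from `A'`. -/

universe u

open TensorProduct IsLocalRing

namespace Groth.Agent.H9

/-- flatness passes from `R₀ ⊗ M` over `R₀` to `T ⊗ M` over `T` for an `R₀`-algebra `T`. -/
theorem flat_baseChange_tower {A R₀ T M : Type u} [CommRing A] [CommRing R₀] [CommRing T]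
    [Algebra A R₀] [Algebra R₀ T] [Algebra A T] [IsScalarTower A R₀ T] [AddCommGroup M]
    [Module A M] [Module.Flat R₀ (R₀ ⊗[A] M)] : Module.Flat T (T ⊗[A] M) :=
  Module.Flat.of_linearEquiv
    (TensorProduct.AlgebraTensorModule.cancelBaseChange A R₀ T T M).symm

theorem flat_of_flat_baseChange_of_comap_pow {A B A' : Type u} [CommRing A] [CommRing B]
    [CommRing A'] [IsNoetherianRing A] [IsLocalRing A] [IsNoetherianRing B] [IsLocalRing B]
    [Algebra A B] [IsLocalHom (algebraMap A B)] [Algebra A A']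
    (h : ∀ n : ℕ, 0 < n → ∃ (𝔟 : Ideal A') (k : ℕ),
      𝔟.comap (algebraMap A A') ≤ maximalIdeal A ^ n ∧
        maximalIdeal A ^ k ≤ 𝔟.comap (algebraMap A A'))
    [Module.Flat A' (A' ⊗[A] B)] : Module.Flat A B := by
  have hI : (maximalIdeal A).map (algebraMap A B) ≤ Ideal.jacobson ⊥ := by
    rw [IsLocalRing.jacobson_eq_maximalIdeal ⊥ bot_ne_top]
    have h02 : IsLocalHom (algebraMap A B) ↔
        (maximalIdeal A).map (algebraMap A B) ≤ maximalIdeal B :=
      (IsLocalRing.local_hom_TFAE (algebraMap A B)).out 0 2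
    exact h02.1 inferInstance
  refine Groth.Agent.H2.flat_of_flat_quotient_pow (S := B) (maximalIdeal A) hI ?_
  intro n hn
  obtain ⟨𝔟, k, h1, h2⟩ := h n hn
  have hne : 𝔟.comap (algebraMap A A') ≠ ⊤ := by
    intro htop
    have h3 : (⊤ : Ideal A) ≤ maximalIdeal A :=
      htop ▸ h1.trans (Ideal.pow_le_self (Nat.pos_iff_ne_zero.1 hn))
    exact (IsLocalRing.maximalIdeal.isMaximal A).ne_top (top_le_iff.1 h3)
  have : Nontrivial (A ⧸ 𝔟.comap (algebraMap A A')) := Ideal.Quotient.nontrivial_iff.mpr hne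
  have : IsLocalRing (A ⧸ 𝔟.comap (algebraMap A A')) :=
    IsLocalRing.of_surjective' (Ideal.Quotient.mk _) Ideal.Quotient.mk_surjective
  have : IsLocalHom (Ideal.Quotient.mk (𝔟.comap (algebraMap A A'))) :=
    IsLocalHom.of_surjective (Ideal.Quotient.mk _) Ideal.Quotient.mk_surjective
  letI : Algebra (A ⧸ 𝔟.comap (algebraMap A A')) (A' ⧸ 𝔟) :=
    (Ideal.quotientMap 𝔟 (algebraMap A A') le_rfl).toAlgebra
  have : IsScalarTower A (A ⧸ 𝔟.comap (algebraMap A A')) (A' ⧸ 𝔟) :=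
    IsScalarTower.of_algebraMap_eq (fun a => rfl)
  have hinj : Function.Injective (algebraMap (A ⧸ 𝔟.comap (algebraMap A A')) (A' ⧸ 𝔟)) :=
    Ideal.quotientMap_injective
  have hmax : (maximalIdeal A).map (Ideal.Quotient.mk (𝔟.comap (algebraMap A A'))) =
      maximalIdeal (A ⧸ 𝔟.comap (algebraMap A A')) := by
    ext x
    obtain ⟨x, rfl⟩ := Ideal.Quotient.mk_surjective x
    simp [sup_eq_left.mpr (le_maximalIdeal hne)]
  have hnil : IsNilpotent (maximalIdeal (A ⧸ 𝔟.comap (algebraMap A A'))) := by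
    refine ⟨k, ?_⟩
    rw [← hmax, ← Ideal.map_pow, Ideal.zero_eq_bot, Ideal.map_eq_bot_iff_le_ker, Ideal.mk_ker]
    exact h2
  have : Module.Flat (A' ⧸ 𝔟) ((A' ⧸ 𝔟) ⊗[A ⧸ 𝔟.comap (algebraMap A A')]
      ((A ⧸ 𝔟.comap (algebraMap A A')) ⊗[A] B)) :=
    Groth.Agent.H2.flat_baseChange_of_square (S := A')
  have : Module.Flat (A ⧸ 𝔟.comap (algebraMap A A'))
      ((A ⧸ 𝔟.comap (algebraMap A A')) ⊗[A] B) :=
    Groth.Agent.H2.flat_of_baseChange_flat_of_isNilpotent_maximalIdeal hnil hinj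
  letI : Algebra (A ⧸ 𝔟.comap (algebraMap A A')) (A ⧸ maximalIdeal A ^ n) :=
    (Ideal.Quotient.factor h1).toAlgebra
  have : IsScalarTower A (A ⧸ 𝔟.comap (algebraMap A A')) (A ⧸ maximalIdeal A ^ n) :=
    IsScalarTower.of_algebraMap_eq (fun a => rfl)
  exact flat_baseChange_tower (R₀ := A ⧸ 𝔟.comap (algebraMap A A'))

end Groth.Agent.H9
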