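import Mathlib.CategoryTheory.Abelian.Projective.Resolution
import Mathlib.CategoryTheory.Abelian.LeftDerived
import Mathlib.Algebra.Homology.HomologicalComplexLimits

/-! A functorial projective resolution built from a functor `Fr : C ⥤ C` with projective values
and a natural epimorphism `ε : Fr ⟶ 𝟭 C`: in degree `n` it is `Fr (K^n N)` where `K = ker ε`.
Left derived functors are computed by it, naturally. -/

open CategoryTheory Limits

namespace Groth.Agent.H9.FunctorialResolution

universe v u v' u'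

variable {C : Type u} [Category.{v} C] [Abelian C] (Fr : C ⥤ C) (ε : Fr ⟶ 𝟭 C)

/-- the kernel of `ε`, objectwise. -/
noncomputable def kerFunctor : C ⥤ C where
  obj N := kernel (ε.app N)
  map {N N'} f := kernel.map (ε.app N) (ε.app N') (Fr.map f) f (ε.naturality f).symm
  map_id N := by
    apply equalizer.hom_ext
    simp
  map_comp f g := by
    apply equalizer.hom_ext
    simp

/-- the inclusion of the kernel. -/
noncomputable def kerι : kerFunctor Fr ε ⟶ Fr where
  app N := kernel.ι (ε.app N)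
  naturality {N N'} f := by
    simp [kerFunctor]

@[reassoc (attr := simp)]
lemma kerι_app_comp (N : C) : (kerι Fr ε).app N ≫ ε.app N = 0 :=
  kernel.condition (ε.app N)

lemma kerι_comp : kerι Fr ε ≫ ε = 0 := by
  ext N
  simp

/-- the iterated kernel functor. -/
noncomputable def kerPow : ℕ → (C ⥤ C)
  | 0 => 𝟭 C
  | n + 1 => kerPow n ⋙ kerFunctor Fr ε

/-- the differential of the functorial resolution, objectwise. -/
noncomputable def resDApp (n : ℕ) (N : C) :
    Fr.obj ((kerPow Fr ε (n + 1)).obj N) ⟶ Fr.obj ((kerPow Fr ε n).obj N) :=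
  ε.app ((kerFunctor Fr ε).obj ((kerPow Fr ε n).obj N)) ≫
    (kerι Fr ε).app ((kerPow Fr ε n).obj N)

lemma resDApp_naturality (n : ℕ) {N N' : C} (f : N ⟶ N') :
    Fr.map ((kerPow Fr ε (n + 1)).map f) ≫ resDApp Fr ε n N' =
      resDApp Fr ε n N ≫ Fr.map ((kerPow Fr ε n).map f) := by
  have h1 := ε.naturality ((kerFunctor Fr ε).map ((kerPow Fr ε n).map f))
  have h2 := (kerι Fr ε).naturality ((kerPow Fr ε n).map f)
  simp only [Functor.id_map] at h1
  change Fr.map ((kerFunctor Fr ε).map ((kerPow Fr ε n).map f)) ≫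
    (ε.app ((kerFunctor Fr ε).obj ((kerPow Fr ε n).obj N')) ≫
      (kerι Fr ε).app ((kerPow Fr ε n).obj N')) =
    (ε.app ((kerFunctor Fr ε).obj ((kerPow Fr ε n).obj N)) ≫
      (kerι Fr ε).app ((kerPow Fr ε n).obj N)) ≫ Fr.map ((kerPow Fr ε n).map f)
  rw [reassoc_of% h1, h2, Category.assoc]

lemma resDApp_comp (n : ℕ) (N : C) : resDApp Fr ε (n + 1) N ≫ resDApp Fr ε n N = 0 := by
  change (ε.app ((kerFunctor Fr ε).obj ((kerFunctor Fr ε).obj ((kerPow Fr ε n).obj N))) ≫
    (kerι Fr ε).app ((kerFunctor Fr ε).obj ((kerPow Fr ε n).obj N))) ≫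
    (ε.app ((kerFunctor Fr ε).obj ((kerPow Fr ε n).obj N)) ≫
      (kerι Fr ε).app ((kerPow Fr ε n).obj N)) = 0
  rw [Category.assoc, kerι_app_comp_assoc, zero_comp, comp_zero]

/-- the functorial resolution. -/
noncomputable def resFunctor : C ⥤ ChainComplex C ℕ where
  obj N := ChainComplex.of (fun n => Fr.obj ((kerPow Fr ε n).obj N))
    (fun n => resDApp Fr ε n N) (fun n => resDApp_comp Fr ε n N)
  map {N N'} f := ChainComplex.ofHom (fun n => Fr.map ((kerPow Fr ε n).map f)) (fun n => by
    change _ ≫ ChainComplex.of.d (fun n => Fr.obj ((kerPow Fr ε n).obj N'))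
        (fun n => resDApp Fr ε n N') (n + 1) n =
      ChainComplex.of.d (fun n => Fr.obj ((kerPow Fr ε n).obj N))
        (fun n => resDApp Fr ε n N) (n + 1) n ≫ _
    rw [ChainComplex.of_d, ChainComplex.of_d]
    exact resDApp_naturality Fr ε n f)
  map_id N := by
    ext n
    simp
  map_comp f g := by
    ext n
    simp

lemma resFunctor_obj_d (N : C) (n : ℕ) :
    ((resFunctor Fr ε).obj N).d (n + 1) n = resDApp Fr ε n N := by
  change ChainComplex.of.d (fun n => Fr.obj ((kerPow Fr ε n).obj N))
    (fun n => resDApp Fr ε n N) (n + 1) n = _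
  rw [ChainComplex.of_d]

lemma resFunctor_map_f {N N' : C} (f : N ⟶ N') (n : ℕ) :
    ((resFunctor Fr ε).map f).f n = Fr.map ((kerPow Fr ε n).map f) := rfl

omit Fr ε in
lemma exact_epi_comp_kernel_ι {W Y Z : C} (g : Y ⟶ Z) (e : W ⟶ kernel g) (he : Epi e) :
    (ShortComplex.mk (e ≫ kernel.ι g) g (by simp)).Exact := by
  let α : ShortComplex.mk (e ≫ kernel.ι g) g (by simp) ⟶
      ShortComplex.mk (kernel.ι g) g (by simp) :=
    { τ₁ := e
      τ₂ := 𝟙 _
      τ₃ := 𝟙 _ }
  rw [ShortComplex.exact_iff_of_epi_of_isIso_of_mono α]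
  apply ShortComplex.exact_of_f_is_kernel
  apply kernelIsKernel

omit Fr ε in
lemma exact_epi_comp_kernel_ι_comp_mono {W Y Z Z' : C} (g : Y ⟶ Z) (e : W ⟶ kernel g)
    (he : Epi e) (m : Z ⟶ Z') (hm : Mono m) :
    (ShortComplex.mk (e ≫ kernel.ι g) (g ≫ m) (by simp)).Exact := by
  let α : ShortComplex.mk (e ≫ kernel.ι g) g (by simp) ⟶
      ShortComplex.mk (e ≫ kernel.ι g) (g ≫ m) (by simp) :=
    { τ₁ := 𝟙 _
      τ₂ := 𝟙 _
      τ₃ := m }
  rw [← ShortComplex.exact_iff_of_epi_of_isIso_of_mono α]
  exact exact_epi_comp_kernel_ι g e he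

variable [∀ N, Epi (ε.app N)]

lemma resFunctor_exactAt_succ (N : C) (n : ℕ) :
    ((resFunctor Fr ε).obj N).ExactAt (n + 1) := by
  rw [HomologicalComplex.exactAt_iff' _ (n + 1 + 1) (n + 1) n (by simp) (by simp)]
  have h := exact_epi_comp_kernel_ι_comp_mono (ε.app ((kerPow Fr ε (n + 1)).obj N))
    (ε.app ((kerFunctor Fr ε).obj ((kerPow Fr ε (n + 1)).obj N)))
    (inferInstanceAs (Epi (ε.app _)))
    ((kerι Fr ε).app ((kerPow Fr ε n).obj N)) (inferInstanceAs (Mono (kernel.ι _)))
  refine (ShortComplex.exact_iff_of_iso ?_).2 h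
  exact ShortComplex.isoMk (Iso.refl _) (Iso.refl _) (Iso.refl _)
    ((Category.id_comp _).trans ((resFunctor_obj_d Fr ε N (n + 1)).symm.trans
      (Category.comp_id _).symm))
    ((Category.id_comp _).trans ((resFunctor_obj_d Fr ε N n).symm.trans
      (Category.comp_id _).symm))

/-- the augmentation. -/
noncomputable def resπ (N : C) : (resFunctor Fr ε).obj N ⟶ (ChainComplex.single₀ C).obj N :=
  (ChainComplex.toSingle₀Equiv _ _).symm ⟨ε.app N, by
    rw [resFunctor_obj_d]
    change (ε.app ((kerFunctor Fr ε).obj N) ≫ (kerι Fr ε).app N) ≫ ε.app N = 0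
    rw [Category.assoc, kerι_app_comp, comp_zero]⟩

omit [∀ N, Epi (ε.app N)] in
lemma resπ_f_zero (N : C) : (resπ Fr ε N).f 0 = ε.app N := by
  simp [resπ]

variable [∀ N, Projective (Fr.obj N)]

/-- the functorial resolution is a projective resolution. -/
noncomputable def projectiveResolution (N : C) : ProjectiveResolution N where
  complex := (resFunctor Fr ε).obj N
  projective n := inferInstanceAs (Projective (Fr.obj _))
  π := resπ Fr ε N
  quasiIso := ⟨fun n => by
    cases n
    · rw [ChainComplex.quasiIsoAt₀_iff, ShortComplex.quasiIso_iff_of_zeros']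
      · refine (ShortComplex.exact_and_epi_g_iff_of_iso ?_).2
          ⟨exact_epi_comp_kernel_ι (ε.app N) (ε.app ((kerFunctor Fr ε).obj N))
            (inferInstanceAs (Epi (ε.app _))), by dsimp; infer_instance⟩
        exact ShortComplex.isoMk (Iso.refl _) (Iso.refl _) (Iso.refl _)
          ((Category.id_comp _).trans ((resFunctor_obj_d Fr ε N 0).symm.trans
            (Category.comp_id _).symm))
          ((Category.id_comp _).trans ((resπ_f_zero Fr ε N).symm.trans
            (Category.comp_id _).symm))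
      all_goals rfl
    · rw [quasiIsoAt_iff_exactAt']
      · apply resFunctor_exactAt_succ
      · apply ChainComplex.exactAt_succ_single_obj⟩

variable {D : Type u'} [Category.{v'} D] [Abelian D] [HasProjectiveResolutions C]

/-- left derived functors are computed by the functorial resolution, naturally. -/
noncomputable def leftDerivedIso (F : C ⥤ D) [F.Additive] (n : ℕ) :
    F.leftDerived n ≅ resFunctor Fr ε ⋙ F.mapHomologicalComplex _ ⋙
      HomologicalComplex.homologyFunctor _ _ n :=
  NatIso.ofComponents (fun N => (projectiveResolution Fr ε N).isoLeftDerivedObj F n)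
    (fun {N N'} f => ProjectiveResolution.isoLeftDerivedObj_hom_naturality f
      (projectiveResolution Fr ε N) (projectiveResolution Fr ε N') ((resFunctor Fr ε).map f)
      (by
        change Fr.map f ≫ (resπ Fr ε N').f 0 = (resπ Fr ε N).f 0 ≫ f
        rw [resπ_f_zero, resπ_f_zero]
        exact ε.naturality f) F n)

end Groth.Agent.H9.FunctorialResolution
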