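import Groth.Prelude.Def_EtGlue
import Groth.Agent.H9.TorOneKernel
import Groth.Agent.H9.TorFlip

/-! Glueing pairs: elementary consequences and `Tor_1` vanishing against torsion ideals. -/

universe u

open CategoryTheory CategoryTheory.Limits TensorProduct

namespace Groth.Agent.H9

section
variable {R R' : Type u} [CommRing R] [CommRing R'] [Algebra R R'] {f : R}

lemma glue_exists_lift (h : EtGlue.QuotPowBijective R R' f) {n : ℕ} (hn : 0 < n) (r' : R') :
    ∃ (r : R) (s' : R'), r' = algebraMap R R' r + algebraMap R R' (f ^ n) * s' := by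
  obtain ⟨x, hx⟩ := (h n hn).2 (Ideal.Quotient.mk _ r')
  obtain ⟨r, rfl⟩ := Ideal.Quotient.mk_surjective x
  rw [Ideal.quotientMap_mk] at hx
  have hmem := Ideal.Quotient.eq.mp hx
  rw [Ideal.map_span, Set.image_singleton, Ideal.mem_span_singleton'] at hmem
  obtain ⟨a, ha⟩ := hmem
  refine ⟨r, -a, ?_⟩
  have : r' = algebraMap R R' r - a * algebraMap R R' (f ^ n) := by rw [ha]; ring
  rw [this]; ring

/-- for a module in which every element is killed by a power of `f`, every tensor in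
`R' ⊗ X` is of the form `1 ⊗ x`. -/
lemma glue_tmul_surjective (h : EtGlue.QuotPowBijective R R' f)
    (X : Type u) [AddCommGroup X] [Module R X] (hX : ∀ x : X, ∃ n : ℕ, f ^ n • x = 0) :
    Function.Surjective (fun x : X => (1 : R') ⊗ₜ[R] x) := by
  intro z
  induction z using TensorProduct.induction_on with
  | zero => exact ⟨0, by simp⟩
  | tmul r' x =>
    obtain ⟨n, hn⟩ := hX x
    have hn1 : f ^ (n + 1) • x = 0 := by rw [pow_succ', mul_smul, hn, smul_zero]
    obtain ⟨r, s', hr⟩ := glue_exists_lift h (Nat.succ_pos n) r'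
    refine ⟨r • x, ?_⟩
    change (1 : R') ⊗ₜ[R] (r • x) = r' ⊗ₜ[R] x
    have e1 : (algebraMap R R' (f ^ (n + 1)) * s') ⊗ₜ[R] x = 0 := by
      rw [← Algebra.smul_def, TensorProduct.smul_tmul, hn1, tmul_zero]
    have e2 : (algebraMap R R' r) ⊗ₜ[R] x = (1 : R') ⊗ₜ[R] (r • x) := by
      rw [Algebra.algebraMap_eq_smul_one, TensorProduct.smul_tmul]
    rw [hr, add_tmul, e1, e2, add_zero]
  | add a b ha hb =>
    obtain ⟨x, rfl⟩ := ha
    obtain ⟨y, rfl⟩ := hb
    exact ⟨x + y, tmul_add _ _ _⟩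

lemma glue_eq_zero_of_torsion (h : EtGlue.IsGlueingPair R R' f) {r : R} {n : ℕ}
    (hr : f ^ n * r = 0) (h0 : algebraMap R R' r = 0) : r = 0 := by
  apply h.2.1
  simp only [map_zero, Prod.mk.injEq]
  refine ⟨h0, ?_⟩
  rw [IsLocalization.map_eq_zero_iff (Submonoid.powers f)]
  exact ⟨⟨f ^ n, ⟨n, rfl⟩⟩, hr⟩

lemma glue_exists_torsion_lift (h : EtGlue.IsGlueingPair R R' f) {r' : R'} {n : ℕ}
    (hr : algebraMap R R' f ^ n * r' = 0) : ∃ r : R, algebraMap R R' r = r' ∧ f ^ n * r = 0 := by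
  have h1 : algebraMap R' (Localization.Away (algebraMap R R' f)) r' =
      Localization.awayMap (algebraMap R R') f 0 := by
    rw [map_zero, IsLocalization.map_eq_zero_iff (Submonoid.powers (algebraMap R R' f))]
    exact ⟨⟨algebraMap R R' f ^ n, ⟨n, rfl⟩⟩, hr⟩
  obtain ⟨r, hr1, hr2⟩ := h.2.2.1 r' 0 h1
  refine ⟨r, hr1, ?_⟩
  apply h.2.1
  simp only [map_zero, map_mul, map_pow, hr1, hr, hr2, mul_zero]

/-- For a glueing pair and an ideal `T` of `R` all of whose elements are killed by a power of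
`f`, the map `R' ⊗ T → R' ⊗ R` is injective. -/
lemma glue_lTensor_subtype_injective (h : EtGlue.IsGlueingPair R R' f) (T : Submodule R R)
    (hT : ∀ t ∈ T, ∃ n : ℕ, f ^ n * t = 0) :
    Function.Injective (LinearMap.lTensor R' T.subtype) := by
  rw [injective_iff_map_eq_zero]
  intro x hx
  obtain ⟨t, rfl⟩ := glue_tmul_surjective h.1 T (fun t => by
    obtain ⟨n, hn⟩ := hT t.1 t.2
    exact ⟨n, Subtype.ext (by simpa using hn)⟩) x
  have h2 : algebraMap R R' t.1 = 0 := by
    have := congrArg (TensorProduct.rid R R') hx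
    simpa [Algebra.algebraMap_eq_smul_one] using this
  obtain ⟨n, hn⟩ := hT t.1 t.2
  have : t = 0 := Subtype.ext (glue_eq_zero_of_torsion h hn h2)
  change (1 : R') ⊗ₜ[R] t = 0
  rw [this, tmul_zero]

end

end Groth.Agent.H9
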