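import Groth.Agent.H9.GlueBasic
import Groth.Agent.S7041

/-! For a glueing pair, `T → R' ⊗ T` is bijective for `f`-power torsion `T`. -/

universe u

open TensorProduct

namespace Groth.Agent.H9

variable {R R' : Type u} [CommRing R] [CommRing R'] [Algebra R R'] {f : R}

lemma glue_tmul_bijective (h : EtGlue.QuotPowBijective R R' f)
    (X : Type u) [AddCommGroup X] [Module R X] (hX : ∀ x : X, ∃ n : ℕ, f ^ n • x = 0) :
    Function.Bijective (fun x : X => (1 : R') ⊗ₜ[R] x) := by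
  have hq : ∀ k : ℕ, 0 < k → Function.Bijective
      (Ideal.quotientMap (Ideal.map (algebraMap R R') (Ideal.span ({f} : Set R) ^ k))
        (algebraMap R R') Ideal.le_comap_map) := by
    intro k hk
    have := h k hk
    rw [Ideal.span_singleton_pow]
    exact this
  have hM : LocCoh.IsPowerTorsion (Ideal.span ({f} : Set R)) X := by
    intro m
    obtain ⟨n, hn⟩ := hX m
    refine ⟨n, fun a ha => ?_⟩
    rw [Ideal.span_singleton_pow] at ha
    obtain ⟨b, rfl⟩ := Ideal.mem_span_singleton'.1 ha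
    rw [mul_smul, hn, smul_zero]
  exact Groth.Agent.S7041.result (Ideal.span ({f} : Set R)) hq X hM

/-- a submodule `C ⊆ B` that is everything after inverting `f` and after `R' ⊗ -` is everything. -/
lemma glue_submodule_eq_top (h : EtGlue.QuotPowBijective R R' f)
    {B : Type u} [AddCommGroup B] [Module R B] (C : Submodule R B)
    (h1 : ∀ b : B, ∃ n : ℕ, f ^ n • b ∈ C)
    (h2 : ∀ b : B, ∃ x : R' ⊗[R] ↥C, LinearMap.lTensor R' C.subtype x = (1 : R') ⊗ₜ[R] b) :
    C = ⊤ := by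
  have hC : ∀ c : B ⧸ C, ∃ n : ℕ, f ^ n • c = 0 := by
    intro c
    obtain ⟨b, rfl⟩ := Submodule.mkQ_surjective C c
    obtain ⟨n, hn⟩ := h1 b
    refine ⟨n, ?_⟩
    rw [← map_smul, Submodule.mkQ_apply, Submodule.Quotient.mk_eq_zero]
    exact hn
  have hz : ∀ x : R' ⊗[R] ↥C, LinearMap.lTensor R' C.mkQ (LinearMap.lTensor R' C.subtype x) = 0 := by
    intro x
    rw [← LinearMap.comp_apply, ← LinearMap.lTensor_comp]
    have : C.mkQ ∘ₗ C.subtype = 0 := by
      ext c
      simp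
    rw [this, LinearMap.lTensor_zero, LinearMap.zero_apply]
  rw [eq_top_iff]
  intro b _
  have h0 : (1 : R') ⊗ₜ[R] (C.mkQ b) = (1 : R') ⊗ₜ[R] (0 : B ⧸ C) := by
    obtain ⟨x, hx⟩ := h2 b
    have e : (1 : R') ⊗ₜ[R] (C.mkQ b) = LinearMap.lTensor R' C.mkQ ((1 : R') ⊗ₜ[R] b) := rfl
    rw [e, ← hx, TensorProduct.tmul_zero]
    exact hz x
  have h3 := (glue_tmul_bijective h (B ⧸ C) hC).1 h0
  rwa [Submodule.mkQ_apply, Submodule.Quotient.mk_eq_zero] at h3

end Groth.Agent.H9
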