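import Groth.Agent.H9.GlueFlat
import Groth.Agent.S2006
import Mathlib.Algebra.Module.FinitePresentation
import Mathlib.RingTheory.Flat.EquationalCriterion
import Mathlib.RingTheory.LocalProperties.Projective

/-! Finite projectivity descends along a glueing pair. -/

universe u

open CategoryTheory CategoryTheory.Limits TensorProduct

namespace Groth.Agent.H9

section
variable {R R' : Type u} [CommRing R] [CommRing R'] [Algebra R R'] {f : R}
variable (h : EtGlue.IsGlueingPair R R' f)

include h in
/-- the kernel of a surjection from a finite projective module onto `M` is finite, when both base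
changes of `M` are finite projective. -/
theorem glue_finite_ker {P M : Type u} [AddCommGroup P] [Module R P] [AddCommGroup M] [Module R M]
    [Module.Finite R P] [Module.Projective R P] (π : P →ₗ[R] M) (hπ : Function.Surjective π)
    [Module.Finite R' (R' ⊗[R] M)] [Module.Projective R' (R' ⊗[R] M)]
    [Module.Finite (Localization.Away f) (LocalizedModule (Submonoid.powers f) M)]
    [Module.Projective (Localization.Away f) (LocalizedModule (Submonoid.powers f) M)] :
    Module.Finite R ↥(LinearMap.ker π) := by
  set S := Submonoid.powers f with hSdef
  haveI : Module.Flat R (LocalizedModule S M) := flat_localizedModule_of_flat_localization S M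
  have hb := glue_isZero_tor_one_of_flat_away h M
  have hι' := (isZero_tor_one_iff_of_surjective R' π hπ).1 hb
  rw [Groth.Agent.S2006.result R R' f h.1 ↥(LinearMap.ker π)]
  constructor
  · -- base change
    let ιB : R' ⊗[R] ↥(LinearMap.ker π) →ₗ[R'] R' ⊗[R] P := (LinearMap.ker π).subtype.baseChange R'
    let πB : R' ⊗[R] P →ₗ[R'] R' ⊗[R] M := π.baseChange R'
    have hιB : Function.Injective ιB := hι'
    have hπB : Function.Surjective πB := LinearMap.lTensor_surjective R' hπ
    have hexB : Function.Exact ιB πB :=
      lTensor_exact R' (LinearMap.exact_subtype_ker_map π) hπ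
    haveI : Module.FinitePresentation R' (R' ⊗[R] M) := Module.finitePresentation_of_projective _ _
    have hfg : (LinearMap.ker πB).FG := Module.FinitePresentation.fg_ker πB hπB
    haveI : Module.Finite R' ↥(LinearMap.ker πB) := Module.Finite.iff_fg.2 hfg
    have hk : LinearMap.range ιB = LinearMap.ker πB := (LinearMap.exact_iff.1 hexB).symm
    let e : R' ⊗[R] ↥(LinearMap.ker π) ≃ₗ[R'] ↥(LinearMap.ker πB) :=
      (LinearEquiv.ofInjective ιB hιB).trans (LinearEquiv.ofEq _ _ hk)
    exact Module.Finite.equiv e.symm
  · -- localization
    let ιf := LocalizedModule.map S (LinearMap.ker π).subtype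
    let πf := LocalizedModule.map S π
    have hιf : Function.Injective ιf :=
      LocalizedModule.map_injective S _ (LinearMap.ker π).injective_subtype
    have hπf : Function.Surjective πf := LocalizedModule.map_surjective S π hπ
    have hex : Function.Exact ιf πf :=
      IsLocalizedModule.map_exact S _ _ _ (LinearMap.ker π).subtype π
        (LinearMap.exact_subtype_ker_map π)
    haveI : Module.FinitePresentation (Localization S) (LocalizedModule S M) :=
      Module.finitePresentation_of_projective _ _
    have hfg : (LinearMap.ker πf).FG := Module.FinitePresentation.fg_ker πf hπf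
    haveI : Module.Finite (Localization S) ↥(LinearMap.ker πf) := Module.Finite.iff_fg.2 hfg
    have hk : LinearMap.range ιf = LinearMap.ker πf := (LinearMap.exact_iff.1 hex).symm
    let e : LocalizedModule S ↥(LinearMap.ker π) ≃ₗ[Localization S] ↥(LinearMap.ker πf) :=
      (LinearEquiv.ofInjective ιf hιf).trans (LinearEquiv.ofEq _ _ hk)
    exact Module.Finite.equiv e.symm

include h in
/-- Finite projectivity descends along a glueing pair. -/
theorem glue_finite_projective (M : Type u) [AddCommGroup M] [Module R M]
    [Module.Finite R' (R' ⊗[R] M)] [Module.Projective R' (R' ⊗[R] M)]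
    [Module.Finite (Localization.Away f) (LocalizedModule (Submonoid.powers f) M)]
    [Module.Projective (Localization.Away f) (LocalizedModule (Submonoid.powers f) M)] :
    Module.Finite R M ∧ Module.Projective R M := by
  have hfin : Module.Finite R M := (Groth.Agent.S2006.result R R' f h.1 M).2 ⟨inferInstance, inferInstance⟩
  refine ⟨hfin, ?_⟩
  haveI : Module.Flat R (LocalizedModule (Submonoid.powers f) M) :=
    flat_localizedModule_of_flat_localization (Submonoid.powers f) M
  haveI : Module.Flat R M := glue_flat h M
  obtain ⟨n, π, hπ⟩ := Module.Finite.exists_fin' R M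
  -- abstract the free module to avoid instance clashes
  have key : ∀ (P : Type u) [AddCommGroup P] [Module R P] [Module.Finite R P] [Module.Projective R P]
      (π : P →ₗ[R] M), Function.Surjective π → Module.FinitePresentation R M := by
    intro P _ _ _ _ π hπ
    haveI := glue_finite_ker h π hπ
    haveI : Module.FinitePresentation R P := Module.finitePresentation_of_projective _ _
    exact Module.finitePresentation_of_surjective π hπ (Module.Finite.iff_fg.1 inferInstance)
  haveI := key (ULift.{u} (Fin n) → R) (π ∘ₗ (LinearMap.funLeft R R ULift.up)) (hπ.comp
    (LinearMap.funLeft_surjective_of_injective R R _ ULift.up_injective))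
  exact Module.Flat.projective_of_finitePresentation

end

end Groth.Agent.H9
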