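import Groth.Agent.H9.FlatKer
import Mathlib.LinearAlgebra.TensorProduct.Tower
import Mathlib.RingTheory.Flat.Stability

/-! `Tor_1^R(Q, M) = 0` for every `R'`-module `Q`, when `R' ⊗_R M` is `R'`-flat and
`Tor_1^R(R', M) = 0`. -/

universe u

open CategoryTheory CategoryTheory.Limits TensorProduct

namespace Groth.Agent.H9

variable {R R' : Type u} [CommRing R] [CommRing R'] [Algebra R R']

theorem lTensor_injective_of_flat_baseChange {K P M : Type u} [AddCommGroup K] [Module R K]
    [AddCommGroup P] [Module R P] [AddCommGroup M] [Module R M]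
    (ι : K →ₗ[R] P) (π : P →ₗ[R] M) (hex : Function.Exact ι π) (hπ : Function.Surjective π)
    (hι' : Function.Injective (LinearMap.lTensor R' ι)) [Module.Flat R' (R' ⊗[R] M)]
    (Q : Type u) [AddCommGroup Q] [Module R Q] [Module R' Q] [IsScalarTower R R' Q] :
    Function.Injective (LinearMap.lTensor Q ι) := by
  let ιB : R' ⊗[R] K →ₗ[R'] R' ⊗[R] P := ι.baseChange R'
  let πB : R' ⊗[R] P →ₗ[R'] R' ⊗[R] M := π.baseChange R'
  have hιB : Function.Injective ιB := hι'
  have hπB : Function.Surjective πB := LinearMap.lTensor_surjective R' hπ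
  have hexB : Function.Exact ιB πB := lTensor_exact R' hex hπ
  have h1 : Function.Injective (LinearMap.lTensor Q ιB) :=
    lTensor_injective_of_exact_of_isZero_tor_one (R := R') Q ιB πB hιB hexB hπB
      (isZero_tor_one_of_flat_right (R := R') Q (R' ⊗[R] M))
  have hsq : ∀ w : Q ⊗[R'] (R' ⊗[R] K),
      TensorProduct.AlgebraTensorModule.cancelBaseChange R R' R' Q P (LinearMap.lTensor Q ιB w) =
        LinearMap.lTensor Q ι (TensorProduct.AlgebraTensorModule.cancelBaseChange R R' R' Q K w) := by
    intro w
    induction w using TensorProduct.induction_on with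
    | zero => simp
    | tmul q v =>
      induction v using TensorProduct.induction_on with
      | zero => simp
      | tmul r k => rfl
      | add a b ha hb =>
        rw [TensorProduct.tmul_add, map_add, map_add, ha, hb, map_add, map_add]
    | add a b ha hb => rw [map_add, map_add, ha, hb, map_add, map_add]
  rw [injective_iff_map_eq_zero]
  intro z hz
  obtain ⟨w, rfl⟩ := (TensorProduct.AlgebraTensorModule.cancelBaseChange R R' R' Q K).surjective z
  rw [← hsq] at hz
  have h2 : LinearMap.lTensor Q ιB w = 0 :=
    (TensorProduct.AlgebraTensorModule.cancelBaseChange R R' R' Q P).injective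
      (by rw [hz, map_zero])
  have h3 : w = 0 := h1 (by rw [h2, map_zero])
  rw [h3, map_zero]

/-- `Tor_1^R(Q, M) = 0` for every `R'`-module `Q`, when `R' ⊗_R M` is `R'`-flat and
`Tor_1^R(R', M) = 0`. -/
theorem isZero_tor_one_of_module_of_flat_baseChange (M : Type u) [AddCommGroup M] [Module R M]
    [Module.Flat R' (R' ⊗[R] M)]
    (hb : IsZero (((Tor (ModuleCat.{u} R) 1).obj (ModuleCat.of R R')).obj (ModuleCat.of R M)))
    (Q : Type u) [AddCommGroup Q] [Module R Q] [Module R' Q] [IsScalarTower R R' Q] :
    IsZero (((Tor (ModuleCat.{u} R) 1).obj (ModuleCat.of R Q)).obj (ModuleCat.of R M)) := by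
  obtain ⟨P, _, _, _, π, hπ⟩ := exists_projective_surjection (R := R) M
  rw [isZero_tor_one_iff_of_surjective Q π hπ]
  have hb' := (isZero_tor_one_iff_of_surjective R' π hπ).1 hb
  exact lTensor_injective_of_flat_baseChange (LinearMap.ker π).subtype π
    (LinearMap.exact_subtype_ker_map π) hπ hb' Q

end Groth.Agent.H9
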