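import Groth.Agent.H9.FlatKer
import Groth.Agent.H9.TorOneKernel
import Mathlib.RingTheory.Localization.BaseChange
import Mathlib.RingTheory.Flat.Stability
import Mathlib.RingTheory.Flat.Localization
import Mathlib.Algebra.Module.LocalizedModule.Exact

/-! `Tor_1^R(X, M) = 0` when a multiplicative set `S` acts invertibly on `X` and `S⁻¹M` is flat
over `S⁻¹R`. -/

universe u

open CategoryTheory CategoryTheory.Limits TensorProduct

namespace Groth.Agent.H9

variable {R : Type u} [CommRing R] (S : Submonoid R)

/-- If `S` acts invertibly on `X`, then `X ⊗ Y → X ⊗ S⁻¹Y` is injective. -/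
theorem lTensor_mkLinearMap_injective (X Y : Type u) [AddCommGroup X] [Module R X]
    [AddCommGroup Y] [Module R Y]
    (hX : ∀ s : S, IsUnit (algebraMap R (Module.End R X) s)) :
    Function.Injective (LinearMap.lTensor X (LocalizedModule.mkLinearMap S Y)) := by
  haveI : IsLocalizedModule S (LinearMap.id : X →ₗ[R] X) :=
    ⟨hX, fun y => ⟨(y, 1), one_smul _ _⟩, fun h => ⟨1, congrArg _ h⟩⟩
  have hloc : IsLocalizedModule S
      (TensorProduct.map (LinearMap.id : X →ₗ[R] X) (LocalizedModule.mkLinearMap S Y)) :=
    inferInstance
  rw [injective_iff_map_eq_zero]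
  intro z hz
  obtain ⟨s, hs⟩ := (IsLocalizedModule.eq_zero_iff S
    (TensorProduct.map (LinearMap.id : X →ₗ[R] X) (LocalizedModule.mkLinearMap S Y))).1 hz
  -- `s` acts injectively on `X ⊗ Y`
  have hb : Function.Bijective (algebraMap R (Module.End R X) s) :=
    (Module.End.isUnit_iff _).1 (hX s)
  let g : X ≃ₗ[R] X := LinearEquiv.ofBijective (algebraMap R (Module.End R X) s) hb
  have hg : ∀ w : X ⊗[R] Y, (g.rTensor Y) w = (s : R) • w := by
    intro w
    induction w using TensorProduct.induction_on with
    | zero => simp
    | tmul x y =>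
      rw [LinearEquiv.rTensor_tmul]
      change ((s : R) • x) ⊗ₜ[R] y = (s : R) • (x ⊗ₜ[R] y)
      rw [TensorProduct.smul_tmul']
    | add a b ha hb => rw [map_add, ha, hb, smul_add]
  apply (g.rTensor Y).injective
  rw [map_zero, hg]
  exact hs

/-- For an exact sequence `0 → K → P → M → 0` with `S⁻¹M` flat over `S⁻¹R` and `S` acting
invertibly on `X`, the map `X ⊗ K → X ⊗ P` is injective. -/
theorem lTensor_injective_of_units_of_flat_localization (X : Type u) [AddCommGroup X] [Module R X]
    {K P M : Type u} [AddCommGroup K] [Module R K] [AddCommGroup P] [Module R P]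
    [AddCommGroup M] [Module R M] (ι : K →ₗ[R] P) (π : P →ₗ[R] M)
    (hι : Function.Injective ι) (hex0 : Function.Exact ι π) (hπ : Function.Surjective π)
    (hX : ∀ s : S, IsUnit (algebraMap R (Module.End R X) s))
    [Module.Flat R (LocalizedModule S M)] :
    Function.Injective (LinearMap.lTensor X ι) := by
  let ιf := IsLocalizedModule.map S (LocalizedModule.mkLinearMap S K)
    (LocalizedModule.mkLinearMap S P) ι
  let πf := IsLocalizedModule.map S (LocalizedModule.mkLinearMap S P)
    (LocalizedModule.mkLinearMap S M) π
  have hιf : Function.Injective ιf :=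
    IsLocalizedModule.map_injective S _ _ ι hι
  have hπf : Function.Surjective πf := IsLocalizedModule.map_surjective S _ _ π hπ
  have hex : Function.Exact ιf πf :=
    IsLocalizedModule.map_exact S _ _ _ ι π hex0
  have h1 : Function.Injective (LinearMap.lTensor X ιf) :=
    lTensor_injective_of_exact_of_isZero_tor_one X ιf πf hιf hex hπf
      (isZero_tor_one_of_flat_right X (LocalizedModule S M))
  have h2 := lTensor_mkLinearMap_injective S X K hX
  have hcomm : ιf ∘ₗ LocalizedModule.mkLinearMap S K =
      LocalizedModule.mkLinearMap S P ∘ₗ ι := IsLocalizedModule.map_comp S _ _ ι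
  have h3 : Function.Injective ((LinearMap.lTensor X (LocalizedModule.mkLinearMap S P)) ∘ₗ
      (LinearMap.lTensor X ι)) := by
    rw [← LinearMap.lTensor_comp, ← hcomm, LinearMap.lTensor_comp]
    exact h1.comp h2
  exact Function.Injective.of_comp h3

/-- `Tor_1^R(X, M) = 0` when `S` acts invertibly on `X` and `S⁻¹M` is flat over `S⁻¹R`. -/
theorem isZero_tor_one_of_units_of_flat_localization (X M : Type u) [AddCommGroup X] [Module R X]
    [AddCommGroup M] [Module R M]
    (hX : ∀ s : S, IsUnit (algebraMap R (Module.End R X) s))
    [Module.Flat R (LocalizedModule S M)] :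
    IsZero (((Tor (ModuleCat.{u} R) 1).obj (ModuleCat.of R X)).obj (ModuleCat.of R M)) := by
  obtain ⟨P, _, _, _, π, hπ⟩ := exists_projective_surjection (R := R) M
  rw [isZero_tor_one_iff_of_surjective X π hπ]
  exact lTensor_injective_of_units_of_flat_localization S X (LinearMap.ker π).subtype π
    (LinearMap.ker π).injective_subtype (LinearMap.exact_subtype_ker_map π) hπ hX

/-- flatness of `S⁻¹M` over `S⁻¹R` implies flatness over `R`. -/
theorem flat_localizedModule_of_flat_localization (M : Type u) [AddCommGroup M] [Module R M]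
    [Module.Flat (Localization S) (LocalizedModule S M)] : Module.Flat R (LocalizedModule S M) := by
  haveI : Module.Flat R (Localization S) := IsLocalization.flat (Localization S) S
  exact Module.Flat.trans R (Localization S) (LocalizedModule S M)

end Groth.Agent.H9
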