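import Groth.Agent.H9.GlueBij
import Groth.Agent.H9.TorLocal
import Groth.Agent.H9.TorBaseChange
import Groth.Agent.H9.TorLES

/-! Flatness descends along a glueing pair. -/

universe u

open CategoryTheory CategoryTheory.Limits TensorProduct

namespace Groth.Agent.H9

section
variable {R R' : Type u} [CommRing R] [CommRing R'] [Algebra R R'] {f : R}

/-- `powers f` acts invertibly on `R'_f`. -/
lemma away_map_units (s : Submonoid.powers f) :
    IsUnit (algebraMap R (Module.End R (Localization.Away (algebraMap R R' f))) s) := by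
  obtain ⟨s, ⟨k, rfl⟩⟩ := s
  rw [Module.End.isUnit_iff]
  have hu : IsUnit (algebraMap R (Localization.Away (algebraMap R R' f)) (f ^ k)) := by
    rw [IsScalarTower.algebraMap_apply R R' (Localization.Away (algebraMap R R' f)), map_pow]
    exact IsLocalization.map_units _
      (⟨algebraMap R R' f ^ k, ⟨k, rfl⟩⟩ : Submonoid.powers (algebraMap R R' f))
  have : (algebraMap R (Module.End R (Localization.Away (algebraMap R R' f))) (f ^ k) :
      Localization.Away (algebraMap R R' f) → Localization.Away (algebraMap R R' f)) =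
      fun x => algebraMap R (Localization.Away (algebraMap R R' f)) (f ^ k) * x := by
    funext x
    rw [Module.algebraMap_end_apply, Algebra.smul_def]
  change Function.Bijective (algebraMap R (Module.End R (Localization.Away (algebraMap R R' f)))
    (f ^ k) : Localization.Away (algebraMap R R' f) → Localization.Away (algebraMap R R' f))
  rw [this]
  exact hu.unit.mulLeft_bijective

/-- the map `R → R' × R_f`. -/
noncomputable def glueι : R →ₗ[R] R' × Localization.Away f :=
  LinearMap.prod (Algebra.linearMap R R') (Algebra.linearMap R (Localization.Away f))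

/-- the `R`-linear map `R_f → R'_f`. -/
noncomputable def glueAway : Localization.Away f →ₗ[R] Localization.Away (algebraMap R R' f) where
  toFun y := Localization.awayMap (algebraMap R R') f y
  map_add' := map_add _
  map_smul' r y := by
    rw [Algebra.smul_def, map_mul, RingHom.id_apply, Algebra.smul_def]
    congr 1
    rw [Localization.awayMap, IsLocalization.Away.map, IsLocalization.map_eq,
      ← IsScalarTower.algebraMap_apply]

/-- the map `R' × R_f → R'_f`, difference of the two canonical maps. -/
noncomputable def glueπ : R' × Localization.Away f →ₗ[R] Localization.Away (algebraMap R R' f) :=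
  (IsScalarTower.toAlgHom R R' (Localization.Away (algebraMap R R' f))).toLinearMap ∘ₗ
      LinearMap.fst R R' (Localization.Away f) -
    glueAway ∘ₗ LinearMap.snd R R' (Localization.Away f)

lemma glueπ_apply (x : R') (y : Localization.Away f) :
    glueπ (R := R) (R' := R') (f := f) (x, y) =
      algebraMap R' (Localization.Away (algebraMap R R' f)) x -
        Localization.awayMap (algebraMap R R') f y := rfl

lemma glueπ_glueι (r : R) : glueπ (R := R) (R' := R') (f := f) (glueι r) = 0 := by
  change algebraMap R' (Localization.Away (algebraMap R R' f)) (algebraMap R R' r) -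
    Localization.awayMap (algebraMap R R') f (algebraMap R (Localization.Away f) r) = 0
  rw [Localization.awayMap, IsLocalization.Away.map, IsLocalization.map_eq, sub_self]

variable (h : EtGlue.IsGlueingPair R R' f)

include h in
lemma glue_exact : Function.Exact (glueι (R := R) (R' := R') (f := f)) glueπ := by
  intro y
  constructor
  · intro hy
    obtain ⟨x, z⟩ := y
    rw [glueπ_apply, sub_eq_zero] at hy
    obtain ⟨r, hr1, hr2⟩ := h.2.2.1 x z hy
    exact ⟨r, Prod.ext hr1 hr2⟩
  · rintro ⟨r, rfl⟩
    exact glueπ_glueι r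

include h in
/-- `Tor_1^R(R', M) = 0` when `M_f` is flat. -/
theorem glue_isZero_tor_one_of_flat_away (M : Type u) [AddCommGroup M] [Module R M]
    [Module.Flat R (LocalizedModule (Submonoid.powers f) M)] :
    IsZero (((Tor (ModuleCat.{u} R) 1).obj (ModuleCat.of R R')).obj (ModuleCat.of R M)) := by
  have hX : IsZero (((Tor (ModuleCat.{u} R) 1).obj (ModuleCat.of R M)).obj
      (ModuleCat.of R (Localization.Away (algebraMap R R' f)))) :=
    isZero_tor_flip (isZero_tor_one_of_units_of_flat_localization (Submonoid.powers f)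
      (Localization.Away (algebraMap R R' f)) M away_map_units)
  let Sc : ShortComplex (ModuleCat.{u} R) :=
    ShortComplex.mk (ModuleCat.ofHom (glueι (R := R) (R' := R') (f := f)))
      (ModuleCat.ofHom glueπ) (ModuleCat.hom_ext (LinearMap.ext fun r => glueπ_glueι r))
  have hSc : Sc.ShortExact :=
    ModuleCat.shortComplex_shortExact Sc (glue_exact h) h.2.1
      (fun z => by
        obtain ⟨x, y, hxy⟩ := h.2.2.2 z
        exact ⟨(x, y), hxy⟩)
  have hR : IsZero (((Tor (ModuleCat.{u} R) 1).obj (ModuleCat.of R M)).obj (ModuleCat.of R R)) :=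
    isZero_tor_one_of_flat_right M R
  have hmid := isZero_tor_of_shortExact_right hSc (ModuleCat.of R M) 1 hR hX
  let F := (Tor (ModuleCat.{u} R) 1).obj (ModuleCat.of R M)
  let i : ModuleCat.of R R' ⟶ ModuleCat.of R (R' × Localization.Away f) :=
    ModuleCat.ofHom (LinearMap.inl R R' (Localization.Away f))
  let p : ModuleCat.of R (R' × Localization.Away f) ⟶ ModuleCat.of R R' :=
    ModuleCat.ofHom (LinearMap.fst R R' (Localization.Away f))
  have hip : i ≫ p = 𝟙 _ := by
    ext x
    rfl
  have h0 : F.map i = 0 := hmid.eq_of_tgt _ _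
  have hid : 𝟙 (F.obj (ModuleCat.of R R')) = 0 := by
    rw [← F.map_id, ← hip, F.map_comp, h0, zero_comp]
  exact isZero_tor_flip ((IsZero.iff_id_eq_zero _).2 hid)

include h in
/-- `Tor_1^R(Q, M) = 0` for `f`-power torsion `Q`, when `M_f` and `R' ⊗ M` are flat. -/
theorem glue_isZero_tor_one_torsion_left (M : Type u) [AddCommGroup M] [Module R M]
    [Module.Flat R (LocalizedModule (Submonoid.powers f) M)] [Module.Flat R' (R' ⊗[R] M)]
    (Q : Type u) [AddCommGroup Q] [Module R Q] (hQ : ∀ q : Q, ∃ n : ℕ, f ^ n • q = 0) :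
    IsZero (((Tor (ModuleCat.{u} R) 1).obj (ModuleCat.of R Q)).obj (ModuleCat.of R M)) := by
  have hb := glue_isZero_tor_one_of_flat_away h M
  have h1 := isZero_tor_one_of_module_of_flat_baseChange M hb (R' ⊗[R] Q)
  let e : Q ≃ₗ[R] R' ⊗[R] Q :=
    LinearEquiv.ofBijective (TensorProduct.mk R R' Q 1) (glue_tmul_bijective h.1 Q hQ)
  exact isZero_tor_one_of_linearEquiv_left e.symm M h1

/-- the hypotheses pass to the kernel of a surjection from a projective module. -/
theorem flat_localizedModule_ker {S : Submonoid R} {P M : Type u} [AddCommGroup P] [Module R P]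
    [AddCommGroup M] [Module R M] [Module.Flat R P] (π : P →ₗ[R] M) (hπ : Function.Surjective π)
    [Module.Flat R (LocalizedModule S M)] :
    Module.Flat R (LocalizedModule S ↥(LinearMap.ker π)) := by
  let ι := (LinearMap.ker π).subtype
  let ιf := IsLocalizedModule.map S (LocalizedModule.mkLinearMap S ↥(LinearMap.ker π))
    (LocalizedModule.mkLinearMap S P) ι
  let πf := IsLocalizedModule.map S (LocalizedModule.mkLinearMap S P)
    (LocalizedModule.mkLinearMap S M) π
  have hιf : Function.Injective ιf :=
    IsLocalizedModule.map_injective S _ _ ι (LinearMap.ker π).injective_subtype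
  have hπf : Function.Surjective πf := IsLocalizedModule.map_surjective S _ _ π hπ
  have hex : Function.Exact ιf πf :=
    IsLocalizedModule.map_exact S _ _ _ ι π (LinearMap.exact_subtype_ker_map π)
  haveI : Module.Flat R (Localization S) := IsLocalization.flat (Localization S) S
  haveI : Module.Flat R (LocalizedModule S P) := by
    haveI : Module.Flat (Localization S) (LocalizedModule S P) := inferInstance
    exact Module.Flat.trans R (Localization S) (LocalizedModule S P)
  haveI := flat_ker_of_flat πf hπf
  have hk : LinearMap.range ιf = LinearMap.ker πf := (LinearMap.exact_iff.1 hex).symm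
  let e : LocalizedModule S ↥(LinearMap.ker π) ≃ₗ[R] ↥(LinearMap.ker πf) :=
    (LinearEquiv.ofInjective ιf hιf).trans (LinearEquiv.ofEq _ _ hk)
  exact Module.Flat.of_linearEquiv e

theorem flat_baseChange_ker {P M : Type u} [AddCommGroup P] [Module R P]
    [AddCommGroup M] [Module R M] [Module.Flat R P] (π : P →ₗ[R] M) (hπ : Function.Surjective π)
    [Module.Flat R' (R' ⊗[R] M)]
    (hι' : Function.Injective (LinearMap.lTensor R' (LinearMap.ker π).subtype)) :
    Module.Flat R' (R' ⊗[R] ↥(LinearMap.ker π)) := by
  let ιB : R' ⊗[R] ↥(LinearMap.ker π) →ₗ[R'] R' ⊗[R] P := (LinearMap.ker π).subtype.baseChange R'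
  let πB : R' ⊗[R] P →ₗ[R'] R' ⊗[R] M := π.baseChange R'
  have hιB : Function.Injective ιB := hι'
  have hπB : Function.Surjective πB := LinearMap.lTensor_surjective R' hπ
  have hexB : Function.Exact ιB πB :=
    lTensor_exact R' (LinearMap.exact_subtype_ker_map π) hπ
  haveI := flat_ker_of_flat πB hπB
  have hk : LinearMap.range ιB = LinearMap.ker πB := (LinearMap.exact_iff.1 hexB).symm
  let e : R' ⊗[R] ↥(LinearMap.ker π) ≃ₗ[R'] ↥(LinearMap.ker πB) :=
    (LinearEquiv.ofInjective ιB hιB).trans (LinearEquiv.ofEq _ _ hk)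
  exact Module.Flat.of_linearEquiv e

/-- `powers f` acts invertibly on a localized module. -/
lemma localizedModule_map_units (S : Submonoid R) (N : Type u) [AddCommGroup N] [Module R N]
    (s : S) : IsUnit (algebraMap R (Module.End R (LocalizedModule S N)) s) :=
  IsLocalizedModule.map_units (LocalizedModule.mkLinearMap S N) s

include h in
/-- Flatness descends along a glueing pair: all `Tor_1(N, M)` vanish. -/
theorem glue_isZero_tor_one_of_flat (M : Type u) [AddCommGroup M] [Module R M]
    [Module.Flat R (LocalizedModule (Submonoid.powers f) M)] [Module.Flat R' (R' ⊗[R] M)]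
    (N : Type u) [AddCommGroup N] [Module R N] :
    IsZero (((Tor (ModuleCat.{u} R) 1).obj (ModuleCat.of R N)).obj (ModuleCat.of R M)) := by
  set S := Submonoid.powers f with hSdef
  -- torsion part
  let Nt : Submodule R N := Submodule.torsion' R N S
  have hNt : ∀ q : ↥Nt, ∃ n : ℕ, f ^ n • q = 0 := by
    rintro ⟨q, ⟨⟨s, ⟨n, rfl⟩⟩, hs⟩⟩
    exact ⟨n, Subtype.ext hs⟩
  have h1 := glue_isZero_tor_one_torsion_left h M ↥Nt hNt
  -- torsion-free quotient
  suffices h2 : IsZero (((Tor (ModuleCat.{u} R) 1).obj (ModuleCat.of R (N ⧸ Nt))).obj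
      (ModuleCat.of R M)) by
    let SN : ShortComplex (ModuleCat.{u} R) :=
      ShortComplex.mk (ModuleCat.ofHom Nt.subtype) (ModuleCat.ofHom Nt.mkQ)
        (by ext x; simp)
    have hSN : SN.ShortExact :=
      ModuleCat.shortComplex_shortExact SN (LinearMap.exact_subtype_mkQ Nt)
        Nt.injective_subtype (Submodule.mkQ_surjective Nt)
    exact isZero_tor_of_shortExact hSN (ModuleCat.of R M) 1 h1 h2
  -- presentation of M
  obtain ⟨P, _, _, _, π, hπ⟩ := exists_projective_surjection (R := R) M
  haveI : Module.Flat R P := inferInstance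
  have hb := glue_isZero_tor_one_of_flat_away h M
  have hι' := (isZero_tor_one_iff_of_surjective R' π hπ).1 hb
  haveI := flat_localizedModule_ker (S := S) π hπ
  haveI := flat_baseChange_ker (R' := R') π hπ hι'
  rw [isZero_tor_one_iff_of_surjective (N ⧸ Nt) π hπ]
  set Nb := N ⧸ Nt with hNb
  let mk := LocalizedModule.mkLinearMap S Nb
  have hmk : Function.Injective mk := by
    rw [injective_iff_map_eq_zero]
    intro x hx
    obtain ⟨⟨s, ⟨k, rfl⟩⟩, hs⟩ := (IsLocalizedModule.eq_zero_iff S mk).1 hx
    obtain ⟨n, rfl⟩ := Submodule.mkQ_surjective Nt x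
    change f ^ k • Nt.mkQ n = 0 at hs
    rw [← map_smul, Submodule.mkQ_apply, Submodule.Quotient.mk_eq_zero] at hs
    obtain ⟨⟨s', ⟨k', rfl⟩⟩, hs'⟩ := hs
    rw [Submodule.mkQ_apply, Submodule.Quotient.mk_eq_zero]
    refine ⟨⟨f ^ (k' + k), ⟨k' + k, rfl⟩⟩, ?_⟩
    change f ^ (k' + k) • n = 0
    rw [pow_add, mul_smul]
    exact hs'
  -- bottom map injective
  have hbot : Function.Injective (LinearMap.lTensor (LocalizedModule S Nb)
      (LinearMap.ker π).subtype) :=
    (isZero_tor_one_iff_of_surjective (LocalizedModule S Nb) π hπ).1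
      (isZero_tor_one_of_units_of_flat_localization S (LocalizedModule S Nb) M
        (localizedModule_map_units S Nb))
  -- left map injective
  have hQ : ∀ q : LocalizedModule S Nb ⧸ LinearMap.range mk, ∃ n : ℕ, f ^ n • q = 0 := by
    intro q
    obtain ⟨y, rfl⟩ := Submodule.mkQ_surjective _ q
    obtain ⟨⟨m, s⟩, rfl⟩ := IsLocalizedModule.mk'_surjective S mk y
    obtain ⟨s, ⟨k, rfl⟩⟩ := s
    refine ⟨k, ?_⟩
    rw [← map_smul, Submodule.mkQ_apply, Submodule.Quotient.mk_eq_zero]
    refine ⟨m, ?_⟩
    have := IsLocalizedModule.mk'_cancel' mk m (⟨f ^ k, ⟨k, rfl⟩⟩ : S)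
    rw [← this]
    rfl
  have hleft : Function.Injective (LinearMap.rTensor ↥(LinearMap.ker π) mk) := by
    rw [← LinearMap.lTensor_inj_iff_rTensor_inj]
    exact lTensor_injective_of_isZero_tor_one ↥(LinearMap.ker π) mk hmk
      (isZero_tor_flip (glue_isZero_tor_one_torsion_left h ↥(LinearMap.ker π) _ hQ))
  have hsq : (LinearMap.rTensor P mk) ∘ₗ (LinearMap.lTensor Nb (LinearMap.ker π).subtype) =
      (LinearMap.lTensor (LocalizedModule S Nb) (LinearMap.ker π).subtype) ∘ₗ
        (LinearMap.rTensor ↥(LinearMap.ker π) mk) := by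
    ext a k
    rfl
  have hcomp : Function.Injective ((LinearMap.rTensor P mk) ∘ₗ
      (LinearMap.lTensor Nb (LinearMap.ker π).subtype)) := by
    rw [hsq]
    exact hbot.comp hleft
  exact Function.Injective.of_comp hcomp

include h in
/-- Flatness descends along a glueing pair. -/
theorem glue_flat (M : Type u) [AddCommGroup M] [Module R M]
    [Module.Flat R (LocalizedModule (Submonoid.powers f) M)] [Module.Flat R' (R' ⊗[R] M)] :
    Module.Flat R M := by
  rw [Module.Flat.iff_lTensor_injective']
  intro I
  exact lTensor_subtype_injective_of_isZero_tor_one M I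
    (isZero_tor_flip (glue_isZero_tor_one_of_flat h M (R ⧸ I)))

end

end Groth.Agent.H9
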