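import Groth.Agent.H9.TorOneKernel

/-! `Tor_1(X, B/A) = 0` forces `X ⊗ A → X ⊗ B` to be injective (a piece of the long exact
sequence in the second variable), proved by an elementwise diagram chase. -/

universe u

open CategoryTheory CategoryTheory.Limits TensorProduct

namespace Groth.Agent.H9

variable {R : Type u} [CommRing R]

lemma lTensor_subtype_injective_chase {X P U : Type u} [AddCommGroup X] [Module R X]
    [AddCommGroup P] [Module R P] [AddCommGroup U] [Module R U] (N : Submodule R U)
    (π : P →ₗ[R] U) (hπ : Function.Surjective π)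
    (hinj : Function.Injective (LinearMap.lTensor X (LinearMap.ker (N.mkQ ∘ₗ π)).subtype)) :
    Function.Injective (LinearMap.lTensor X N.subtype) := by
  set g : P →ₗ[R] (U ⧸ N) := N.mkQ ∘ₗ π with hgdef
  let π₃ : ↥(LinearMap.ker g) →ₗ[R] ↥N :=
    π.restrict (p := LinearMap.ker g) (q := N) (fun k hk => by
      have := LinearMap.mem_ker.1 hk
      simpa [g, Submodule.Quotient.mk_eq_zero] using this)
  have hπ₃ : Function.Surjective π₃ := by
    rintro ⟨n, hn⟩
    obtain ⟨p, rfl⟩ := hπ n
    refine ⟨⟨p, ?_⟩, rfl⟩
    simp [g, hn]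
  have hle : LinearMap.ker π ≤ LinearMap.ker g := fun k hk => by
    simp [g, LinearMap.mem_ker.1 hk]
  let j := Submodule.inclusion hle
  rw [injective_iff_map_eq_zero]
  intro z hz
  obtain ⟨x, rfl⟩ := LinearMap.lTensor_surjective X hπ₃ z
  have h1 : LinearMap.lTensor X π (LinearMap.lTensor X (LinearMap.ker g).subtype x) = 0 := by
    rw [← LinearMap.comp_apply, ← LinearMap.lTensor_comp]
    have e : π ∘ₗ (LinearMap.ker g).subtype = N.subtype ∘ₗ π₃ := rfl
    rw [e, LinearMap.lTensor_comp, LinearMap.comp_apply, hz]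
  have hex := lTensor_exact X (LinearMap.exact_subtype_ker_map π) hπ
  obtain ⟨y, hy⟩ := (hex _).1 h1
  have h2 : x = LinearMap.lTensor X j y := by
    apply hinj
    rw [← LinearMap.comp_apply, ← LinearMap.lTensor_comp]
    exact hy.symm
  rw [h2, ← LinearMap.comp_apply, ← LinearMap.lTensor_comp]
  have e : π₃ ∘ₗ j = 0 := by
    ext k
    exact LinearMap.mem_ker.1 k.2
  rw [e, LinearMap.lTensor_zero, LinearMap.zero_apply]

theorem lTensor_subtype_injective_of_isZero_tor_one (X : Type u) [AddCommGroup X] [Module R X]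
    {U : Type u} [AddCommGroup U] [Module R U] (N : Submodule R U)
    (h : IsZero (((Tor (ModuleCat.{u} R) 1).obj (ModuleCat.of R X)).obj (ModuleCat.of R (U ⧸ N)))) :
    Function.Injective (LinearMap.lTensor X N.subtype) := by
  let π : (U →₀ R) →ₗ[R] U := Finsupp.linearCombination R id
  have hπ : Function.Surjective π := fun x => ⟨Finsupp.single x 1, by simp [π]⟩
  let g : (U →₀ R) →ₗ[R] (U ⧸ N) := N.mkQ ∘ₗ π
  have hg : Function.Surjective g := (Submodule.mkQ_surjective N).comp hπ
  have hS := LinearMap.shortExact_shortComplexKer hg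
  have hP : CategoryTheory.Projective g.shortComplexKer.X₂ :=
    inferInstanceAs (CategoryTheory.Projective (ModuleCat.of R (U →₀ R)))
  have hinj : Function.Injective (LinearMap.lTensor X (LinearMap.ker g).subtype) :=
    (isZero_tor_one_iff_injective hS (ModuleCat.of R X)).1 h
  exact lTensor_subtype_injective_chase N π hπ hinj

theorem lTensor_injective_of_isZero_tor_one (X : Type u) [AddCommGroup X] [Module R X]
    {A B : Type u} [AddCommGroup A] [Module R A] [AddCommGroup B] [Module R B]
    (ι : A →ₗ[R] B) (hι : Function.Injective ι)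
    (h : IsZero (((Tor (ModuleCat.{u} R) 1).obj (ModuleCat.of R X)).obj
      (ModuleCat.of R (B ⧸ LinearMap.range ι)))) :
    Function.Injective (LinearMap.lTensor X ι) := by
  have h1 := lTensor_subtype_injective_of_isZero_tor_one X (LinearMap.range ι) h
  have e : ι = (LinearMap.range ι).subtype ∘ₗ (LinearEquiv.ofInjective ι hι).toLinearMap := rfl
  rw [e, LinearMap.lTensor_comp]
  exact h1.comp ((LinearEquiv.ofInjective ι hι).lTensor X).injective

end Groth.Agent.H9
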