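import Mathlib.RingTheory.Flat.Equalizer
import Mathlib.Algebra.Module.Torsion.Basic
import Mathlib.LinearAlgebra.TensorProduct.Tower
import Mathlib.RingTheory.TensorProduct.Basic

set_option autoImplicit false
set_option linter.unusedSectionVars false
universe u

namespace Groth.Agent.H9

open TensorProduct

/-- Let `0 → M' → P → M → 0` be exact with `R/I ⊗ M' → R/I ⊗ P` injective and `R/I ⊗ M` flat
over `R/I`. Then `N ⊗ M' → N ⊗ P` is injective for every `N` killed by `I`. -/
theorem lTensor_injective_of_torsion {R : Type u} [CommRing R] (I : Ideal R)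
    {M' P M : Type u} [AddCommGroup M'] [Module R M'] [AddCommGroup P] [Module R P]
    [AddCommGroup M] [Module R M]
    (ι : M' →ₗ[R] P) (π : P →ₗ[R] M) (hπ : Function.Surjective π) (hex : Function.Exact ι π)
    (hinj : Function.Injective (ι.lTensor (R ⧸ I)))
    [Module.Flat (R ⧸ I) ((R ⧸ I) ⊗[R] M)]
    (N : Type u) [AddCommGroup N] [Module R N] (hN : ∀ a ∈ I, ∀ x : N, a • x = 0) :
    Function.Injective (ι.lTensor N) := by
  have hT : Module.IsTorsionBySet R N (I : Set R) := fun x a => hN a.1 a.2 x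
  letI := hT.module
  haveI : IsScalarTower R (R ⧸ I) N := hT.isScalarTower
  let ιA : (R ⧸ I) ⊗[R] M' →ₗ[R ⧸ I] (R ⧸ I) ⊗[R] P := ι.baseChange (R ⧸ I)
  let πA : (R ⧸ I) ⊗[R] P →ₗ[R ⧸ I] (R ⧸ I) ⊗[R] M := π.baseChange (R ⧸ I)
  have hexA : Function.Exact ιA πA := lTensor_exact (R ⧸ I) hex hπ
  have hπA : Function.Surjective πA := LinearMap.lTensor_surjective (R ⧸ I) hπ
  have hιA : Function.Injective ιA := hinj
  have key := LinearMap.lTensor_injective_of_exact_of_flat (R := R ⧸ I) πA hπA ιA hιA hexA N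
  let e₁ := TensorProduct.AlgebraTensorModule.cancelBaseChange R (R ⧸ I) (R ⧸ I) N M'
  let e₂ := TensorProduct.AlgebraTensorModule.cancelBaseChange R (R ⧸ I) (R ⧸ I) N P
  have hcomm : ∀ z, e₂ (ιA.lTensor N z) = ι.lTensor N (e₁ z) := by
    intro z
    induction z using TensorProduct.induction_on with
    | zero => simp
    | tmul n y =>
      induction y using TensorProduct.induction_on with
      | zero => simp
      | tmul a x => simp [ιA, e₁, e₂]
      | add y₁ y₂ h₁ h₂ => simp only [TensorProduct.tmul_add, map_add, h₁, h₂]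
    | add z₁ z₂ h₁ h₂ => simp only [map_add, h₁, h₂]
  intro x y hxy
  obtain ⟨x', rfl⟩ := e₁.surjective x
  obtain ⟨y', rfl⟩ := e₁.surjective y
  rw [← hcomm, ← hcomm] at hxy
  rw [key (e₂.injective hxy)]

end Groth.Agent.H9
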