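import Groth.Agent.H9.GlueBasic
import Groth.Agent.H9.TorInjective
import Groth.Agent.S12205
import Groth.Agent.S7041

/-! Glueing pairs: `Tor_1(R', T) = 0` for every `f`-power torsion module `T`. -/

universe u

open CategoryTheory CategoryTheory.Limits TensorProduct

namespace Groth.Agent.H9

section
variable {R R' : Type u} [CommRing R] [CommRing R'] [Algebra R R'] {f : R}

/-- `R' ⊗ (f^n) → R' ⊗ R` is injective for a glueing pair. -/
lemma glue_lTensor_span_pow_injective (h : EtGlue.IsGlueingPair R R' f) (n : ℕ) :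
    Function.Injective
      (LinearMap.lTensor R' (Ideal.span ({f ^ n} : Set R) : Submodule R R).subtype) := by
  set I : Submodule R R := Ideal.span ({f ^ n} : Set R) with hI
  let e : ↥I := ⟨f ^ n, Ideal.mem_span_singleton_self _⟩
  have hform : ∀ x : R' ⊗[R] ↥I, ∃ r' : R', x = r' ⊗ₜ[R] e := by
    intro x
    induction x using TensorProduct.induction_on with
    | zero => exact ⟨0, (zero_tmul _ _).symm⟩
    | tmul r' y =>
      obtain ⟨y, hy⟩ := y
      obtain ⟨a, rfl⟩ := Ideal.mem_span_singleton'.1 hy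
      refine ⟨a • r', ?_⟩
      rw [TensorProduct.smul_tmul]
      congr 1
    | add a b ha hb =>
      obtain ⟨r, rfl⟩ := ha
      obtain ⟨s, rfl⟩ := hb
      exact ⟨r + s, (add_tmul _ _ _).symm⟩
  rw [injective_iff_map_eq_zero]
  intro x hx
  obtain ⟨r', rfl⟩ := hform x
  have h2 : algebraMap R R' f ^ n * r' = 0 := by
    have := congrArg (TensorProduct.rid R R') hx
    simpa [e, Algebra.smul_def] using this
  obtain ⟨r, rfl, hr⟩ := glue_exists_torsion_lift h h2
  rw [Algebra.algebraMap_eq_smul_one, TensorProduct.smul_tmul]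
  have : r • e = 0 := Subtype.ext (by simpa [e, mul_comm] using hr)
  rw [this, tmul_zero]

/-- `Tor_1(R', R/(f^n)) = 0`. -/
lemma glue_isZero_tor_one_quotient (h : EtGlue.IsGlueingPair R R' f) (n : ℕ) :
    IsZero (((Tor (ModuleCat.{u} R) 1).obj (ModuleCat.of R R')).obj
      (ModuleCat.of R (R ⧸ Ideal.span ({f ^ n} : Set R)))) := by
  let g : R →ₗ[R] (R ⧸ Ideal.span ({f ^ n} : Set R)) :=
    Submodule.mkQ (Ideal.span ({f ^ n} : Set R))
  have hg : Function.Surjective g := Submodule.mkQ_surjective _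
  have hS := LinearMap.shortExact_shortComplexKer hg
  have hP : CategoryTheory.Projective g.shortComplexKer.X₂ :=
    inferInstanceAs (CategoryTheory.Projective (ModuleCat.of R R))
  refine (isZero_tor_one_iff_injective hS (ModuleCat.of R R')).2 ?_
  have hk : LinearMap.ker g = (Ideal.span ({f ^ n} : Set R) : Submodule R R) :=
    Submodule.ker_mkQ _
  change Function.Injective (LinearMap.lTensor R' (LinearMap.ker g).subtype)
  rw [hk]
  exact glue_lTensor_span_pow_injective h n

lemma glue_flat_quotient (h : EtGlue.IsGlueingPair R R' f) {n : ℕ} (hn : 0 < n) :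
    Module.Flat (R ⧸ Ideal.span ({f ^ n} : Set R))
      ((R ⧸ Ideal.span ({f ^ n} : Set R)) ⊗[R] R') := by
  set I : Ideal R := Ideal.span ({f ^ n} : Set R) with hI
  have hq : ∀ k : ℕ, 0 < k → Function.Bijective
      (Ideal.quotientMap (Ideal.map (algebraMap R R') (Ideal.span ({f} : Set R) ^ k))
        (algebraMap R R') Ideal.le_comap_map) := by
    intro k hk
    have := h.1 k hk
    rw [Ideal.span_singleton_pow]
    exact this
  have hM : LocCoh.IsPowerTorsion (Ideal.span ({f} : Set R)) (R ⧸ I) := by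
    intro m
    refine ⟨n, fun a ha => ?_⟩
    rw [Ideal.span_singleton_pow] at ha
    obtain ⟨m, rfl⟩ := Ideal.Quotient.mk_surjective m
    change Ideal.Quotient.mk I (a * m) = 0
    exact Ideal.Quotient.eq_zero_iff_mem.2 (I.mul_mem_right _ ha)
  have hbij := Groth.Agent.S7041.result (Ideal.span ({f} : Set R)) hq (R ⧸ I) hM
  let φ : (R ⧸ I) →ₗ[R ⧸ I] (R ⧸ I) ⊗[R] R' :=
    { toFun := fun x => x ⊗ₜ[R] (1 : R')
      map_add' := fun a b => add_tmul a b 1
      map_smul' := fun a x => by
        rw [RingHom.id_apply, TensorProduct.smul_tmul'] }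
  have hφ : Function.Bijective φ := by
    have : (φ : (R ⧸ I) → (R ⧸ I) ⊗[R] R') =
        (TensorProduct.comm R R' (R ⧸ I)) ∘ (fun m : R ⧸ I => (1 : R') ⊗ₜ[R] m) := by
      funext x
      rfl
    rw [this]
    exact (TensorProduct.comm R R' (R ⧸ I)).bijective.comp hbij
  exact Module.Flat.of_linearEquiv (LinearEquiv.ofBijective φ hφ).symm

/-- `Tor_1(R', N) = 0` for `N` killed by `f^n`. -/
lemma glue_isZero_tor_one_of_killed (h : EtGlue.IsGlueingPair R R' f) {n : ℕ} (hn : 0 < n)
    (N : Type u) [AddCommGroup N] [Module R N] (hN : ∀ x : N, f ^ n • x = 0) :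
    IsZero (((Tor (ModuleCat.{u} R) 1).obj (ModuleCat.of R R')).obj (ModuleCat.of R N)) := by
  haveI := glue_flat_quotient h hn
  have h1 := Groth.Agent.S12205.result R (Ideal.span ({f ^ n} : Set R)) R'
    (isZero_tor_flip (glue_isZero_tor_one_quotient h n)) N 1 (fun a ha x => by
      rw [pow_one] at ha
      obtain ⟨b, rfl⟩ := Ideal.mem_span_singleton'.1 ha
      rw [mul_smul, hN, smul_zero])
  exact isZero_tor_flip h1

lemma glue_lTensor_ker_injective (h : EtGlue.IsGlueingPair R R' f) {P T : Type u}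
    [AddCommGroup P] [Module R P] [AddCommGroup T] [Module R T] (π : P →ₗ[R] T)
    (hT : ∀ t : T, ∃ n : ℕ, f ^ n • t = 0) :
    Function.Injective (LinearMap.lTensor R' (LinearMap.ker π).subtype) := by
  classical
  set K := LinearMap.ker π with hKdef
  rw [LinearMap.lTensor_inj_iff_rTensor_inj, injective_iff_map_eq_zero]
  intro x hx
  obtain ⟨K₀, fg, hle, y, rfl⟩ := Submodule.exists_fg_le_eq_rTensor_inclusion x
  have h0 : LinearMap.rTensor R' K₀.subtype y = LinearMap.rTensor R' K₀.subtype 0 := by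
    rw [map_zero, ← hx, ← LinearMap.comp_apply, ← LinearMap.rTensor_comp]
    rfl
  obtain ⟨P₀, fgP, hle2, hy⟩ := fg.exists_rTensor_fg_inclusion_eq h0
  rw [map_zero] at hy
  have hk : ∀ p : P, ∃ n : ℕ, f ^ n • p ∈ K := fun p => by
    obtain ⟨n, hn⟩ := hT (π p)
    exact ⟨n, by rw [hKdef, LinearMap.mem_ker, map_smul, hn]⟩
  choose k hk using hk
  obtain ⟨S, hS⟩ := fgP
  set n := S.sup k + 1 with hndef
  have hn : ∀ p ∈ P₀, f ^ n • p ∈ K := by
    intro p hp
    rw [← hS] at hp
    induction hp using Submodule.span_induction with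
    | mem s hs =>
      have hle' : k s ≤ n := (Finset.le_sup (f := k) hs).trans (Nat.le_succ _)
      have e : f ^ n = f ^ (n - k s) * f ^ (k s) := by
        rw [← pow_add, Nat.sub_add_cancel hle']
      rw [e, mul_smul]
      exact K.smul_mem _ (hk s)
    | zero => simp
    | add a b _ _ ha hb =>
      rw [smul_add]
      exact K.add_mem ha hb
    | smul c a _ ha =>
      rw [smul_comm]
      exact K.smul_mem _ ha
  let K₁ : Submodule R P := K ⊔ P₀
  let ι : ↥K →ₗ[R] ↥K₁ := Submodule.inclusion (le_sup_left : K ≤ K ⊔ P₀)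
  have hι : Function.Injective ι := Submodule.inclusion_injective _
  have hkill : ∀ c : ↥K₁ ⧸ LinearMap.range ι, f ^ n • c = 0 := by
    intro c
    obtain ⟨⟨b, hb⟩, rfl⟩ := Submodule.mkQ_surjective _ c
    rw [← map_smul, Submodule.mkQ_apply, Submodule.Quotient.mk_eq_zero]
    obtain ⟨a, ha, p, hp, rfl⟩ := Submodule.mem_sup.1 hb
    refine ⟨⟨f ^ n • (a + p), ?_⟩, rfl⟩
    rw [smul_add]
    exact K.add_mem (K.smul_mem _ ha) (hn p hp)
  have hz := glue_isZero_tor_one_of_killed h (Nat.succ_pos (S.sup k))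
    (↥K₁ ⧸ LinearMap.range ι) hkill
  have hinj := lTensor_injective_of_isZero_tor_one R' ι hι hz
  rw [LinearMap.lTensor_inj_iff_rTensor_inj] at hinj
  apply hinj
  rw [map_zero, ← LinearMap.comp_apply, ← LinearMap.rTensor_comp]
  have e : ι ∘ₗ Submodule.inclusion hle =
      Submodule.inclusion (le_sup_right : P₀ ≤ K ⊔ P₀) ∘ₗ Submodule.inclusion hle2 := rfl
  rw [e, LinearMap.rTensor_comp, LinearMap.comp_apply, hy, map_zero]

/-- `Tor_1(R', T) = 0` for every `f`-power torsion module `T`. -/
theorem glue_isZero_tor_one_of_powerTorsion (h : EtGlue.IsGlueingPair R R' f)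
    (T : Type u) [AddCommGroup T] [Module R T] (hT : ∀ t : T, ∃ n : ℕ, f ^ n • t = 0) :
    IsZero (((Tor (ModuleCat.{u} R) 1).obj (ModuleCat.of R R')).obj (ModuleCat.of R T)) := by
  let π : (T →₀ R) →ₗ[R] T := Finsupp.linearCombination R id
  have hπ : Function.Surjective π := fun x => ⟨Finsupp.single x 1, by simp [π]⟩
  have hS := LinearMap.shortExact_shortComplexKer hπ
  have hP : CategoryTheory.Projective π.shortComplexKer.X₂ :=
    inferInstanceAs (CategoryTheory.Projective (ModuleCat.of R (T →₀ R)))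
  refine (isZero_tor_one_iff_injective hS (ModuleCat.of R R')).2 ?_
  exact glue_lTensor_ker_injective h π hT

end

end Groth.Agent.H9
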