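import Groth.Prelude.Def_DualLC
import Mathlib.RingTheory.Length
import Mathlib.RingTheory.Ideal.Quotient.Basic

set_option autoImplicit false
universe u

namespace Groth.Agent.H9

variable {A : Type u} [CommRing A] {r : ℕ}

lemma sum_mul_update (a f : Fin r → A) (j : Fin r) (v : A) :
    ∑ i, a i * Function.update f j v i = ∑ i, a i * f i + a j * (v - f j) := by
  classical
  have : ∀ i, a i * Function.update f j v i = a i * f i + (if i = j then a j * (v - f j) else 0) := by
    intro i
    by_cases h : i = j
    · subst h; simp only [Function.update_self, if_true]; ring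
    · simp [h]
  simp_rw [this, Finset.sum_add_distrib, Finset.sum_ite_eq' Finset.univ j, Finset.mem_univ, if_true]

lemma sum_update_mul (a f : Fin r → A) (j : Fin r) (v : A) :
    ∑ i, Function.update a j v i * f i = ∑ i, a i * f i + (v - a j) * f j := by
  have := sum_mul_update f a j v
  simp_rw [mul_comm (f _)] at this
  rw [this]

lemma span_update_mul_le (f : Fin r → A) (j : Fin r) (g : A) :
    Ideal.span (Set.range (Function.update f j (f j * g))) ≤ Ideal.span (Set.range f) := by
  classical
  rw [Ideal.span_le]
  rintro _ ⟨i, rfl⟩
  by_cases h : i = j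
  · subst h
    simp only [Function.update_self]
    exact Ideal.mul_mem_right _ _ (Ideal.subset_span ⟨_, rfl⟩)
  · rw [Function.update_of_ne h]
    exact Ideal.subset_span ⟨_, rfl⟩

lemma span_update_mul_le' (f : Fin r → A) (j : Fin r) (g : A) :
    Ideal.span (Set.range (Function.update f j (f j * g))) ≤
      Ideal.span (Set.range (Function.update f j g)) := by
  classical
  rw [Ideal.span_le]
  rintro _ ⟨i, rfl⟩
  by_cases h : i = j
  · subst h
    simp only [Function.update_self]
    exact Ideal.mul_mem_left _ _ (Ideal.subset_span ⟨i, by simp⟩)
  · rw [Function.update_of_ne h]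
    exact Ideal.subset_span ⟨i, by simp [Function.update_of_ne h]⟩

/-- relation on `f` gives (after multiplying by `g`) a relation on the updated family -/
lemma indep_update_key (f : Fin r → A) (j : Fin r) (g : A)
    (h : Dual2.Independent (Function.update f j (f j * g)))
    (d : Fin r → A) (hd : ∑ i, d i * f i = 0) :
    d j ∈ Ideal.span (Set.range (Function.update f j (f j * g))) := by
  have := h (Function.update (fun i => d i * g) j (d j)) ?_ j
  · simpa using this
  · rw [sum_update_mul, sum_mul_update]
    have : ∑ i, d i * g * f i = g * ∑ i, d i * f i := by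
      rw [Finset.mul_sum]; exact Finset.sum_congr rfl fun _ _ => by ring
    rw [this, hd]
    simp only [Function.update_self]
    ring

theorem independent_of_update_mul (f : Fin r → A) (j : Fin r) (g : A)
    (h : Dual2.Independent (Function.update f j (f j * g))) : Dual2.Independent f := by
  classical
  intro a ha
  have h1 := indep_update_key f j g h a ha
  obtain ⟨c, hc⟩ := (Ideal.mem_span_range_iff_exists_fun).1 h1
  rw [sum_mul_update] at hc
  have h2 := h (Function.update (fun i => a i + c i * f j) j (c j * f j)) ?_
  · intro i
    by_cases hi : i = j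
    · subst hi; exact span_update_mul_le f i g h1
    · have := span_update_mul_le f j g (h2 i)
      rw [Function.update_of_ne hi] at this
      have h3 : c i * f j ∈ Ideal.span (Set.range f) :=
        Ideal.mul_mem_left _ _ (Ideal.subset_span ⟨_, rfl⟩)
      simpa using sub_mem this h3
  · rw [sum_update_mul, sum_mul_update]
    simp only [Function.update_self]
    have : ∑ x : Fin r, (a x + c x * f j) * f x
        = ∑ x : Fin r, a x * f x + f j * ∑ x : Fin r, c x * f x := by
      rw [Finset.mul_sum, ← Finset.sum_add_distrib]
      exact Finset.sum_congr rfl fun _ _ => by ring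
    rw [this]
    linear_combination ha + f j * hc

theorem independent_update_of_update_mul (f : Fin r → A) (j : Fin r) (g : A)
    (h : Dual2.Independent (Function.update f j (f j * g))) :
    Dual2.Independent (Function.update f j g) := by
  apply independent_of_update_mul (Function.update f j g) j (f j)
  simpa [mul_comm g] using h

lemma mem_of_mul_mem (f : Fin r → A) (j : Fin r) (g : A)
    (h : Dual2.Independent (Function.update f j (f j * g))) (a : A)
    (ha : a * f j ∈ Ideal.span (Set.range (Function.update f j (f j * g)))) :
    a ∈ Ideal.span (Set.range (Function.update f j g)) := by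
  classical
  obtain ⟨c, hc⟩ := (Ideal.mem_span_range_iff_exists_fun).1 ha
  rw [sum_mul_update] at hc
  have h1 := indep_update_key f j g h (Function.update c j (c j * g - a)) ?_
  · simp only [Function.update_self] at h1
    have h2 := span_update_mul_le' f j g h1
    have h3 : c j * g ∈ Ideal.span (Set.range (Function.update f j g)) :=
      Ideal.mul_mem_left _ _ (Ideal.subset_span ⟨j, by simp⟩)
    simpa using sub_mem h3 h2
  · rw [sum_update_mul]
    linear_combination hc

theorem length_quotient_update_mul (f : Fin r → A) (j : Fin r) (g : A)
    (h : Dual2.Independent (Function.update f j (f j * g))) :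
    Module.length A (A ⧸ Ideal.span (Set.range (Function.update f j (f j * g)))) =
      Module.length A (A ⧸ Ideal.span (Set.range f)) +
        Module.length A (A ⧸ Ideal.span (Set.range (Function.update f j g))) := by
  classical
  set J' := Ideal.span (Set.range (Function.update f j (f j * g))) with hJ'
  set J := Ideal.span (Set.range f) with hJ
  set J'' := Ideal.span (Set.range (Function.update f j g)) with hJ''
  have hle : J'' ≤ Submodule.comap (LinearMap.mulLeft A (f j)) J' := by
    rw [hJ'', Ideal.span, Submodule.span_le]
    rintro _ ⟨i, rfl⟩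
    simp only [Submodule.comap_coe, Set.mem_preimage, LinearMap.mulLeft_apply, SetLike.mem_coe]
    by_cases hi : i = j
    · subst hi
      simp only [Function.update_self]
      exact Ideal.subset_span ⟨i, by simp⟩
    · rw [Function.update_of_ne hi]
      exact Ideal.mul_mem_left _ _ (Ideal.subset_span ⟨i, by simp [Function.update_of_ne hi]⟩)
  let φ : (A ⧸ J'') →ₗ[A] (A ⧸ J') := Submodule.mapQ J'' J' (LinearMap.mulLeft A (f j)) hle
  let ψ : (A ⧸ J') →ₗ[A] (A ⧸ J) := Submodule.mapQ J' J LinearMap.id
    (by simpa using span_update_mul_le f j g)
  have hφ : Function.Injective φ := by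
    rw [← LinearMap.ker_eq_bot, LinearMap.ker_eq_bot']
    intro y hy
    obtain ⟨a, rfl⟩ := Submodule.Quotient.mk_surjective _ y
    simp only [φ, Submodule.mapQ_apply, LinearMap.mulLeft_apply] at hy
    rw [Submodule.Quotient.mk_eq_zero] at hy ⊢
    rw [mul_comm] at hy
    exact mem_of_mul_mem f j g h a hy
  have hψ : Function.Surjective ψ := by
    intro y
    obtain ⟨a, rfl⟩ := Submodule.Quotient.mk_surjective _ y
    exact ⟨Submodule.Quotient.mk a, by simp [ψ]⟩
  have hex : Function.Exact φ ψ := by
    intro y
    obtain ⟨a, rfl⟩ := Submodule.Quotient.mk_surjective _ y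
    simp only [ψ, Submodule.mapQ_apply, LinearMap.id_apply, Submodule.Quotient.mk_eq_zero]
    constructor
    · intro ha
      obtain ⟨c, hc⟩ := (Ideal.mem_span_range_iff_exists_fun).1 ha
      refine ⟨Submodule.Quotient.mk (c j * (1 - g)), ?_⟩
      simp only [φ, Submodule.mapQ_apply, LinearMap.mulLeft_apply]
      rw [Submodule.Quotient.eq]
      have : f j * (c j * (1 - g)) - a = - ∑ i, c i * Function.update f j (f j * g) i := by
        rw [sum_mul_update, hc]; ring
      rw [this]
      exact neg_mem (Ideal.sum_mem _ fun i _ => Ideal.mul_mem_left _ _ (Ideal.subset_span ⟨i, rfl⟩))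
    · rintro ⟨z, hz⟩
      obtain ⟨b, rfl⟩ := Submodule.Quotient.mk_surjective _ z
      simp only [φ, Submodule.mapQ_apply, LinearMap.mulLeft_apply] at hz
      rw [Submodule.Quotient.eq] at hz
      have h1 : f j * b ∈ J := Ideal.mul_mem_right _ _ (Ideal.subset_span ⟨j, rfl⟩)
      have h2 := span_update_mul_le f j g hz
      have := sub_mem h1 h2
      simpa using this
  rw [Module.length_eq_add_of_exact φ ψ hφ hψ hex, add_comm]

end Groth.Agent.H9
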