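import Groth.Agent.H35.InjAmp
import Groth.Agent.H2.InjSplit
import Groth.Agent.H2.MatlisBaseChange
import Mathlib.Algebra.Homology.DerivedCategory.SingleTriangle

/-!
# Injective amplitude `[0, 1]` from a two-step injective resolution

If `0 → N → Q₀ → Q₁ → 0` is a short exact sequence of modules with `Q₀`, `Q₁` injective, then
`N[0]` has injective amplitude in `[0, 1]` (in the sense of `DRing.HasInjAmplitudeIn`).
-/

set_option autoImplicit false
universe u

open CategoryTheory CategoryTheory.Limits Pretriangulated DerivedCategory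

attribute [local instance] HasDerivedCategory.standard

namespace Groth.Agent.H9.InjAmpSES

variable {R : Type u} [CommRing R]

lemma subsingleton_hom_of_iso {C : Type*} [Category C] {X Y Y' : C} (e : Y ≅ Y')
    (h : Subsingleton (X ⟶ Y)) : Subsingleton (X ⟶ Y') :=
  ⟨fun a b => by
    have := h.elim (a ≫ e.inv) (b ≫ e.inv)
    exact (cancel_mono e.inv).mp this⟩

/-- `Ext^j(P, Q) = 0` for `j ≠ 0` and `Q` an injective module. -/
theorem subsingleton_hom_single_injective (Qm : ModuleCat.{u} R) (hQ : Module.Injective R Qm)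
    (P : ModuleCat.{u} R) (j : ℤ) (hj : j ≠ 0) :
    Subsingleton ((singleFunctor (ModuleCat.{u} R) 0).obj P ⟶
      ((singleFunctor (ModuleCat.{u} R) 0).obj Qm)⟦j⟧) := by
  let J : DRing.Cx R := (HomologicalComplex.single (ModuleCat.{u} R) (ComplexShape.up ℤ) 0).obj Qm
  have hJ : DRing.VanishesOutside J 0 0 := by
    intro i hi
    apply HomologicalComplex.isZero_single_obj_X
    omega
  have hinj : ∀ i : ℤ, Module.Injective R (J.X i) := by
    intro i
    by_cases hi : i = 0
    · subst hi
      let e : J.X 0 ≅ Qm := HomologicalComplex.singleObjXSelf (ComplexShape.up ℤ) 0 Qm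
      exact Groth.Agent.H2.MatlisBaseChange.injective_of_linearEquiv e.toLinearEquiv.symm hQ
    · have hz : IsZero (J.X i) := HomologicalComplex.isZero_single_obj_X _ _ _ _ hi
      have : Subsingleton (J.X i) := ModuleCat.subsingleton_of_isZero hz
      exact Groth.Agent.H2.InjSplit.injective_of_subsingleton (R := R) (J.X i)
  have h1 := Groth.Agent.H35.subsingleton_hom_shift_of_injective_amplitude J 0 0 hJ hinj P j
    (by omega)
  let e0 : (singleFunctor (ModuleCat.{u} R) 0).obj Qm ≅ DerivedCategory.Q.obj J :=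
    (singleFunctorIsoCompQ (ModuleCat.{u} R) 0).app Qm
  exact subsingleton_hom_of_iso ((shiftFunctor (DerivedCategory (ModuleCat.{u} R)) j).mapIso e0).symm h1

/-- A module with a two-step injective resolution has injective amplitude in `[0, 1]`. -/
theorem hasInjAmplitudeIn_of_shortExact (S : ShortComplex (ModuleCat.{u} R)) (hS : S.ShortExact)
    (h2 : Module.Injective R S.X₂) (h3 : Module.Injective R S.X₃) :
    DRing.HasInjAmplitudeIn R 0 1 ((singleFunctor (ModuleCat.{u} R) 0).obj S.X₁) := by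
  apply Groth.Agent.H35.hasInjAmplitudeIn_of_ext_vanishing
  intro I i hi
  set X := (singleFunctor (ModuleCat.{u} R) 0).obj (ModuleCat.of R (R ⧸ I)) with hX
  have hi0 : i ≠ 0 := by omega
  have hi1 : i - 1 ≠ 0 := by omega
  let T := (CategoryTheory.shiftFunctor (Triangle (DerivedCategory (ModuleCat.{u} R))) (i - 1)).obj
    hS.singleTriangle
  have hT : T ∈ distTriang _ := Triangle.shift_distinguished _ hS.singleTriangle_distinguished _
  let e : ((singleFunctor (ModuleCat.{u} R) 0).obj S.X₁)⟦i⟧ ≅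
      (((singleFunctor (ModuleCat.{u} R) 0).obj S.X₁)⟦i - 1⟧)⟦(1 : ℤ)⟧ :=
    (shiftFunctorAdd' (DerivedCategory (ModuleCat.{u} R)) (i - 1) 1 i (by omega)).app _
  let e2 : ((singleFunctor (ModuleCat.{u} R) 0).obj S.X₂)⟦i⟧ ≅
      (((singleFunctor (ModuleCat.{u} R) 0).obj S.X₂)⟦i - 1⟧)⟦(1 : ℤ)⟧ :=
    (shiftFunctorAdd' (DerivedCategory (ModuleCat.{u} R)) (i - 1) 1 i (by omega)).app _
  have hsub2 : Subsingleton (X ⟶ T.obj₂⟦(1 : ℤ)⟧) :=
    subsingleton_hom_of_iso e2
      (subsingleton_hom_single_injective S.X₂ h2 (ModuleCat.of R (R ⧸ I)) i hi0)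
  have hsub3 : Subsingleton (X ⟶ T.obj₃) :=
    subsingleton_hom_single_injective S.X₃ h3 (ModuleCat.of R (R ⧸ I)) (i - 1) hi1
  refine ⟨fun a b => ?_⟩
  have key : ∀ f : X ⟶ ((singleFunctor (ModuleCat.{u} R) 0).obj S.X₁)⟦i⟧, f = 0 := by
    intro f
    obtain ⟨g, hg⟩ := Triangle.coyoneda_exact₁ T hT (f ≫ e.hom) (hsub2.elim _ _)
    have hg0 : g = 0 := hsub3.elim _ _
    rw [hg0, zero_comp] at hg
    exact (cancel_mono e.hom).mp (hg.trans zero_comp.symm)
  rw [key a, key b]

end Groth.Agent.H9.InjAmpSES
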