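import Mathlib.CategoryTheory.Abelian.GrothendieckAxioms.Basic
import Mathlib.CategoryTheory.Limits.Preserves.Shapes.Kernels
import Mathlib.CategoryTheory.Limits.FunctorCategory.Basic

/-! A functor which is pointwise the kernel (resp. cokernel) of a natural transformation between
functors preserving colimits of shape `J` preserves colimits of shape `J`, provided `J`-colimits
are exact in the target (no assumption for cokernels). -/

open CategoryTheory Limits

namespace Groth.Agent.H9

universe v u v' u' w w'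

variable {C : Type u} [Category.{v} C] [Abelian C] {𝒮 : Type u'} [Category.{v'} 𝒮]
  {J : Type w} [Category.{w'} J] [HasColimitsOfShape J C]

variable {F₁ F₂ F₃ : 𝒮 ⥤ C} (α : F₁ ⟶ F₂) (β : F₂ ⟶ F₃) (w : α ≫ β = 0)

include w in
lemma app_comp_app_eq_zero (S : 𝒮) : α.app S ≫ β.app S = 0 := by
  rw [← NatTrans.comp_app, w]; rfl

theorem preservesColimitsOfShape_of_isLimit_kernelFork [HasExactColimitsOfShape J C]
    (h : ∀ S : 𝒮, IsLimit (KernelFork.ofι (α.app S) (app_comp_app_eq_zero α β w S)))
    [PreservesColimitsOfShape J F₂] [PreservesColimitsOfShape J F₃] :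
    PreservesColimitsOfShape J F₁ := by
  constructor
  intro K
  constructor
  intro c hc
  have w' : Functor.whiskerLeft K α ≫ Functor.whiskerLeft K β = 0 := by
    ext j
    exact app_comp_app_eq_zero α β w (K.obj j)
  have hfun : IsLimit (KernelFork.ofι (Functor.whiskerLeft K α) w') := by
    apply evaluationJointlyReflectsLimits
    intro j
    refine (KernelFork.isLimitMapConeEquiv _ _).symm ?_
    exact h (K.obj j)
  have hcol := isLimitForkMapOfIsLimit' (colim : (J ⥤ C) ⥤ C) w' hfun
  let i₂ : colimit (K ⋙ F₂) ≅ F₂.obj c.pt :=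
    (colimit.isColimit _).coconePointUniqueUpToIso (isColimitOfPreserves F₂ hc)
  let i₃ : colimit (K ⋙ F₃) ≅ F₃.obj c.pt :=
    (colimit.isColimit _).coconePointUniqueUpToIso (isColimitOfPreserves F₃ hc)
  have sq : colim.map (Functor.whiskerLeft K β) ≫ i₃.hom = i₂.hom ≫ β.app c.pt := by
    apply colimit.hom_ext
    intro j
    simp [i₂, i₃]
  let e : colimit (K ⋙ F₁) ≅ F₁.obj c.pt :=
    IsLimit.conePointsIsoOfNatIso hcol (h c.pt) (parallelPair.ext i₂ i₃ sq (by simp))
  have he : e.hom ≫ α.app c.pt = colim.map (Functor.whiskerLeft K α) ≫ i₂.hom :=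
    IsLimit.conePointsIsoOfNatIso_hom_comp hcol (h c.pt) _ WalkingParallelPair.zero
  have hd : colimit.desc (K ⋙ F₁) (F₁.mapCocone c) ≫ α.app c.pt =
      colim.map (Functor.whiskerLeft K α) ≫ i₂.hom := by
    apply colimit.hom_ext
    intro j
    simp [i₂]
  have hmono : Mono (α.app c.pt) := mono_of_isLimit_fork (h c.pt)
  have hde : colimit.desc (K ⋙ F₁) (F₁.mapCocone c) = e.hom := by
    rw [← cancel_mono (α.app c.pt), hd, he]
  have : IsIso ((colimit.isColimit (K ⋙ F₁)).desc (F₁.mapCocone c)) := by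
    change IsIso (colimit.desc (K ⋙ F₁) (F₁.mapCocone c))
    rw [hde]
    infer_instance
  exact ⟨IsColimit.ofPointIso (colimit.isColimit (K ⋙ F₁))⟩

theorem preservesColimitsOfShape_of_isColimit_cokernelCofork
    (h : ∀ S : 𝒮, IsColimit (CokernelCofork.ofπ (β.app S) (app_comp_app_eq_zero α β w S)))
    [PreservesColimitsOfShape J F₁] [PreservesColimitsOfShape J F₂] :
    PreservesColimitsOfShape J F₃ := by
  constructor
  intro K
  constructor
  intro c hc
  have w' : Functor.whiskerLeft K α ≫ Functor.whiskerLeft K β = 0 := by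
    ext j
    exact app_comp_app_eq_zero α β w (K.obj j)
  have hfun : IsColimit (CokernelCofork.ofπ (Functor.whiskerLeft K β) w') := by
    apply evaluationJointlyReflectsColimits
    intro j
    refine (CokernelCofork.isColimitMapCoconeEquiv _ _).symm ?_
    exact h (K.obj j)
  have hcol := isColimitCoforkMapOfIsColimit' (colim : (J ⥤ C) ⥤ C) w' hfun
  let i₁ : colimit (K ⋙ F₁) ≅ F₁.obj c.pt :=
    (colimit.isColimit _).coconePointUniqueUpToIso (isColimitOfPreserves F₁ hc)
  let i₂ : colimit (K ⋙ F₂) ≅ F₂.obj c.pt :=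
    (colimit.isColimit _).coconePointUniqueUpToIso (isColimitOfPreserves F₂ hc)
  have sq : colim.map (Functor.whiskerLeft K α) ≫ i₂.hom = i₁.hom ≫ α.app c.pt := by
    apply colimit.hom_ext
    intro j
    simp [i₁, i₂]
  let e : colimit (K ⋙ F₃) ≅ F₃.obj c.pt :=
    IsColimit.coconePointsIsoOfNatIso hcol (h c.pt) (parallelPair.ext i₁ i₂ sq (by simp))
  have he : colim.map (Functor.whiskerLeft K β) ≫ e.hom = i₂.hom ≫ β.app c.pt :=
    IsColimit.comp_coconePointsIsoOfNatIso_hom hcol (h c.pt) _ WalkingParallelPair.one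
  have hd : colim.map (Functor.whiskerLeft K β) ≫ colimit.desc (K ⋙ F₃) (F₃.mapCocone c) =
      i₂.hom ≫ β.app c.pt := by
    apply colimit.hom_ext
    intro j
    simp [i₂]
  have hepi : Epi (colim.map (Functor.whiskerLeft K β)) := epi_of_isColimit_cofork hcol
  have hde : colimit.desc (K ⋙ F₃) (F₃.mapCocone c) = e.hom := by
    rw [← cancel_epi (colim.map (Functor.whiskerLeft K β)), hd, he]
  have : IsIso ((colimit.isColimit (K ⋙ F₃)).desc (F₃.mapCocone c)) := by
    change IsIso (colimit.desc (K ⋙ F₃) (F₃.mapCocone c))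
    rw [hde]
    infer_instance
  exact ⟨IsColimit.ofPointIso (colimit.isColimit (K ⋙ F₃))⟩

end Groth.Agent.H9
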