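import Groth.Agent.H9.FactorFree
import Groth.Agent.H58.LCBasic

/-!
# Annihilators of local cohomology of locally projective modules

If `J^n` kills `H^i_I(A)` (with `J ≤ I`, `A` Noetherian) and `M` is a finite module with `M_f`
projective over `A_f` for all `f ∈ I`, then some power of `J` kills `H^i_I(M)`.
-/

set_option autoImplicit false
universe u

open CategoryTheory

namespace Groth.Agent.H9.LCAnnih

theorem exists_pow_annihilates (A : Type u) [CommRing A] [IsNoetherianRing A] (J I : Ideal A)
    (hJI : J ≤ I) (i n : ℕ)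
    (hA : ∀ a ∈ J ^ n, ∀ x : (localCohomology I i).obj (ModuleCat.of A A), a • x = 0)
    (M : Type u) [AddCommGroup M] [Module A M] [Module.Finite A M]
    (hM : ∀ f ∈ I, Module.Projective (Localization.Away f)
      (LocalizedModule (Submonoid.powers f) M)) :
    ∃ m : ℕ, ∀ a ∈ J ^ m, ∀ x : (localCohomology I i).obj (ModuleCat.of A M), a • x = 0 := by
  classical
  have hfp : Module.FinitePresentation A M := Module.finitePresentation_of_finite A M
  let F := localCohomology I i
  let Mm : ModuleCat.{u} A := ModuleCat.of A M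
  -- finite sums of maps
  have hsum : ∀ {X Y : ModuleCat.{u} A} {ι : Type} (s : Finset ι) (g : ι → (X ⟶ Y))
      (x : F.obj X), (F.map (∑ j ∈ s, g j)).hom x = ∑ j ∈ s, (F.map (g j)).hom x := by
    intro X Y ι s g x
    induction s using Finset.induction_on with
    | empty =>
      rw [Finset.sum_empty, Finset.sum_empty]
      exact Groth.Agent.H58.LC.map_zero' I i x
    | insert j s hj ih =>
      rw [Finset.sum_insert hj, Finset.sum_insert hj, Groth.Agent.H58.LC.map_add', ih]
  -- Step A: `J^n` kills the local cohomology of finite free modules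
  have hA' : ∀ (r : ℕ), ∀ a ∈ J ^ n, ∀ y : F.obj (ModuleCat.of A (Fin r → A)), a • y = 0 := by
    intro r a ha y
    let X : ModuleCat.{u} A := ModuleCat.of A (Fin r → A)
    let Am : ModuleCat.{u} A := ModuleCat.of A A
    let π : Fin r → (X ⟶ Am) := fun j => ModuleCat.ofHom (LinearMap.proj j)
    let ι : Fin r → (Am ⟶ X) := fun j => ModuleCat.ofHom (LinearMap.single A (fun _ => A) j)
    have hid : 𝟙 X = ∑ j ∈ (Finset.univ : Finset (Fin r)), π j ≫ ι j := by
      apply ModuleCat.hom_ext
      apply LinearMap.ext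
      intro v
      rw [ModuleCat.hom_sum, LinearMap.sum_apply]
      change v = ∑ j : Fin r, (LinearMap.single A (fun _ => A) j)
        ((LinearMap.proj j : (Fin r → A) →ₗ[A] A) v)
      funext k
      simp [Finset.sum_apply, Pi.single_apply]
    have hy : y = ∑ j ∈ (Finset.univ : Finset (Fin r)), (F.map (ι j)).hom ((F.map (π j)).hom y) := by
      have h1 : (F.map (𝟙 X)).hom y = y := by
        rw [CategoryTheory.Functor.map_id]
        rfl
      calc y = (F.map (𝟙 X)).hom y := h1.symm
        _ = (F.map (∑ j ∈ (Finset.univ : Finset (Fin r)), π j ≫ ι j)).hom y := by rw [← hid]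
        _ = ∑ j ∈ (Finset.univ : Finset (Fin r)), (F.map (π j ≫ ι j)).hom y := hsum _ _ _
        _ = _ := by
          refine Finset.sum_congr rfl fun j _ => ?_
          rw [CategoryTheory.Functor.map_comp]
          rfl
    rw [hy, Finset.smul_sum]
    refine Finset.sum_eq_zero fun j _ => ?_
    rw [← map_smul, hA a ha, map_zero]
  -- Step B
  have hB : ∀ f ∈ I, ∃ k : ℕ, ∀ a ∈ J ^ n, ∀ x : F.obj Mm, (f ^ k * a) • x = 0 := by
    intro f hf
    obtain ⟨r, k, α, β, hβα⟩ := Groth.Agent.H9.FactorFree.exists_factor_pow (M := M) f (hM f hf)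
    refine ⟨k, fun a ha x => ?_⟩
    have h1 : (f ^ k) • 𝟙 Mm = ModuleCat.ofHom α ≫ ModuleCat.ofHom β := by
      apply ModuleCat.hom_ext
      apply LinearMap.ext
      intro v
      have := LinearMap.congr_fun hβα v
      simp only [LinearMap.comp_apply, LinearMap.smul_apply, LinearMap.id_apply] at this
      simp only [ModuleCat.hom_comp, ModuleCat.hom_ofHom, LinearMap.comp_apply, ModuleCat.hom_smul,
        ModuleCat.hom_id, LinearMap.smul_apply, LinearMap.id_apply]
      exact this.symm
    have h2 : (f ^ k) • x = (F.map (ModuleCat.ofHom β)).hom ((F.map (ModuleCat.ofHom α)).hom x) := by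
      have h3 := Groth.Agent.H58.LC.map_smul' I i (f ^ k) (𝟙 Mm) x
      rw [CategoryTheory.Functor.map_id] at h3
      have h4 : (f ^ k) • x = (F.map ((f ^ k) • 𝟙 Mm)).hom x := h3.symm
      rw [h4, h1, CategoryTheory.Functor.map_comp]
      rfl
    rw [mul_comm, mul_smul, h2, ← map_smul, hA' r a ha, map_zero]
  -- Step C
  let 𝔠 : Ideal A := Module.annihilator A (F.obj Mm)
  let 𝔟 : Ideal A := Submodule.colon 𝔠 ((J ^ n : Ideal A) : Set A)
  have hrad : I ≤ 𝔟.radical := by
    intro f hf
    obtain ⟨k, hk⟩ := hB f hf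
    refine ⟨k, ?_⟩
    rw [Submodule.mem_colon]
    intro a ha
    rw [Module.mem_annihilator]
    intro x
    rw [smul_eq_mul]
    exact hk a ha x
  obtain ⟨N, hN⟩ := Ideal.exists_pow_le_of_le_radical_of_fg hrad
    ((isNoetherianRing_iff_ideal_fg A).mp inferInstance I)
  refine ⟨N + n, fun c hc x => ?_⟩
  have hle : J ^ N * J ^ n ≤ 𝔠 := by
    rw [Ideal.mul_le]
    intro b hb a ha
    have hb' : b ∈ 𝔟 := hN (Ideal.pow_right_mono hJI N hb)
    rw [Submodule.mem_colon] at hb'
    exact hb' a ha
  rw [pow_add] at hc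
  exact Module.mem_annihilator.mp (hle hc) x


end Groth.Agent.H9.LCAnnih
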