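import Groth.Agent.H9.FunctorialResolution
import Groth.Agent.H9.HomologyFilteredColimits

/-! If an abelian category `C` has a functor `Fr : C ⥤ C` with projective values, a natural
epimorphism `Fr ⟶ 𝟭 C`, and `Fr` preserves colimits of an exact shape `J`, then the left derived
functors of an additive functor preserving `J`-colimits preserve `J`-colimits. -/

open CategoryTheory Limits

namespace Groth.Agent.H9.FunctorialResolution

universe v u v' u' w w'

variable {C : Type u} [Category.{v} C] [Abelian C] (Fr : C ⥤ C) (ε : Fr ⟶ 𝟭 C)
  {J : Type w} [Category.{w'} J] [HasColimitsOfShape J C] [HasExactColimitsOfShape J C]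
  [PreservesColimitsOfShape J Fr]

include Fr ε in
theorem preservesColimitsOfShape_kerFunctor : PreservesColimitsOfShape J (kerFunctor Fr ε) :=
  preservesColimitsOfShape_of_isLimit_kernelFork (kerι Fr ε) ε (kerι_comp Fr ε)
    (fun N => kernelIsKernel (ε.app N))

theorem preservesColimitsOfShape_kerPow (n : ℕ) :
    PreservesColimitsOfShape J (kerPow Fr ε n) := by
  induction n with
  | zero => exact inferInstanceAs (PreservesColimitsOfShape J (𝟭 C))
  | succ n ih =>
    have := preservesColimitsOfShape_kerFunctor Fr ε (J := J)
    exact inferInstanceAs (PreservesColimitsOfShape J (kerPow Fr ε n ⋙ kerFunctor Fr ε))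

theorem preservesColimitsOfShape_resFunctor :
    PreservesColimitsOfShape J (resFunctor Fr ε) := by
  apply HomologicalComplex.preservesColimitsOfShape_of_eval
  intro n
  have := preservesColimitsOfShape_kerPow Fr ε (J := J) n
  exact preservesColimitsOfShape_of_natIso
    (NatIso.ofComponents (fun N => Iso.refl _) (fun {N N'} f => by
      change Fr.map ((kerPow Fr ε n).map f) ≫ 𝟙 _ = 𝟙 _ ≫ Fr.map ((kerPow Fr ε n).map f)
      rw [Category.comp_id, Category.id_comp]) :
      kerPow Fr ε n ⋙ Fr ≅ resFunctor Fr ε ⋙ HomologicalComplex.eval _ _ n)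

variable {D : Type u'} [Category.{v'} D] [Abelian D]

omit [HasExactColimitsOfShape J C] in
theorem preservesColimitsOfShape_mapHomologicalComplex {ι : Type*} (c : ComplexShape ι)
    [HasColimitsOfShape J D]
    (F : C ⥤ D) [F.Additive] [PreservesColimitsOfShape J F] :
    PreservesColimitsOfShape J (F.mapHomologicalComplex c) := by
  apply HomologicalComplex.preservesColimitsOfShape_of_eval
  intro i
  exact preservesColimitsOfShape_of_natIso
    (NatIso.ofComponents (fun K => Iso.refl _) (fun {K L} φ => by
      change F.map (φ.f i) ≫ 𝟙 _ = 𝟙 _ ≫ F.map (φ.f i)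
      rw [Category.comp_id, Category.id_comp]) :
      HomologicalComplex.eval C c i ⋙ F ≅ F.mapHomologicalComplex c ⋙
        HomologicalComplex.eval D c i)

variable [∀ N, Epi (ε.app N)] [∀ N, Projective (Fr.obj N)] [HasProjectiveResolutions C]
  [HasColimitsOfShape J D] [HasExactColimitsOfShape J D]

include Fr ε in
theorem preservesColimitsOfShape_leftDerived (F : C ⥤ D) [F.Additive]
    [PreservesColimitsOfShape J F] (n : ℕ) :
    PreservesColimitsOfShape J (F.leftDerived n) := by
  have h1 := preservesColimitsOfShape_resFunctor Fr ε (J := J)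
  have h2 := preservesColimitsOfShape_mapHomologicalComplex (J := J) (ComplexShape.down ℕ) F
  have h3 : PreservesColimitsOfShape J
      (HomologicalComplex.homologyFunctor D (ComplexShape.down ℕ) n) :=
    Groth.Agent.H9.preservesColimitsOfShape_homologyFunctor _ n
  exact preservesColimitsOfShape_of_natIso (leftDerivedIso Fr ε F n).symm

end Groth.Agent.H9.FunctorialResolution
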