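import Mathlib.Algebra.Polynomial.Module.AEval
import Mathlib.Algebra.Module.Injective
import Mathlib.RingTheory.TensorProduct.Basic

/-!
# A two-step coinduced resolution over a polynomial ring

For an `A[X]`-module `N`, the module `Q` of sequences in `N` (with `X` acting by the left shift,
a model of `Hom_A(A[X], N)`) sits in a short exact sequence `0 → N → Q → Q → 0` of
`A[X]`-modules, and `Q` is injective over `A[X]` as soon as `N` is injective over `A`.
-/

set_option autoImplicit false
universe u

open Polynomial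

namespace Groth.Agent.H9.PolyInjRes

noncomputable section

variable {A : Type u} [CommRing A]

/-- An `A`-linear map between `A[X]`-modules commuting with `X` is `A[X]`-linear. -/
lemma map_smul_of_map_X_smul {Y Z : Type*} [AddCommGroup Y] [AddCommGroup Z] [Module A Y]
    [Module A[X] Y] [IsScalarTower A A[X] Y] [Module A Z] [Module A[X] Z] [IsScalarTower A A[X] Z]
    (f : Y →ₗ[A] Z) (hf : ∀ y, f ((X : A[X]) • y) = (X : A[X]) • f y) (p : A[X]) (y : Y) :
    f (p • y) = p • f y := by
  have hpow : ∀ (n : ℕ) (y : Y), f ((X : A[X]) ^ n • y) = (X : A[X]) ^ n • f y := by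
    intro n
    induction n with
    | zero => intro y; simp
    | succ n ih =>
      intro y
      rw [pow_succ, mul_smul, ih, hf, ← mul_smul]
  induction p using Polynomial.induction_on' with
  | add p q hp hq => rw [add_smul, map_add, hp, hq, add_smul]
  | monomial n a =>
    rw [← C_mul_X_pow_eq_monomial, mul_smul, mul_smul, C_eq_algebraMap, algebraMap_smul,
      algebraMap_smul, map_smul, hpow]

variable (A) (N : Type u) [AddCommGroup N] [Module A N] [Module A[X] N] [IsScalarTower A A[X] N]

/-- the left shift on sequences. -/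
def shift : (ℕ → N) →ₗ[A] (ℕ → N) where
  toFun s i := s (i + 1)
  map_add' _ _ := rfl
  map_smul' _ _ := rfl

/-- sequences in `N` with `X` acting by the shift. -/
abbrev Q : Type u := Module.AEval' (shift A N)

/-- the sequence `(X^i n)_i`. -/
def ι₀ : N →ₗ[A] (ℕ → N) where
  toFun n i := (X : A[X]) ^ i • n
  map_add' n n' := by
    funext i
    simp [smul_add]
  map_smul' a n := by
    funext i
    simp only [Pi.smul_apply, RingHom.id_apply]
    rw [smul_comm]

lemma ι₀_X_smul (n : N) : ι₀ A N ((X : A[X]) • n) = shift A N (ι₀ A N n) := by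
  funext i
  change (X : A[X]) ^ i • (X : A[X]) • n = (X : A[X]) ^ (i + 1) • n
  rw [pow_succ, mul_smul]

/-- `N → Q`, `n ↦ (X^i n)_i`. -/
def ι : N →ₗ[A[X]] Q A N where
  toFun n := Module.AEval'.of (shift A N) (ι₀ A N n)
  map_add' n n' := by rw [map_add, map_add]
  map_smul' p n := by
    rw [RingHom.id_apply]
    exact map_smul_of_map_X_smul
      ((Module.AEval'.of (shift A N)).toLinearMap ∘ₗ ι₀ A N) (fun y => by
        rw [LinearMap.comp_apply, LinearMap.comp_apply, ι₀_X_smul, LinearEquiv.coe_coe,
          Module.AEval'.X_smul_of]) p n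

/-- the map `(s_i) ↦ (X s_i - s_{i+1})` on sequences. -/
def ψ₀ : (ℕ → N) →ₗ[A] (ℕ → N) where
  toFun s i := (X : A[X]) • s i - s (i + 1)
  map_add' s t := by
    funext i
    simp only [Pi.add_apply, smul_add]
    abel
  map_smul' a s := by
    funext i
    simp only [Pi.smul_apply, RingHom.id_apply, smul_sub]
    rw [smul_comm]

lemma ψ₀_shift (s : ℕ → N) : ψ₀ A N (shift A N s) = shift A N (ψ₀ A N s) := rfl

/-- `Q → Q`, `(s_i) ↦ (X s_i - s_{i+1})`. -/
def ψ : Q A N →ₗ[A[X]] Q A N :=
  LinearMap.ofAEval (shift A N) ((Module.AEval'.of (shift A N)).toLinearMap ∘ₗ ψ₀ A N)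
    (fun s => by
      rw [LinearMap.comp_apply, LinearMap.comp_apply, LinearEquiv.coe_coe,
        Module.AEval'.X_smul_of]
      rfl)

lemma ψ_of (s : ℕ → N) :
    ψ A N (Module.AEval'.of (shift A N) s) = Module.AEval'.of (shift A N) (ψ₀ A N s) := by
  simp [ψ, LinearMap.ofAEval]

lemma ι_injective : Function.Injective (ι A N) := by
  intro n n' h
  have h1 : ι₀ A N n = ι₀ A N n' := (Module.AEval'.of (shift A N)).injective h
  have h2 := congrFun h1 0
  simpa [ι₀] using h2

lemma ψ_ι (n : N) : ψ A N (ι A N n) = 0 := by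
  change ψ A N (Module.AEval'.of (shift A N) (ι₀ A N n)) = 0
  rw [ψ_of]
  have : ψ₀ A N (ι₀ A N n) = 0 := by
    funext i
    change (X : A[X]) • ((X : A[X]) ^ i • n) - (X : A[X]) ^ (i + 1) • n = 0
    rw [pow_succ', mul_smul, sub_self]
  rw [this, map_zero]

lemma exists_of_ψ_eq_zero (q : Q A N) (hq : ψ A N q = 0) : ∃ n : N, ι A N n = q := by
  obtain ⟨s, rfl⟩ := (Module.AEval'.of (shift A N)).surjective q
  rw [ψ_of] at hq
  have h0 : ψ₀ A N s = 0 := (Module.AEval'.of (shift A N)).injective (by rw [hq, map_zero])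
  have hrec : ∀ i, s (i + 1) = (X : A[X]) • s i := by
    intro i
    have := congrFun h0 i
    change (X : A[X]) • s i - s (i + 1) = 0 at this
    exact (sub_eq_zero.mp this).symm
  have hs : ∀ i, s i = (X : A[X]) ^ i • s 0 := by
    intro i
    induction i with
    | zero => simp
    | succ i ih => rw [hrec, ih, pow_succ', mul_smul]
  refine ⟨s 0, ?_⟩
  change Module.AEval'.of (shift A N) (ι₀ A N (s 0)) = _
  congr 1
  funext i
  exact (hs i).symm

lemma ψ_surjective : Function.Surjective (ψ A N) := by
  intro q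
  obtain ⟨t, rfl⟩ := (Module.AEval'.of (shift A N)).surjective q
  let s : ℕ → N := fun i => Nat.rec (0 : N) (fun j sj => (X : A[X]) • sj - t j) i
  refine ⟨Module.AEval'.of (shift A N) s, ?_⟩
  rw [ψ_of]
  congr 1
  funext i
  change (X : A[X]) • s i - s (i + 1) = t i
  change (X : A[X]) • s i - ((X : A[X]) • s i - t i) = t i
  abel

omit [Module A[X] N] [IsScalarTower A A[X] N] in
lemma of_symm_X_pow_smul (q : Q A N) (i : ℕ) :
    (Module.AEval'.of (shift A N)).symm ((X : A[X]) ^ i • q) 0 =
      (Module.AEval'.of (shift A N)).symm q i := by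
  obtain ⟨s, rfl⟩ := (Module.AEval'.of (shift A N)).surjective q
  rw [Module.AEval'.X_pow_smul_of, LinearEquiv.symm_apply_apply, LinearEquiv.symm_apply_apply]
  have : ∀ (k j : ℕ), (((shift A N) ^ k) s) j = s (j + k) := by
    intro k
    induction k with
    | zero => intro j; simp
    | succ k ih =>
      intro j
      rw [pow_succ', Module.End.mul_apply]
      change ((shift A N ^ k) s) (j + 1) = _
      rw [ih]
      congr 1
      omega
  change (((shift A N) ^ i) s) 0 = s i
  rw [this, zero_add]

omit [Module A[X] N] [IsScalarTower A A[X] N] in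
/-- `Q` is injective over `A[X]` when `N` is injective over `A`. -/
theorem injective_Q [hN : Module.Injective A N] : Module.Injective A[X] (Q A N) := by
  refine ⟨fun X' Y' _ _ _ _ f hf g => ?_⟩
  let _ : Module A X' := Module.compHom X' (algebraMap A A[X])
  let _ : Module A Y' := Module.compHom Y' (algebraMap A A[X])
  have : IsScalarTower A A[X] X' := IsScalarTower.of_algebraMap_smul fun _ _ => rfl
  have : IsScalarTower A A[X] Y' := IsScalarTower.of_algebraMap_smul fun _ _ => rfl
  let ev0 : (ℕ → N) →ₗ[A] N := LinearMap.proj 0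
  let g₀ : X' →ₗ[A] N :=
    ev0 ∘ₗ (Module.AEval'.of (shift A N)).symm.toLinearMap ∘ₗ (g.restrictScalars A)
  obtain ⟨h₀, hh₀⟩ := Module.Injective.out (f.restrictScalars A) hf g₀
  let hseq : Y' →ₗ[A] (ℕ → N) :=
    { toFun := fun y i => h₀ ((X : A[X]) ^ i • y)
      map_add' := fun y y' => by
        funext i
        simp [smul_add]
      map_smul' := fun a y => by
        funext i
        simp only [Pi.smul_apply, RingHom.id_apply]
        rw [smul_comm, map_smul] }
  have hX : ∀ y : Y', ((Module.AEval'.of (shift A N)).toLinearMap ∘ₗ hseq) ((X : A[X]) • y) =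
      (X : A[X]) • ((Module.AEval'.of (shift A N)).toLinearMap ∘ₗ hseq) y := by
    intro y
    rw [LinearMap.comp_apply, LinearMap.comp_apply, LinearEquiv.coe_coe,
      Module.AEval'.X_smul_of]
    congr 1
    funext i
    change h₀ ((X : A[X]) ^ i • (X : A[X]) • y) = h₀ ((X : A[X]) ^ (i + 1) • y)
    rw [pow_succ, mul_smul]
  let h : Y' →ₗ[A[X]] Q A N :=
    { toFun := fun y => Module.AEval'.of (shift A N) (hseq y)
      map_add' := fun y y' => by rw [map_add, map_add]
      map_smul' := fun p y => by
        rw [RingHom.id_apply]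
        exact map_smul_of_map_X_smul
          ((Module.AEval'.of (shift A N)).toLinearMap ∘ₗ hseq) hX p y }
  refine ⟨h, fun x => ?_⟩
  change Module.AEval'.of (shift A N) (hseq (f x)) = g x
  apply (Module.AEval'.of (shift A N)).symm.injective
  rw [LinearEquiv.symm_apply_apply]
  funext i
  change h₀ ((X : A[X]) ^ i • f x) = _
  rw [← map_smul]
  have := hh₀ ((X : A[X]) ^ i • x)
  change h₀ (f ((X : A[X]) ^ i • x)) = g₀ ((X : A[X]) ^ i • x) at this
  rw [this]
  change (Module.AEval'.of (shift A N)).symm (g ((X : A[X]) ^ i • x)) 0 = _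
  rw [map_smul, of_symm_X_pow_smul]

end

end Groth.Agent.H9.PolyInjRes
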