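import Groth.Prelude.Def_Wider
import Mathlib.Algebra.Homology.ShortComplex.ModuleCat
import Mathlib.CategoryTheory.Abelian.Projective.Resolution

/-! Resolution of an `I`-power-torsion module by direct sums of modules `R/I^n`. -/

set_option autoImplicit false
universe u

namespace Groth.Agent.H9.PowTorsRes

open CategoryTheory CategoryTheory.Limits

variable {R : Type u} [CommRing R] (I : Ideal R)

/-- the index type: pairs `(y, n)` with `I^n y = 0`. -/
def Idx (Y : Type u) [AddCommGroup Y] [Module R Y] : Type u :=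
  {x : Y × ℕ // ∀ a ∈ I ^ x.2, a • x.1 = 0}

/-- the covering module. -/
abbrev GT (Y : Type u) [AddCommGroup Y] [Module R Y] : Type u :=
  DirectSum (Idx I Y) fun j => R ⧸ I ^ j.1.2

/-- the canonical map `⊕ R/I^n → Y`. -/
noncomputable def pLin (Y : Type u) [AddCommGroup Y] [Module R Y] : GT I Y →ₗ[R] Y :=
  letI := Classical.decEq (Idx I Y)
  DirectSum.toModule R (Idx I Y) Y (fun j =>
    Submodule.liftQ (I ^ j.1.2) (LinearMap.toSpanSingleton R Y j.1.1) (by
      intro a ha
      rw [LinearMap.mem_ker, LinearMap.toSpanSingleton_apply]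
      exact j.2 a ha))

lemma pLin_surjective (Y : Type u) [AddCommGroup Y] [Module R Y]
    (hY : LocCoh.IsPowerTorsion I Y) : Function.Surjective (pLin I Y) := by
  let _ := Classical.decEq (Idx I Y)
  intro y
  obtain ⟨n, hn⟩ := hY y
  let j : Idx I Y := ⟨(y, n), hn⟩
  refine ⟨DirectSum.lof R (Idx I Y) (fun j => R ⧸ I ^ j.1.2) j (Submodule.Quotient.mk 1), ?_⟩
  rw [pLin, DirectSum.toModule_lof, Submodule.liftQ_apply, LinearMap.toSpanSingleton_apply,
    one_smul]

lemma isPowerTorsion_GT (Y : Type u) [AddCommGroup Y] [Module R Y] :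
    LocCoh.IsPowerTorsion I (GT I Y) := by
  let _ := Classical.decEq (Idx I Y)
  intro z
  induction z using DirectSum.induction_on with
  | zero => exact ⟨0, fun a _ => smul_zero a⟩
  | of j x =>
    refine ⟨j.1.2, fun a ha => ?_⟩
    obtain ⟨r, rfl⟩ := Submodule.Quotient.mk_surjective _ x
    have h0 : a • (Submodule.Quotient.mk r : R ⧸ I ^ j.1.2) = 0 := by
      rw [← Submodule.Quotient.mk_smul, Submodule.Quotient.mk_eq_zero]
      exact Ideal.mul_mem_right _ _ ha
    have := (DirectSum.lof R (Idx I Y) (fun j => R ⧸ I ^ j.1.2) j).map_smul a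
      (Submodule.Quotient.mk r)
    rw [h0, map_zero] at this
    exact this.symm
  | add z₁ z₂ h₁ h₂ =>
    obtain ⟨n₁, hn₁⟩ := h₁
    obtain ⟨n₂, hn₂⟩ := h₂
    refine ⟨max n₁ n₂, fun a ha => ?_⟩
    rw [smul_add, hn₁ a (Ideal.pow_le_pow_right (le_max_left _ _) ha),
      hn₂ a (Ideal.pow_le_pow_right (le_max_right _ _) ha), add_zero]

lemma isPowerTorsion_submodule {Y : Type u} [AddCommGroup Y] [Module R Y]
    (hY : LocCoh.IsPowerTorsion I Y) (N : Submodule R Y) : LocCoh.IsPowerTorsion I N := by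
  intro x
  obtain ⟨n, hn⟩ := hY x.1
  exact ⟨n, fun a ha => Subtype.ext (by simpa using hn a ha)⟩

/-- power-torsion modules. -/
structure PT where
  Y : ModuleCat.{u} R
  h : LocCoh.IsPowerTorsion I Y

/-- the next syzygy. -/
noncomputable def next (T : PT I) : PT I :=
  ⟨ModuleCat.of R (LinearMap.ker (pLin I T.Y)),
    isPowerTorsion_submodule I (isPowerTorsion_GT I T.Y) _⟩

/-- the sequence of syzygies. -/
noncomputable def seq (T : PT I) : ℕ → PT I
  | 0 => T
  | n + 1 => next I (seq T n)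

/-- the terms. -/
noncomputable def X (T : PT I) (n : ℕ) : ModuleCat.{u} R := ModuleCat.of R (GT I (seq I T n).Y)

/-- the differentials. -/
noncomputable def d (T : PT I) (n : ℕ) : X I T (n + 1) ⟶ X I T n :=
  ModuleCat.ofHom ((LinearMap.ker (pLin I (seq I T n).Y)).subtype ∘ₗ
    pLin I (LinearMap.ker (pLin I (seq I T n).Y)))

lemma d_apply (T : PT I) (n : ℕ) (x : X I T (n + 1)) :
    (d I T n).hom x = ((pLin I (LinearMap.ker (pLin I (seq I T n).Y))) x).1 := rfl

lemma pLin_d (T : PT I) (n : ℕ) (x : X I T (n + 1)) :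
    pLin I (seq I T n).Y ((d I T n).hom x) = 0 :=
  ((pLin I (LinearMap.ker (pLin I (seq I T n).Y))) x).2

lemma d_comp_d (T : PT I) (n : ℕ) : d I T (n + 1) ≫ d I T n = 0 := by
  ext x
  change (d I T n).hom ((d I T (n + 1)).hom x) = 0
  rw [d_apply I T n]
  have := pLin_d I T (n + 1) x
  change pLin I (LinearMap.ker (pLin I (seq I T n).Y)) ((d I T (n + 1)).hom x) = 0 at this
  rw [this]
  rfl

/-- the complex. -/
noncomputable def K (T : PT I) : ChainComplex (ModuleCat.{u} R) ℕ :=
  ChainComplex.of (X I T) (d I T) (d_comp_d I T)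

lemma exact_d (T : PT I) (n : ℕ) :
    (ShortComplex.mk (d I T (n + 1)) (d I T n) (d_comp_d I T n)).Exact := by
  rw [ShortComplex.moduleCat_exact_iff]
  intro x hx
  change (d I T n).hom x = 0 at hx
  rw [d_apply] at hx
  have hx' : pLin I (LinearMap.ker (pLin I (seq I T n).Y)) x = 0 := Subtype.ext hx
  -- `x` lies in the next syzygy
  let x' : LinearMap.ker (pLin I (LinearMap.ker (pLin I (seq I T n).Y))) := ⟨x, hx'⟩
  obtain ⟨y, hy⟩ := pLin_surjective I _ (seq I T (n + 2)).h x'
  exact ⟨y, (d_apply I T (n + 1) y).trans (congrArg Subtype.val hy)⟩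

lemma exactAt_succ (T : PT I) (n : ℕ) : (K I T).ExactAt (n + 1) := by
  rw [HomologicalComplex.exactAt_iff' _ (n + 1 + 1) (n + 1) n (by simp) (by simp)]
  have e1 : (K I T).d (n + 1 + 1) (n + 1) = d I T (n + 1) :=
    ChainComplex.of_d (X I T) (d I T) (n + 1)
  have e2 : (K I T).d (n + 1) n = d I T n :=
    ChainComplex.of_d (X I T) (d I T) n
  have e : (K I T).sc' (n + 1 + 1) (n + 1) n ≅
      ShortComplex.mk (d I T (n + 1)) (d I T n) (d_comp_d I T n) :=
    ShortComplex.isoMk (Iso.refl _) (Iso.refl _) (Iso.refl _)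
      ((Category.id_comp _).trans (e1.symm.trans (Category.comp_id _).symm))
      ((Category.id_comp _).trans (e2.symm.trans (Category.comp_id _).symm))
  exact (ShortComplex.exact_iff_of_iso e).2 (exact_d I T n)

/-- the augmentation. -/
noncomputable def p0 (T : PT I) : X I T 0 ⟶ T.Y := ModuleCat.ofHom (pLin I T.Y)

lemma d_p0 (T : PT I) : d I T 0 ≫ p0 I T = 0 := by
  ext x
  exact pLin_d I T 0 x

lemma exact_p0 (T : PT I) : (ShortComplex.mk (d I T 0) (p0 I T) (d_p0 I T)).Exact := by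
  rw [ShortComplex.moduleCat_exact_iff]
  intro x hx
  change pLin I T.Y x = 0 at hx
  let x' : LinearMap.ker (pLin I T.Y) := ⟨x, hx⟩
  obtain ⟨y, hy⟩ := pLin_surjective I _ (seq I T 1).h x'
  exact ⟨y, (d_apply I T 0 y).trans (congrArg Subtype.val hy)⟩

lemma epi_p0 (T : PT I) : Epi (p0 I T) :=
  (ModuleCat.epi_iff_surjective _).2 (pLin_surjective I _ T.h)

/-- the augmentation as a chain map. -/
noncomputable def π (T : PT I) : K I T ⟶ (ChainComplex.single₀ (ModuleCat.{u} R)).obj T.Y :=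
  (ChainComplex.toSingle₀Equiv _ _).symm ⟨p0 I T, by
    have : (K I T).d 1 0 = d I T 0 := ChainComplex.of_d (X I T) (d I T) 0
    rw [this]
    exact d_p0 I T⟩

lemma π_f_zero (T : PT I) : (π I T).f 0 = p0 I T :=
  ChainComplex.toSingle₀Equiv_symm_apply_f_zero _ _

instance quasiIso_π (T : PT I) : QuasiIso (π I T) := ⟨fun n => by
  cases n with
  | zero =>
    rw [ChainComplex.quasiIsoAt₀_iff, ShortComplex.quasiIso_iff_of_zeros']
    · have hf : (π I T).f 0 = p0 I T := π_f_zero I T
      have hd : (K I T).d 1 0 = d I T 0 := ChainComplex.of_d (X I T) (d I T) 0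
      have e : ShortComplex.mk ((K I T).d 1 0) ((π I T).f 0) (by rw [hf, hd]; exact d_p0 I T) ≅
          ShortComplex.mk (d I T 0) (p0 I T) (d_p0 I T) :=
        ShortComplex.isoMk (Iso.refl _) (Iso.refl _) (Iso.refl _)
          ((Category.id_comp _).trans (hd.symm.trans (Category.comp_id _).symm))
          ((Category.id_comp _).trans (hf.symm.trans (Category.comp_id _).symm))
      exact (ShortComplex.exact_and_epi_g_iff_of_iso e).2 ⟨exact_p0 I T, epi_p0 I T⟩
    all_goals rfl
  | succ n =>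
    rw [quasiIsoAt_iff_exactAt']
    · exact exactAt_succ I T n
    · exact ChainComplex.exactAt_succ_single_obj _ _⟩

/-- the resolution theorem. -/
theorem exists_resolution (M : Type u) [AddCommGroup M] [Module R M]
    (hM : LocCoh.IsPowerTorsion I M) :
    ∃ (K : ChainComplex (ModuleCat.{u} R) ℕ)
      (π : K ⟶ (ChainComplex.single₀ (ModuleCat.{u} R)).obj (ModuleCat.of R M)),
      QuasiIso π ∧ ∀ i : ℕ, ∃ (ι : Type u) (n : ι → ℕ),
        Nonempty (K.X i ≅ ModuleCat.of R (DirectSum ι fun j => R ⧸ I ^ n j)) :=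
  ⟨K I ⟨ModuleCat.of R M, hM⟩, π I ⟨ModuleCat.of R M, hM⟩, inferInstance, fun i =>
    ⟨Idx I (seq I ⟨ModuleCat.of R M, hM⟩ i).Y, fun j => j.1.2, ⟨Iso.refl _⟩⟩⟩

end Groth.Agent.H9.PowTorsRes
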