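import Groth.Agent.H9.Depth
import Mathlib.RingTheory.Localization.Module
import Mathlib.Topology.Inseparable
import Mathlib.RingTheory.Spectrum.Prime.Topology

set_option autoImplicit false
universe u

namespace Groth.Agent.H9

variable {A : Type u} [CommRing A] (T : Set (PrimeSpectrum A))
  (M : Type u) [AddCommGroup M] [Module A M]

/-- The submodule of elements of `M` whose support lies in `T`
(the elements killed, at every prime outside `T`, by something outside that prime). -/
def suppIn : Submodule A M where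
  carrier := {m | ∀ q : PrimeSpectrum A, q ∉ T → ∃ s : A, s ∉ q.asIdeal ∧ s • m = 0}
  zero_mem' := fun q _ => ⟨1, q.isPrime.one_notMem, by simp⟩
  add_mem' := by
    intro a b ha hb q hq
    obtain ⟨s, hs, hsa⟩ := ha q hq
    obtain ⟨t, ht, htb⟩ := hb q hq
    refine ⟨s * t, fun h => (q.isPrime.mem_or_mem h).elim hs ht, ?_⟩
    rw [smul_add, mul_smul s t b, htb, smul_zero, mul_comm, mul_smul t s a, hsa, smul_zero, add_zero]
  smul_mem' := by
    intro c a ha q hq
    obtain ⟨s, hs, hsa⟩ := ha q hq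
    exact ⟨s, hs, by rw [smul_comm, hsa, smul_zero]⟩

variable {T M}

lemma mem_suppIn_iff (m : M) :
    m ∈ suppIn T M ↔ ∀ q : PrimeSpectrum A, q ∉ T → ∃ s : A, s ∉ q.asIdeal ∧ s • m = 0 := Iff.rfl

/-- `M / suppIn T M` has no nonzero elements supported in `T`. -/
lemma mem_suppIn_of_mkQ (m : M)
    (h : ∀ q : PrimeSpectrum A, q ∉ T → ∃ s : A, s ∉ q.asIdeal ∧ s • (suppIn T M).mkQ m = 0) :
    m ∈ suppIn T M := by
  intro q hq
  obtain ⟨s, hs, hsm⟩ := h q hq
  rw [← map_smul, Submodule.mkQ_apply, Submodule.Quotient.mk_eq_zero] at hsm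
  obtain ⟨u, hu, hum⟩ := hsm q hq
  exact ⟨u * s, fun h => (q.isPrime.mem_or_mem h).elim hu hs, by rw [mul_smul, hum]⟩

lemma notMem_associatedPrimes_quotient_suppIn [IsNoetherianRing A]
    (hT : StableUnderSpecialization T) (p : PrimeSpectrum A) (hp : p ∈ T) :
    p.asIdeal ∉ associatedPrimes A (M ⧸ suppIn T M) := by
  intro hass
  rw [AssociatedPrimes.mem_iff, isAssociatedPrime_iff] at hass
  obtain ⟨hprime, x, hx⟩ := hass
  obtain ⟨m, rfl⟩ := Submodule.mkQ_surjective _ x
  have hm : m ∈ suppIn T M := by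
    apply mem_suppIn_of_mkQ
    intro q hq
    have hnle : ¬ p.asIdeal ≤ q.asIdeal := by
      intro hle
      exact hq (hT ((PrimeSpectrum.le_iff_specializes p q).1 hle) hp)
    obtain ⟨s, hsp, hsq⟩ := Set.not_subset.1 hnle
    refine ⟨s, hsq, ?_⟩
    have : s ∈ (⊥ : Submodule A (M ⧸ suppIn T M)).colon {(suppIn T M).mkQ m} := by
      rw [← hx]; exact hsp
    simpa [Submodule.mem_colon_singleton] using this
  have h0 : (suppIn T M).mkQ m = 0 := by
    rw [Submodule.mkQ_apply, Submodule.Quotient.mk_eq_zero]; exact hm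
  apply hprime.ne_top
  rw [hx, h0]
  ext r
  simp [Submodule.mem_colon_singleton]

lemma localizedModule_map_mkQ_suppIn_bijective (p : PrimeSpectrum A) (hp : p ∉ T) :
    Function.Bijective (LocalizedModule.map p.asIdeal.primeCompl (suppIn T M).mkQ) := by
  refine ⟨?_, LocalizedModule.map_surjective _ _ (Submodule.mkQ_surjective _)⟩
  rw [injective_iff_map_eq_zero]
  intro x hx
  induction x using LocalizedModule.induction_on with
  | h m s =>
    rw [LocalizedModule.map_mk, ← LocalizedModule.zero_mk 1, LocalizedModule.mk_eq] at hx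
    obtain ⟨u, hu⟩ := hx
    simp only [one_smul, smul_zero] at hu
    have hu' : (u : A) • m ∈ suppIn T M := by
      rw [← Submodule.Quotient.mk_eq_zero, Submodule.Quotient.mk_smul]
      exact hu
    obtain ⟨v, hv, hvm⟩ := hu' p hp
    rw [← LocalizedModule.zero_mk 1, LocalizedModule.mk_eq]
    refine ⟨⟨v, hv⟩ * u, ?_⟩
    simp only [one_smul, smul_zero]
    rw [mul_smul]
    exact hvm

end Groth.Agent.H9
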