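import Groth.Agent.H9.TorBaseChange

/-! If `Tor_1^R(Q, M) = 0` for every `R'`-module `Q`, then `R' ⊗_R M` is `R'`-flat.
Also `Tor_1^R(R/I, M) = 0` iff `I ⊗ M → M` is injective. -/

universe u

open CategoryTheory CategoryTheory.Limits TensorProduct

namespace Groth.Agent.H9

variable {R R' : Type u} [CommRing R] [CommRing R'] [Algebra R R']

theorem rTensor_injective_of_isZero_tor_one {A B C M : Type u} [AddCommGroup A] [Module R A]
    [AddCommGroup B] [Module R B] [AddCommGroup C] [Module R C] [AddCommGroup M] [Module R M]
    (ι : A →ₗ[R] B) (π : B →ₗ[R] C) (hι : Function.Injective ι) (hex : Function.Exact ι π)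
    (hπ : Function.Surjective π)
    (h : IsZero (((Tor (ModuleCat.{u} R) 1).obj (ModuleCat.of R C)).obj (ModuleCat.of R M))) :
    Function.Injective (LinearMap.rTensor M ι) := by
  rw [← LinearMap.lTensor_inj_iff_rTensor_inj]
  exact lTensor_injective_of_exact_of_isZero_tor_one M ι π hι hex hπ (isZero_tor_flip h)

theorem flat_baseChange_of_isZero_tor_one (M : Type u) [AddCommGroup M] [Module R M]
    (h : ∀ (Q : Type u) [AddCommGroup Q] [Module R Q] [Module R' Q] [IsScalarTower R R' Q],
      IsZero (((Tor (ModuleCat.{u} R) 1).obj (ModuleCat.of R Q)).obj (ModuleCat.of R M))) :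
    Module.Flat R' (R' ⊗[R] M) := by
  rw [Module.Flat.iff_rTensor_preserves_injective_linearMap]
  intro A B _ _ _ _ f hf
  let _ : Module R A := Module.compHom A (algebraMap R R')
  let _ : Module R B := Module.compHom B (algebraMap R R')
  have : IsScalarTower R R' A := IsScalarTower.of_algebraMap_smul fun _ _ => rfl
  have : IsScalarTower R R' B := IsScalarTower.of_algebraMap_smul fun _ _ => rfl
  let C := B ⧸ LinearMap.range f
  have h1 : Function.Injective (LinearMap.rTensor M (f.restrictScalars R)) :=
    rTensor_injective_of_isZero_tor_one (f.restrictScalars R)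
      ((LinearMap.range f).mkQ.restrictScalars R) hf
      (by
        have := LinearMap.exact_map_mkQ_range f
        exact this)
      (Submodule.mkQ_surjective _) (h C)
  have hsq : ∀ w : A ⊗[R'] (R' ⊗[R] M),
      TensorProduct.AlgebraTensorModule.cancelBaseChange R R' R' B M (LinearMap.rTensor _ f w) =
        LinearMap.rTensor M (f.restrictScalars R)
          (TensorProduct.AlgebraTensorModule.cancelBaseChange R R' R' A M w) := by
    intro w
    induction w using TensorProduct.induction_on with
    | zero => simp
    | tmul q v =>
      induction v using TensorProduct.induction_on with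
      | zero => simp
      | tmul r k =>
        simp only [LinearMap.rTensor_tmul,
          TensorProduct.AlgebraTensorModule.cancelBaseChange_tmul, LinearMap.coe_restrictScalars,
          map_smul]
      | add a b ha hb =>
        rw [TensorProduct.tmul_add, map_add, map_add, ha, hb, map_add, map_add]
    | add a b ha hb => rw [map_add, map_add, ha, hb, map_add, map_add]
  rw [injective_iff_map_eq_zero]
  intro w hw
  have h2 : LinearMap.rTensor M (f.restrictScalars R)
      (TensorProduct.AlgebraTensorModule.cancelBaseChange R R' R' A M w) = 0 := by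
    rw [← hsq, hw, map_zero]
  have h3 := h1 (by rw [h2, map_zero] :
    LinearMap.rTensor M (f.restrictScalars R)
      (TensorProduct.AlgebraTensorModule.cancelBaseChange R R' R' A M w) =
    LinearMap.rTensor M (f.restrictScalars R) 0)
  exact (TensorProduct.AlgebraTensorModule.cancelBaseChange R R' R' A M).injective
    (by rw [h3, map_zero])

omit [CommRing R'] [Algebra R R'] in
/-- `Tor_1^R(R/I, M) = 0` as soon as `I ⊗ M → M` is injective. -/
theorem isZero_tor_one_quotient_of_rTensor_injective (I : Ideal R) (M : Type u) [AddCommGroup M]
    [Module R M] (htor : Function.Injective ((Submodule.subtype I).rTensor M)) :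
    IsZero (((Tor (ModuleCat.{u} R) 1).obj (ModuleCat.of R (R ⧸ I))).obj (ModuleCat.of R M)) := by
  let S : ShortComplex (ModuleCat.{u} R) :=
    ShortComplex.mk (ModuleCat.ofHom (Submodule.subtype I)) (ModuleCat.ofHom (Submodule.mkQ I))
      (by ext x; simpa using Ideal.Quotient.eq_zero_iff_mem.2 x.2)
  have hS : S.ShortExact :=
    ModuleCat.shortComplex_shortExact S (LinearMap.exact_subtype_mkQ I)
      (Submodule.injective_subtype I) (Submodule.mkQ_surjective I)
  have : CategoryTheory.Projective S.X₂ :=
    (IsProjective.iff_projective (ModuleCat.of R R)).1 (inferInstanceAs (Module.Projective R R))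
  have h1 : IsZero (((Tor (ModuleCat.{u} R) 1).obj (ModuleCat.of R M)).obj S.X₃) := by
    rw [isZero_tor_one_iff_injective hS (ModuleCat.of R M)]
    exact (LinearMap.lTensor_inj_iff_rTensor_inj _ _).2 htor
  exact isZero_tor_flip h1

end Groth.Agent.H9
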