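import Groth.Agent.H9.TorChangeRing

/-! Truncated change of rings for `Tor`: if `Tor_q^A(A', X) = 0` for `1 ≤ q ≤ n` then
`Tor_n^A(Q', X) ≅ Tor_n^{A'}(Q', A' ⊗_A X)` for every `A'`-module `Q'`; consequences for vanishing. -/

set_option autoImplicit false
set_option linter.unusedSectionVars false
universe u

namespace Groth.Agent.H9.TorTrunc

open CategoryTheory CategoryTheory.Limits MonoidalCategory TensorProduct
open Groth.Agent.H9.TorChangeRing

variable {A A' : Type u} [CommRing A] [CommRing A'] [Algebra A A']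
variable (Q' : Type u) [AddCommGroup Q'] [Module A' Q'] [Module A Q'] [IsScalarTower A A' Q']

/-- truncated change of rings for `Tor`. -/
theorem semiIso_tor_trunc : ∀ (n : ℕ) (X : ModuleCat.{u} A),
    (∀ q : ℕ, q < n → IsZero (((Tor (ModuleCat.{u} A) (q + 1)).obj (ModuleCat.of A A')).obj X)) →
    SemiIso (A := A) (A' := A') (((Tor (ModuleCat.{u} A) n).obj (ModuleCat.of A Q')).obj X)
      (((Tor (ModuleCat.{u} A') n).obj (ModuleCat.of A' Q')).obj (bc X)) := by
  intro n
  induction n with
  | zero => intro X _; exact semiIso_zero Q' X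
  | succ n ih =>
    intro X hX
    rcases n with _ | n
    · exact semiIso_one Q' X (hX 0 (by omega))
    · let S := Groth.Agent.H18.projPres X
      have hS : S.ShortExact := Groth.Agent.H18.projPres_shortExact X
      have hinj : Function.Injective (LinearMap.lTensor A' S.f.hom) :=
        (isZero_tor_one_iff_injective hS (ModuleCat.of A A')).1 (hX 0 (by omega))
      have hS' : (bcSC (A' := A') S).ShortExact := bcSC_shortExact hS hinj
      have hproj : Projective (bcSC (A' := A') S).X₂ := projective_bc S.X₂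
      let FA : ModuleCat.{u} A ⥤ ModuleCat.{u} A :=
        (tensoringLeft (ModuleCat.{u} A)).obj (ModuleCat.of A Q')
      let FA' : ModuleCat.{u} A' ⥤ ModuleCat.{u} A' :=
        (tensoringLeft (ModuleCat.{u} A')).obj (ModuleCat.of A' Q')
      obtain ⟨e⟩ := Groth.Agent.H18.leftDerived_shift FA hS n
      obtain ⟨e'⟩ := Groth.Agent.H18.leftDerived_shift FA' hS' n
      have hK : ∀ q : ℕ, q < n + 1 →
          IsZero (((Tor (ModuleCat.{u} A) (q + 1)).obj (ModuleCat.of A A')).obj S.X₁) := by
        intro q hq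
        obtain ⟨e0⟩ := Groth.Agent.H18.leftDerived_shift
          ((tensoringLeft (ModuleCat.{u} A)).obj (ModuleCat.of A A')) hS q
        exact IsZero.of_iso (hX (q + 1) (by omega)) e0.symm
      exact SemiIso.of_left e.toLinearEquiv
        (SemiIso.of_right (ih S.X₁ hK) e'.toLinearEquiv.symm)

/-- `Tor_n^A(Q', X) = 0` for an `A'`-module `Q'`, `n ≥ 1`, when `Tor_q^A(A', X) = 0` for
`1 ≤ q ≤ n` and `A' ⊗ X` is flat over `A'`. -/
theorem isZero_tor_of_flat_bc (n : ℕ) (X : ModuleCat.{u} A)
    (hX : ∀ q : ℕ, q < n + 1 →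
      IsZero (((Tor (ModuleCat.{u} A) (q + 1)).obj (ModuleCat.of A A')).obj X))
    (hflat : Module.Flat A' (A' ⊗[A] X)) :
    IsZero (((Tor (ModuleCat.{u} A) (n + 1)).obj (ModuleCat.of A Q')).obj X) := by
  obtain ⟨φ, hφ⟩ := semiIso_tor_trunc Q' (n + 1) X hX
  have hz : IsZero (((Tor (ModuleCat.{u} A') (n + 1)).obj (ModuleCat.of A' Q')).obj (bc X)) :=
    Groth.Agent.H18.isZero_tor_succ_of_flat_right (ModuleCat.of A' Q') (bc (A' := A') X) n
  have hs := ModuleCat.subsingleton_of_isZero hz
  have : Subsingleton (((Tor (ModuleCat.{u} A) (n + 1)).obj (ModuleCat.of A Q')).obj X) :=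
    hφ.1.subsingleton
  exact ModuleCat.isZero_of_subsingleton _

end Groth.Agent.H9.TorTrunc
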