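import Groth.Agent.H9.UnivFlatLocal
import Mathlib.RingTheory.Artinian.Ring
import Mathlib.RingTheory.Spectrum.Prime.Noetherian
import Mathlib.RingTheory.Spectrum.Prime.Topology
import Mathlib.RingTheory.Flat.Localization
import Mathlib.RingTheory.LocalProperties.Basic
import Mathlib.RingTheory.Localization.BaseChange

/-! The universal flattening ideal of a module over an Artinian ring. -/

universe u

open TensorProduct

namespace Groth.Agent.H9.UnivFlat

variable {A : Type u} [CommRing A] [IsArtinianRing A] (N : Type u) [AddCommGroup N] [Module A N]

/-- the local flattening ideal at a maximal ideal. -/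
theorem exists_local_ideal (p : Ideal A) [p.IsMaximal] :
    ∃ I : Ideal (Localization.AtPrime p), ∀ (C : Type u) [CommRing C] [Algebra A C]
      [Algebra (Localization.AtPrime p) C] [IsScalarTower A (Localization.AtPrime p) C],
      Module.Flat C (C ⊗[A] N) ↔ I.map (algebraMap (Localization.AtPrime p) C) = ⊥ := by
  have hnil : IsNilpotent (IsLocalRing.maximalIdeal (Localization.AtPrime p)) := by
    rw [← IsLocalRing.jacobson_eq_maximalIdeal (⊥ : Ideal (Localization.AtPrime p)) bot_ne_top]
    exact IsArtinianRing.isNilpotent_jacobson_bot
  obtain ⟨I, hI⟩ := exists_flattening_ideal_of_nilpotent_maximal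
    (IsLocalRing.maximalIdeal (Localization.AtPrime p)) hnil (Localization.AtPrime p ⊗[A] N)
  refine ⟨I, fun C _ _ _ _ => ?_⟩
  rw [← hI C]
  let e : C ⊗[Localization.AtPrime p] (Localization.AtPrime p ⊗[A] N) ≃ₗ[C] C ⊗[A] N :=
    TensorProduct.AlgebraTensorModule.cancelBaseChange A (Localization.AtPrime p) C C N
  exact ⟨fun h => Module.Flat.of_linearEquiv e, fun h => Module.Flat.of_linearEquiv e.symm⟩

section setup

variable {A' : Type u} [CommRing A'] [Algebra A A'] (q : Ideal A') [q.IsPrime]

/-- the algebra structure of `A'_q` over `A_p`, `p` the contraction of `q`. -/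
noncomputable def localAlgebra :
    Algebra (Localization.AtPrime (q.comap (algebraMap A A'))) (Localization.AtPrime q) :=
  (Localization.localRingHom (q.comap (algebraMap A A')) q (algebraMap A A') rfl).toAlgebra

lemma localAlgebra_tower :
    letI := localAlgebra (A := A) q
    IsScalarTower A (Localization.AtPrime (q.comap (algebraMap A A'))) (Localization.AtPrime q) := by
  letI := localAlgebra (A := A) q
  refine IsScalarTower.of_algebraMap_eq fun a => ?_
  change _ = Localization.localRingHom (q.comap (algebraMap A A')) q (algebraMap A A') rfl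
    (algebraMap A _ a)
  rw [Localization.localRingHom_to_map, ← IsScalarTower.algebraMap_apply]

end setup

theorem exists_flattening_ideal_artinian :
    ∃ I : Ideal A, ∀ (A' : Type u) [CommRing A'] [Algebra A A'],
      Module.Flat A' (A' ⊗[A] N) ↔ I.map (algebraMap A A') = ⊥ := by
  classical
  choose Ip hIp using fun p : PrimeSpectrum A => exists_local_ideal N p.asIdeal
  let I : Ideal A := ⨅ p : PrimeSpectrum A,
    (Ip p).comap (algebraMap A (Localization.AtPrime p.asIdeal))
  refine ⟨I, fun A' _ _ => ⟨fun hflat => ?_, fun hI => ?_⟩⟩
  · rw [eq_bot_iff, Ideal.map_le_iff_le_comap]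
    intro a ha
    rw [Ideal.mem_comap, Ideal.mem_bot]
    apply eq_zero_of_localization
    intro q hq
    let p : PrimeSpectrum A := ⟨q.comap (algebraMap A A'), inferInstance⟩
    letI := localAlgebra (A := A) q
    haveI := localAlgebra_tower (A := A) q
    have hflatC : Module.Flat (Localization.AtPrime q)
        (Localization.AtPrime q ⊗[A'] (A' ⊗[A] N)) := inferInstance
    have hflatC' : Module.Flat (Localization.AtPrime q) (Localization.AtPrime q ⊗[A] N) :=
      Module.Flat.of_linearEquiv (TensorProduct.AlgebraTensorModule.cancelBaseChange A A'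
        (Localization.AtPrime q) (Localization.AtPrime q) N).symm
    have h1 := (hIp p (Localization.AtPrime q)).mp hflatC'
    have h2 : algebraMap A (Localization.AtPrime p.asIdeal) a ∈ Ip p := by
      have := (Ideal.mem_iInf.mp ha) p
      exact this
    have h3 : algebraMap (Localization.AtPrime p.asIdeal) (Localization.AtPrime q)
        (algebraMap A (Localization.AtPrime p.asIdeal) a) ∈
        (Ip p).map (algebraMap (Localization.AtPrime p.asIdeal) (Localization.AtPrime q)) :=
      Ideal.mem_map_of_mem _ h2
    rw [h1, Ideal.mem_bot, ← IsScalarTower.algebraMap_apply,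
      IsScalarTower.algebraMap_apply A A' (Localization.AtPrime q)] at h3
    exact h3
  · apply Module.flat_of_localized_maximal
    intro q hq
    let p : PrimeSpectrum A := ⟨q.comap (algebraMap A A'), inferInstance⟩
    letI := localAlgebra (A := A) q
    haveI := localAlgebra_tower (A := A) q
    have h1 : (Ip p).map (algebraMap (Localization.AtPrime p.asIdeal) (Localization.AtPrime q))
        = ⊥ := by
      rw [eq_bot_iff, Ideal.map_le_iff_le_comap]
      intro x hx
      rw [Ideal.mem_comap, Ideal.mem_bot]
      obtain ⟨a, ha⟩ := PrimeSpectrum.toPiLocalization_bijective.2 (Pi.single p x)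
      have ha' : ∀ p' : PrimeSpectrum A,
          algebraMap A (Localization.AtPrime p'.asIdeal) a =
            (Pi.single p x : PrimeSpectrum.PiLocalization A) p' :=
        fun p' => congrFun ha p'
      have haI : a ∈ I := by
        refine Ideal.mem_iInf.mpr fun p' => ?_
        rw [Ideal.mem_comap, ha']
        by_cases hpp : p' = p
        · subst hpp
          rw [Pi.single_eq_same]
          exact hx
        · rw [Pi.single_eq_of_ne hpp]
          exact Ideal.zero_mem _
      have h0 : algebraMap A A' a = 0 := by
        have : algebraMap A A' a ∈ I.map (algebraMap A A') := Ideal.mem_map_of_mem _ haI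
        rwa [hI, Ideal.mem_bot] at this
      have hx' : x = algebraMap A (Localization.AtPrime p.asIdeal) a := by
        rw [ha', Pi.single_eq_same]
      rw [hx', ← IsScalarTower.algebraMap_apply,
        IsScalarTower.algebraMap_apply A A' (Localization.AtPrime q), h0, map_zero]
    have hflatC' : Module.Flat (Localization.AtPrime q) (Localization.AtPrime q ⊗[A] N) :=
      (hIp p (Localization.AtPrime q)).mpr h1
    have hflatC : Module.Flat (Localization.AtPrime q)
        (Localization.AtPrime q ⊗[A'] (A' ⊗[A] N)) :=
      Module.Flat.of_linearEquiv (TensorProduct.AlgebraTensorModule.cancelBaseChange A A'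
        (Localization.AtPrime q) (Localization.AtPrime q) N)
    have hflatL : Module.Flat (Localization.AtPrime q)
        (LocalizedModule q.primeCompl (A' ⊗[A] N)) :=
      Module.Flat.of_linearEquiv (LocalizedModule.equivTensorProduct q.primeCompl (A' ⊗[A] N))
    exact Module.Flat.trans A' (Localization.AtPrime q) _

end Groth.Agent.H9.UnivFlat
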