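import Groth.Agent.H9.FlatKer
import Groth.Agent.H2.InjModMax
import Mathlib.RingTheory.Flat.Stability
import Mathlib.LinearAlgebra.TensorProduct.RightExactness

/-! Universal flattening ideal, core computation: for a presentation `K → (ι →₀ A) → N → 0` whose
relations lie in `m • ⊤` for a nilpotent ideal `m`, a base change `A' ⊗ N` is flat over `A'` iff the
coefficients of the relations vanish in `A'`. -/

universe u

open TensorProduct

namespace Groth.Agent.H9.UnivFlat

variable {A : Type u} [CommRing A] {ι : Type u} {N : Type u} [AddCommGroup N] [Module A N]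
  {K : Type u} [AddCommGroup K] [Module A K]
  (i : K →ₗ[A] (ι →₀ A)) (π : (ι →₀ A) →ₗ[A] N)

/-- the ideal generated by all coordinates of all relations. -/
def coeffIdeal : Ideal A := Ideal.span {a | ∃ (x : K) (j : ι), a = i x j}

lemma coeff_mem_coeffIdeal (x : K) (j : ι) : i x j ∈ coeffIdeal i :=
  Ideal.subset_span ⟨x, j, rfl⟩

variable (A' : Type u) [CommRing A'] [Algebra A A']

lemma tmul_eq_zero_of_coeff {x : ι →₀ A} (h : ∀ j, algebraMap A A' (x j) = 0) (a' : A') :
    a' ⊗ₜ[A] x = 0 := by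
  classical
  have hx : x = x.sum Finsupp.single := (Finsupp.sum_single x).symm
  rw [hx, Finsupp.sum, TensorProduct.tmul_sum]
  refine Finset.sum_eq_zero fun j _ => ?_
  have h1 : Finsupp.single j (x j) = (x j) • Finsupp.single j (1 : A) := by
    rw [Finsupp.smul_single, smul_eq_mul, mul_one]
  rw [h1, ← TensorProduct.smul_tmul, Algebra.smul_def, h j, zero_mul, TensorProduct.zero_tmul]

variable {i π}

theorem flat_of_map_coeffIdeal_eq_bot (hex : Function.Exact i π) (hπ : Function.Surjective π)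
    (h : (coeffIdeal i).map (algebraMap A A') = ⊥) : Module.Flat A' (A' ⊗[A] N) := by
  have hco : ∀ (x : K) (j : ι), algebraMap A A' (i x j) = 0 := by
    intro x j
    have : algebraMap A A' (i x j) ∈ (coeffIdeal i).map (algebraMap A A') :=
      Ideal.mem_map_of_mem _ (coeff_mem_coeffIdeal i x j)
    rwa [h, Ideal.mem_bot] at this
  have hex' : Function.Exact (LinearMap.lTensor A' i) (LinearMap.lTensor A' π) :=
    lTensor_exact A' hex hπ
  have hzero : ∀ w : A' ⊗[A] K, LinearMap.lTensor A' i w = 0 := by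
    intro w
    induction w using TensorProduct.induction_on with
    | zero => simp
    | tmul a' x =>
      rw [LinearMap.lTensor_tmul]
      exact tmul_eq_zero_of_coeff A' (hco x) a'
    | add a b ha hb => rw [map_add, ha, hb, add_zero]
  have hinj : Function.Injective (π.baseChange A') := by
    rw [← LinearMap.ker_eq_bot, eq_bot_iff]
    intro z hz
    have hz' : LinearMap.lTensor A' π z = 0 := hz
    obtain ⟨w, rfl⟩ := (hex' z).mp hz'
    rw [hzero w]
    exact Submodule.zero_mem _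
  have hsurj : Function.Surjective (π.baseChange A') := LinearMap.lTensor_surjective A' hπ
  let e : (A' ⊗[A] (ι →₀ A)) ≃ₗ[A'] (A' ⊗[A] N) :=
    LinearEquiv.ofBijective (π.baseChange A') ⟨hinj, hsurj⟩
  exact Module.Flat.of_linearEquiv e.symm

lemma tmul_mem_map_smul_top (m : Ideal A) {y : ι →₀ A}
    (hy : y ∈ m • (⊤ : Submodule A (ι →₀ A))) (a' : A') :
    a' ⊗ₜ[A] y ∈ (m.map (algebraMap A A')) • (⊤ : Submodule A' (A' ⊗[A] (ι →₀ A))) := by
  refine Submodule.smul_induction_on hy ?_ ?_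
  · intro r hr y' _
    have : a' ⊗ₜ[A] (r • y') = algebraMap A A' r • (a' ⊗ₜ[A] y') := by
      rw [TensorProduct.tmul_smul, algebraMap_smul]
    rw [this]
    exact Submodule.smul_mem_smul (Ideal.mem_map_of_mem _ hr) Submodule.mem_top
  · intro y₁ y₂ h₁ h₂
    rw [TensorProduct.tmul_add]
    exact Submodule.add_mem _ h₁ h₂

theorem map_coeffIdeal_eq_bot_of_flat (m : Ideal A) (hm : IsNilpotent m)
    (hi : ∀ x, i x ∈ m • (⊤ : Submodule A (ι →₀ A)))
    (hex : Function.Exact i π) (hπ : Function.Surjective π) [Module.Flat A' (A' ⊗[A] N)] :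
    (coeffIdeal i).map (algebraMap A A') = ⊥ := by
  set π' : (A' ⊗[A] (ι →₀ A)) →ₗ[A'] (A' ⊗[A] N) := π.baseChange A' with hπ'
  set K' : Submodule A' (A' ⊗[A] (ι →₀ A)) := LinearMap.ker π' with hK'
  set 𝔪' : Ideal A' := m.map (algebraMap A A') with h𝔪'
  have hex' : Function.Exact (LinearMap.lTensor A' i) (LinearMap.lTensor A' π) :=
    lTensor_exact A' hex hπ
  have hsurj : Function.Surjective π' := LinearMap.lTensor_surjective A' hπ
  -- (a)
  have ha : K' ≤ 𝔪' • (⊤ : Submodule A' (A' ⊗[A] (ι →₀ A))) := by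
    intro z hz
    have hz' : LinearMap.lTensor A' π z = 0 := hz
    obtain ⟨w, rfl⟩ := (hex' z).mp hz'
    induction w using TensorProduct.induction_on with
    | zero => simp
    | tmul a' x =>
      rw [LinearMap.lTensor_tmul]
      exact tmul_mem_map_smul_top A' m (hi x) a'
    | add a b _ _ =>
      rw [map_add]
      have ha' : LinearMap.lTensor A' i a ∈ K' := by
        rw [hK', LinearMap.mem_ker]
        exact hex'.apply_apply_eq_zero a
      have hb' : LinearMap.lTensor A' i b ∈ K' := by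
        rw [hK', LinearMap.mem_ker]
        exact hex'.apply_apply_eq_zero b
      rename_i iha ihb
      exact Submodule.add_mem _ (iha ha' (hex'.apply_apply_eq_zero a))
        (ihb hb' (hex'.apply_apply_eq_zero b))
  -- (b)
  have hinjT :=
    Groth.Agent.H9.lTensor_injective_of_exact_of_isZero_tor_one (R := A') (A' ⧸ 𝔪')
      (A := ↥K') (B := A' ⊗[A] (ι →₀ A)) (C := A' ⊗[A] N) K'.subtype π' K'.injective_subtype (LinearMap.exact_subtype_ker_map π') hsurj
      (Groth.Agent.H9.isZero_tor_one_of_flat_right (R := A') (A' ⧸ 𝔪') (A' ⊗[A] N))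
  have hb : K' ≤ 𝔪' • K' := by
    intro z hz
    have h0 : (1 : A' ⧸ 𝔪') ⊗ₜ[A'] z = 0 :=
      (Groth.Agent.H2.one_tmul_eq_zero_iff_mem_smul_top 𝔪' z).mpr (ha hz)
    have h1 : (1 : A' ⧸ 𝔪') ⊗ₜ[A'] (⟨z, hz⟩ : K') = 0 := by
      apply hinjT
      rw [LinearMap.lTensor_tmul, map_zero]
      exact h0
    have h2 := (Groth.Agent.H2.one_tmul_eq_zero_iff_mem_smul_top 𝔪'
      (⟨z, hz⟩ : K')).mp h1
    exact (Submodule.mem_smul_top_iff 𝔪' K' ⟨z, hz⟩).mp h2
  -- (c)
  have hc : ∀ n : ℕ, K' ≤ 𝔪' ^ n • K' := by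
    intro n
    induction n with
    | zero => rw [pow_zero, Ideal.one_eq_top, Submodule.top_smul]
    | succ n ih =>
      calc K' ≤ 𝔪' • K' := hb
        _ ≤ 𝔪' • (𝔪' ^ n • K') := Submodule.smul_mono le_rfl ih
        _ = 𝔪' ^ (n + 1) • K' := by rw [← Submodule.mul_smul, ← pow_succ']
  obtain ⟨r, hr⟩ := hm
  have hK0 : K' = ⊥ := by
    rw [eq_bot_iff]
    refine (hc r).trans ?_
    rw [h𝔪', ← Ideal.map_pow, hr, Ideal.zero_eq_bot, Ideal.map_bot, Submodule.bot_smul]
  -- (d)
  rw [coeffIdeal, Ideal.map_span, Ideal.span_eq_bot]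
  rintro _ ⟨_, ⟨x, j, rfl⟩, rfl⟩
  have hmem : (1 : A') ⊗ₜ[A] (i x) ∈ K' := by
    rw [hK', LinearMap.mem_ker, hπ', LinearMap.baseChange_tmul, hex.apply_apply_eq_zero,
      TensorProduct.tmul_zero]
  rw [hK0, Submodule.mem_bot] at hmem
  have h3 := congrArg ((TensorProduct.rid A A').toLinearMap ∘ₗ
    LinearMap.lTensor A' (Finsupp.lapply j : (ι →₀ A) →ₗ[A] A)) hmem
  simpa [Algebra.algebraMap_eq_smul_one] using h3

end Groth.Agent.H9.UnivFlat
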